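import Groth.Agent.DerComp.K779.Sec
import Groth.Agent.PerfA.TildeAbs

/-!
# The free modules `j_{U!} O_U` generate the derived category of a ringed site
-/

set_option autoImplicit false

universe u

open CategoryTheory CategoryTheory.Limits Opposite Pretriangulated

attribute [local instance] HasDerivedCategory.standard

namespace K779.Gen

open Sec Groth.Agent.PerfA.PostAbs Groth.Agent.PerfA.TildeAbs

variable {C : Type u} [SmallCategory C] {J : GrothendieckTopology C} (O : Sheaf J CommRingCat.{u})

/-- a class of objects such that every object has a covering sieve by members of the class. -/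
def Covering (J : GrothendieckTopology C) (B : C → Prop) : Prop :=
  ∀ U : C, ∃ S ∈ J U, ∀ ⦃V : C⦄ (g : V ⟶ U), S g → B V

theorem covering_true : Covering J (fun _ => True) := fun U => ⟨⊤, J.top_mem U, fun _ _ _ => trivial⟩

variable {O} in
theorem eq_zero_of_locally {F : ModSite.Mod O} {U : C} (x : F.val.obj (op U)) (S : Sieve U)
    (hS : S ∈ J U) (h : ∀ ⦃V : C⦄ (g : V ⟶ U), S g → F.val.map g.op x = 0) : x = 0 := by
  have hsep : Presheaf.IsSeparated J F.val.presheaf := F.isSheaf.isSeparated
  refine hsep U S hS _ _ fun V f hf => ?_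
  refine (h f hf).trans ?_
  exact (map_zero (F.val.map f.op).hom).symm

variable {O} in
theorem eq_of_locally {F : ModSite.Mod O} {U : C} (x y : F.val.obj (op U)) (S : Sieve U)
    (hS : S ∈ J U) (h : ∀ ⦃V : C⦄ (g : V ⟶ U), S g → F.val.map g.op x = F.val.map g.op y) : x = y := by
  have hsep : Presheaf.IsSeparated J F.val.presheaf := F.isSheaf.isSeparated
  exact hsep U S hS _ _ fun V f hf => h f hf

/-- the class of the free modules `j_{U!} O_U`, for `U` in `B`. -/
def freeP (B : C → Prop) : ObjectProperty (ModSite.Mod O) := fun F => ∃ U : C, B U ∧ F = ModSite.freeOn O U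

theorem detects (B : C → Prop) (hB : Covering J B) : Detects (freeP O B) := by
  intro F G f hf
  by_contra hcon
  push Not at hcon
  apply hf
  ext X x
  obtain ⟨S, hS, hS'⟩ := hB X.unop
  refine eq_zero_of_locally (F := G) (U := X.unop) _ S hS fun V g hg => ?_
  let y : F.val.obj (op V) := F.val.map g.op x
  have h1 : (sec O V F).symm y ≫ f = 0 := hcon (ModSite.freeOn O V) ⟨V, hS' g hg, rfl⟩ ((sec O V F).symm y)
  have h2 := sec_comp O V ((sec O V F).symm y) f
  rw [h1, map_zero, AddEquiv.apply_symm_apply] at h2
  refine Eq.trans ?_ h2.symm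
  exact (PresheafOfModules.naturality_apply f.val g.op x).symm

/-- An object of `D(O)` is zero if `H^n(V, K) = 0` for all `n` and all `V` in a covering class. -/
theorem isZero_of_subsingleton (B : C → Prop) (hB : Covering J B) (K : DerivedCategory (ModSite.Mod O))
    (h : ∀ V, B V → ∀ n : ℤ, Subsingleton (SiteCmp.inD O (ModSite.freeOn O V) ⟶ K⟦n⟧)) : IsZero K := by
  refine isZero_of_hom_single (detects O B hB) K ?_
  rintro m _ ⟨V, hV, rfl⟩ φ
  let e := ((DerivedCategory.singleFunctors (ModSite.Mod O)).shiftIso m 0 m (by simp)).app (ModSite.freeOn O V)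
  apply (shiftFunctor (DerivedCategory (ModSite.Mod O)) m).map_injective
  rw [Functor.map_zero, ← cancel_epi e.inv, comp_zero]
  exact (h V hV m).elim _ _

end K779.Gen
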