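import Groth.Agent.DerComp.K779.Tri2

/-!
# Detecting completeness

If a class of objects detects vanishing in a linear triangulated category, then it detects completeness.
-/

set_option autoImplicit false

universe t

open CategoryTheory CategoryTheory.Limits Pretriangulated

namespace K779.Tri3

open Tri K230.DCSeq

variable {R : Type t} [CommRing R] {D : Type*} [Category* D] [HasZeroObject D] [HasShift D ℤ] [Preadditive D]
  [∀ n : ℤ, (shiftFunctor D n).Additive] [Pretriangulated D] [Linear R D]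
  [∀ n : ℤ, (shiftFunctor D n).Linear R]

variable (R) in
include R in
theorem hom_eq_zero_of_bijective {T : Triangle D} (hT : T ∈ distTriang D) (Y : D)
    (h : ∀ n : ℤ, Function.Bijective (fun g : Y ⟶ T.obj₁⟦n⟧ => g ≫ T.mor₁⟦n⟧')) (n : ℤ)
    (g : Y ⟶ T.obj₃⟦n⟧) : g = 0 := by
  have surj : ∀ x : Y⟦-n⟧ ⟶ T.obj₂, ∃ y : Y⟦-n⟧ ⟶ T.obj₁, y ≫ T.mor₁ = x := by
    intro x
    obtain ⟨y, hy⟩ := (h n).2 (shEq R Y T.obj₂ n x)
    obtain ⟨y', rfl⟩ := (shEq R Y T.obj₁ n).surjective y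
    refine ⟨y', (shEq R Y T.obj₂ n).injective ?_⟩
    rw [shEq_comp]
    exact hy
  have inj : ∀ x : Y⟦-n⟧ ⟶ T.obj₁⟦(1 : ℤ)⟧, x ≫ T.mor₁⟦(1 : ℤ)⟧' = 0 → x = 0 := by
    intro x hx
    apply (shEq R Y _ n).injective
    rw [map_zero]
    have h1 : shEq R Y _ n x ≫ (T.mor₁⟦(1 : ℤ)⟧')⟦n⟧' = 0 := by
      rw [← shEq_comp, hx, map_zero]
    let y : Y ⟶ T.obj₁⟦1 + n⟧ := shEq R Y _ n x ≫ (shiftFunctorAdd' D 1 n (1 + n) rfl).inv.app T.obj₁
    have h2 : y ≫ T.mor₁⟦1 + n⟧' = 0 := by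
      have h3 := (shiftFunctorAdd' D 1 n (1 + n) rfl).inv.naturality T.mor₁
      change (_ ≫ _) ≫ _ = 0
      rw [Category.assoc, ← h3, ← Category.assoc]
      exact (congrArg (fun t => t ≫ _) h1).trans zero_comp
    have h4 : y = 0 := (h (1 + n)).1 (by
      change y ≫ T.mor₁⟦1 + n⟧' = 0 ≫ _
      rw [h2, zero_comp])
    rw [← cancel_mono ((shiftFunctorAdd' D 1 n (1 + n) rfl).inv.app T.obj₁), zero_comp]
    exact h4
  obtain ⟨g', rfl⟩ := (shEq R Y T.obj₃ n).surjective g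
  suffices hg : g' = 0 by rw [hg, map_zero]
  have h5 : g' ≫ T.mor₃ = 0 := inj _ (by
    rw [Category.assoc, comp_distTriang_mor_zero₃₁ _ hT, comp_zero])
  obtain ⟨x, rfl⟩ := Triangle.coyoneda_exact₃ _ hT g' h5
  obtain ⟨y, rfl⟩ := surj x
  rw [Category.assoc, comp_distTriang_mor_zero₁₂ _ hT, comp_zero]

/-- Completeness is detected by a class of objects detecting vanishing. -/
theorem cpl_of_detect (s : R) (K : D) [HasProduct fun _ : ℕ => K] (P : D → Prop)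
    (hP : ∀ Z : D, (∀ Y, P Y → ∀ n : ℤ, Subsingleton (Y ⟶ Z⟦n⟧)) → IsZero Z)
    (h : ∀ Y, P Y → ∀ n : ℤ, DC s (Y ⟶ K⟦n⟧)) : Cpl s K := by
  rw [cpl_iff_isIso_oneSub]
  obtain ⟨Z, v, w, hT⟩ := distinguished_cocone_triangle (oneSub K s)
  refine (Triangle.isZero₃_iff_isIso₁ _ hT).1 (hP Z fun Y hY n => ?_)
  have key : ∀ m : ℤ, Function.Bijective
      (fun g : Y ⟶ (Pw K)⟦m⟧ => g ≫ (oneSub K s)⟦m⟧') := by
    intro m
    have h1 : DC s (Y⟦-m⟧ ⟶ K) := (h Y hY m).of_equiv (shEq R Y K m).symm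
    have h2 : Function.Bijective (fun g : Y⟦-m⟧ ⟶ Pw K => g ≫ oneSub K s) := by
      have h3 : (ev K (Y⟦-m⟧)) ∘ (fun g : Y⟦-m⟧ ⟶ Pw K => g ≫ oneSub K s) =
          (fun (x : ℕ → (Y⟦-m⟧ ⟶ K)) (k : ℕ) => x k - s • x (k + 1)) ∘ (ev K (Y⟦-m⟧)) := by
        funext g k
        change (g ≫ oneSub K s) ≫ pr K k = g ≫ pr K k - s • (g ≫ pr K (k + 1))
        rw [oneSub, Category.assoc, Preadditive.sub_comp, Category.id_comp, Preadditive.comp_sub,
          Linear.smul_comp, sgP_π, Linear.comp_smul]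
      rw [← Function.Bijective.of_comp_iff' (ev K (Y⟦-m⟧)).bijective, h3]
      exact h1.comp (ev K (Y⟦-m⟧)).bijective
    have h4 : (fun g : Y ⟶ (Pw K)⟦m⟧ => g ≫ (oneSub K s)⟦m⟧') ∘ (shEq R Y (Pw K) m) =
        (shEq R Y (Pw K) m) ∘ (fun g : Y⟦-m⟧ ⟶ Pw K => g ≫ oneSub K s) := by
      funext g
      exact (shEq_comp Y m g (oneSub K s)).symm
    rw [← Function.Bijective.of_comp_iff _ (shEq R Y (Pw K) m).bijective, h4]
    exact (shEq R Y (Pw K) m).bijective.comp h2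
  exact ⟨fun a b => by
    rw [hom_eq_zero_of_bijective R hT Y key n a, hom_eq_zero_of_bijective R hT Y key n b]⟩

end K779.Tri3
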