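import Groth.Agent.DerComp.K779.Trans
import Groth.Agent.DerComp.K779.Tri3
import Groth.Agent.DerComp.K779.Gen
import Groth.Agent.CohtopA.DerProd

/-!
# Derived completeness is local

* `hasProduct_pow`: products in `D(O)`;
* `hc_of_locally`: completeness of all `H^n(V, K)` for `V → U` in a covering sieve gives completeness of `H^n(U, K)`;
* `isDerComp_iff_hc`: derived completeness in terms of the cohomology groups `H^n(U, K)`.
-/

set_option autoImplicit false

universe u

open CategoryTheory CategoryTheory.Limits Opposite Pretriangulated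

attribute [local instance] HasDerivedCategory.standard

namespace K779.Local

open Sec HU Tri Tri3 Gen K230.DCSeq
open _root_.K779.Trans

variable {C : Type u} [SmallCategory C] {J : GrothendieckTopology C} (O : Sheaf J CommRingCat.{u})

instance hasProductsOfShape (T : Type u) : HasProductsOfShape T (DerivedCategory (ModSite.Mod O)) := by
  have := K578.Der.isGrothendieckAbelian O
  exact Groth.Agent.CohtopA.DerProd.hasLimitsOfShape_discrete.{u + 1, u} (ModSite.Mod O) T

instance hasProductsOfShape_nat : HasProductsOfShape ℕ (DerivedCategory (ModSite.Mod O)) := by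
  have := K578.Der.isGrothendieckAbelian O
  have : HasLimitsOfShape (Discrete ℕ) (ModSite.Mod O) :=
    hasLimitsOfShape_of_equivalence (Discrete.equivalence (Equiv.ulift.{u, 0} (α := ℕ)))
  exact Groth.Agent.CohtopA.DerProd.hasLimitsOfShape_discrete.{u + 1, u} (ModSite.Mod O) ℕ

/-- the objects `j_{U!} O_U[0]` of the derived category, for `U` in a class. -/
def FreeP (B : C → Prop) (Y : DerivedCategory (ModSite.Mod O)) : Prop :=
  ∃ V : C, B V ∧ Y = SiteCmp.inD O (ModSite.freeOn O V)

theorem detects_freeP (B : C → Prop) (hB : Covering J B) (Z : DerivedCategory (ModSite.Mod O))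
    (h : ∀ Y, FreeP O B Y → ∀ n : ℤ, Subsingleton (Y ⟶ Z⟦n⟧)) : IsZero Z :=
  isZero_of_subsingleton O B hB Z fun V hV n => h _ ⟨V, hV, rfl⟩ n

/-- completeness is detected by the cohomology groups over a covering class of objects -/
theorem cpl_of_hc {B : C → Prop} (hB : Covering J B) (s : DerComp.GSec O) (K : DerivedCategory (ModSite.Mod O))
    (h : ∀ V, B V → ∀ n : ℤ, HC O K V (s.1 V) n) : Cpl s K := by
  refine cpl_of_detect s K (FreeP O B) (detects_freeP O B hB) ?_
  rintro Y ⟨V, hV, rfl⟩ n
  exact (hc_iff_dc_smul K V s n).1 (h V hV n)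

/-- the members of a covering sieve form a covering class of the localised site -/
theorem covering_over {U : C} (S : Sieve U) (hS : S ∈ J U) :
    Covering (J.over U) (fun W : Over U => S W.hom) := by
  intro W
  refine ⟨Sieve.overEquiv W |>.symm (S.pullback W.hom), ?_, ?_⟩
  · rw [GrothendieckTopology.mem_over_iff]
    refine ((congrArg (· ∈ J W.left) ((Sieve.overEquiv W).apply_symm_apply (S.pullback W.hom))).symm).mp ?_
    exact J.pullback_stable _ hS
  · intro W' g hg
    have h1 : (S.pullback W.hom) g.left := by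
      have := (Sieve.overEquiv_symm_iff (S.pullback W.hom) g).1 hg
      exact this
    have h2 : S (g.left ≫ W.hom) := h1
    rwa [Over.w g] at h2

theorem ofSect_apply {U : C} (f : O.obj.obj (op U)) (W : Over U) :
    (DerComp.GSec.ofSect O U f).1 W = ov W ((O.obj.map W.hom.op).hom f) := rfl

/-- **Locality** of completeness. -/
theorem hc_of_locally (K : DerivedCategory (ModSite.Mod O)) {U : C} (f : O.obj.obj (op U)) (S : Sieve U)
    (hS : S ∈ J U) (h : ∀ ⦃V : C⦄ (g : V ⟶ U), S g → ∀ n : ℤ, HC O K V ((O.obj.map g.op).hom f) n) (n : ℤ) :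
    HC O K U f n := by
  rw [hc_iff_dc]
  have h1 : Cpl (DerComp.GSec.ofSect O U f) ((restrD O U).obj K) :=
    cpl_of_hc (O.over U) (covering_over S hS) _ _ (fun W hW n => by
      rw [ofSect_apply]
      exact (hc_restr_iff O K U W _ n).2 (h W.hom hW n))
  exact h1.shift n _

/-- derived completeness in terms of the groups `H^n(U, K)` -/
theorem isDerComp_iff_hc (I : DerComp.IdealSh O) (K : DerivedCategory (ModSite.Mod O)) :
    DerComp.IsDerComp O I K ↔ ∀ (U : C) (f : O.obj.obj (op U)), f ∈ I.ideal U → ∀ n : ℤ, HC O K U f n :=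
  forall_congr' fun U => forall_congr' fun f => forall_congr' fun _ => subsingleton_iff O K U f

variable {O}

theorem ofSect_zero (U : C) : DerComp.GSec.ofSect O U 0 = 0 := Subtype.ext (funext fun _ => map_zero _)

theorem ofSect_add (U : C) (f g : O.obj.obj (op U)) :
    DerComp.GSec.ofSect O U (f + g) = DerComp.GSec.ofSect O U f + DerComp.GSec.ofSect O U g :=
  Subtype.ext (funext fun _ => map_add _ _ _)

theorem ofSect_mul (U : C) (f g : O.obj.obj (op U)) :
    DerComp.GSec.ofSect O U (f * g) = DerComp.GSec.ofSect O U f * DerComp.GSec.ofSect O U g :=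
  Subtype.ext (funext fun _ => map_mul _ _ _)

variable (O)

/-- the ideal of sections `f ∈ O(U)` for which all `H^n(U, K)` are complete -/
def hcIdeal (K : DerivedCategory (ModSite.Mod O)) (U : C) : Ideal (O.obj.obj (op U)) where
  carrier := {f | ∀ n : ℤ, HC O K U f n}
  zero_mem' n := by
    rw [hc_iff_dc, ofSect_zero]
    exact dc_zero _
  add_mem' {f g} hf hg n := by
    rw [hc_iff_dc, ofSect_add]
    exact DC.add ((hc_iff_dc O K U f n).1 (hf n)) ((hc_iff_dc O K U g n).1 (hg n))
  smul_mem' g f hf n := by
    rw [smul_eq_mul, hc_iff_dc, ofSect_mul]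
    exact DC.mul_left ((hc_iff_dc O K U f n).1 (hf n)) _

theorem mem_hcIdeal {K : DerivedCategory (ModSite.Mod O)} {U : C} {f : O.obj.obj (op U)} :
    f ∈ hcIdeal O K U ↔ ∀ n : ℤ, HC O K U f n := Iff.rfl

/-- the sheaf of ideals of sections `f` such that `K` is derived complete with respect to `f`. -/
def hcSh (K : DerivedCategory (ModSite.Mod O)) : DerComp.IdealSh O where
  ideal U := ⨅ (V : C) (g : V ⟶ U), (hcIdeal O K V).comap (O.obj.map g.op).hom
  map_mem {U V} g f hf := by
    simp only [Ideal.mem_iInf, Ideal.mem_comap] at hf ⊢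
    intro W h
    have h1 := hf W (h ≫ g)
    rwa [op_comp, Functor.map_comp, CommRingCat.hom_comp, RingHom.comp_apply] at h1
  glue {U f} S hS h := by
    simp only [Ideal.mem_iInf, Ideal.mem_comap] at h ⊢
    intro V g
    rw [mem_hcIdeal]
    refine hc_of_locally O K _ (S.pullback g) (J.pullback_stable g hS) fun W k hk => ?_
    have h1 := h (k ≫ g) hk W (𝟙 W)
    rw [mem_hcIdeal] at h1
    intro n
    have h2 := h1 n
    rw [op_id, O.obj.map_id, CommRingCat.hom_id, RingHom.id_apply, op_comp, Functor.map_comp,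
      CommRingCat.hom_comp, RingHom.comp_apply] at h2
    exact h2

theorem mem_hcSh {K : DerivedCategory (ModSite.Mod O)} {U : C} {f : O.obj.obj (op U)} :
    f ∈ (hcSh O K).ideal U ↔ ∀ (V : C) (g : V ⟶ U) (n : ℤ), HC O K V ((O.obj.map g.op).hom f) n := by
  simp only [hcSh, Ideal.mem_iInf, Ideal.mem_comap, mem_hcIdeal]

/-- derived completeness with respect to `I` means `I ≤ hcSh K` -/
theorem isDerComp_iff_le (I : DerComp.IdealSh O) (K : DerivedCategory (ModSite.Mod O)) :
    DerComp.IsDerComp O I K ↔ I ≤ hcSh O K := by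
  rw [isDerComp_iff_hc]
  constructor
  · intro h U f hf
    rw [mem_hcSh]
    intro V g n
    exact h V _ (I.map_mem g hf) n
  · intro h U f hf n
    have h1 := (mem_hcSh O).1 (h U hf) U (𝟙 U) n
    rwa [op_id, O.obj.map_id, CommRingCat.hom_id, RingHom.id_apply] at h1

end K779.Local
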