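import Groth.Agent.DerComp.K779.PL3
import Groth.Agent.DerComp.K779.Local
import Groth.Agent.SiteCmp.K578.LerayPush

/-!
# Cohomology of `Rf_*` for a morphism of ringed sites

* `acyc_freeOn`, `exists_epi_acyc`: the free modules are acyclic for `f_*`, and there are enough acyclic objects;
* `psi f V : freeOn (fn V) ≅ f^* (freeOn V)`;
* `eqP f K V n : H^n(fn V, K) ≃+ H^n(V, Rf_* K)`, compatible with scalars;
* `hc_push_iff`.
-/

set_option autoImplicit false

universe u

open CategoryTheory CategoryTheory.Limits Opposite Pretriangulated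

attribute [local instance] HasDerivedCategory.standard

namespace K779.Push

open Sec HU Gen PL _root_.K779.Trans

section Coprod

variable {C : Type u} [SmallCategory C] {J : GrothendieckTopology C} (O : Sheaf J CommRingCat.{u})

/-- the canonical epimorphism from a direct sum of free modules -/
noncomputable def cover (M : ModSite.Mod O) :
    (∐ fun p : (Σ U : C, M.val.obj (op U)) => ModSite.freeOn O p.1) ⟶ M :=
  Sigma.desc fun p => (sec O p.1 M).symm p.2

instance epi_cover (M : ModSite.Mod O) : Epi (cover O M) := by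
  constructor
  intro Z g h hgh
  by_contra hne
  obtain ⟨P, ⟨V, -, rfl⟩, φ, hφ⟩ := detects O (fun _ => True) covering_true (g - h) (sub_ne_zero.2 hne)
  apply hφ
  have h1 : φ = Sigma.ι (fun p : (Σ U : C, M.val.obj (op U)) => ModSite.freeOn O p.1) ⟨V, sec O V M φ⟩ ≫
      cover O M := by
    rw [cover, Sigma.ι_desc]
    exact ((sec O V M).symm_apply_apply φ).symm
  rw [h1, Category.assoc, Preadditive.comp_sub, hgh, sub_self, comp_zero]

/-- morphisms out of a direct sum, in the derived category -/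
theorem subsingleton_coprod {ι : Type u} (X : ι → ModSite.Mod O) (Z : DerivedCategory (ModSite.Mod O))
    (h : ∀ i, Subsingleton (SiteCmp.inD O (X i) ⟶ Z)) : Subsingleton (SiteCmp.inD O (∐ X) ⟶ Z) := by
  have := Groth.Agent.CohtopB.DCoprod.preservesColimitsOfShape_singleFunctor (A := ModSite.Mod O) (ι := ι) 0
  let hc := isColimitOfHasCoproductOfPreservesColimit (DerivedCategory.singleFunctor (ModSite.Mod O) 0) X
  exact ⟨fun a b => Cofan.IsColimit.hom_ext hc _ _ (fun i => (h i).elim _ _)⟩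

end Coprod

variable {C : Type u} [SmallCategory C] {J : GrothendieckTopology C} {O_C : Sheaf J CommRingCat.{u}}
    {D : Type u} [SmallCategory D] {K : GrothendieckTopology D} {O_D : Sheaf K CommRingCat.{u}}
    (f : ModSite.RMor O_C O_D)

/-- the two versions of the free module on an object agree -/
noncomputable def freeIso (V : D) : ModSite.freeOn O_D V ≅ (K578.PushComp.PO O_D).obj V :=
  isoOfEquiv (fun F => (K578.ModTest.homEq (ModSite.ringSh O_D) V F).trans (sec O_D V F).toEquiv.symm) (by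
    intro F G φ ψ
    apply (sec O_D V G).injective
    refine ((sec O_D V G).apply_symm_apply _).trans ?_
    rw [K578.ModTest.homEq_comp, sec_comp]
    exact congrArg _ ((sec O_D V F).apply_symm_apply _).symm)

theorem acyc_freeOn (V : D) : Acyc f.push (ModSite.freeOn O_D V) := by
  have h : Acyc f.push ((K578.PushComp.PO O_D).obj V) := by
    intro I _ n
    have : HasExt.{u + 1} (ModSite.Mod O_D) := HasExt.standard _
    have h1 := K578.LerayPush.subsingleton_ext_push.{u + 1} f I V n
    exact ⟨fun a b => (Groth.Agent.CohtopB.DTrunc.single_hom_eq_zero _ (f.push.obj I) 0 _ (n + 1) (by simp) h1 a).trans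
      (Groth.Agent.CohtopB.DTrunc.single_hom_eq_zero _ (f.push.obj I) 0 _ (n + 1) (by simp) h1 b).symm⟩
  exact Acyc.of_iso (freeIso V).symm h

theorem acyc_coprod {ι : Type u} (V : ι → D) : Acyc f.push (∐ fun i => ModSite.freeOn O_D (V i)) :=
  fun I _ n => subsingleton_coprod O_D _ _ fun i => acyc_freeOn f (V i) I n

theorem exists_epi_acyc (X : ModSite.Mod O_D) : ∃ (Y : ModSite.Mod O_D) (c : Y ⟶ X), Acyc f.push Y ∧ Epi c :=
  ⟨_, cover O_D X, acyc_coprod f _, inferInstance⟩

/-- The bijection between morphisms out of `f^* (freeOn V)` and sections over `fn V`. -/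
noncomputable def secP (V : D) (M : ModSite.Mod O_C) :
    (f.pull.obj (ModSite.freeOn O_D V) ⟶ M) ≃ M.val.obj (op (f.fn.obj V)) :=
  (f.adj.homEquiv _ _).trans (sec O_D V (f.push.obj M)).toEquiv

theorem secP_comp (V : D) {M N : ModSite.Mod O_C} (φ : f.pull.obj (ModSite.freeOn O_D V) ⟶ M) (ψ : M ⟶ N) :
    secP f V N (φ ≫ ψ) = (ψ.val.app _).hom (secP f V M φ) := by
  change sec O_D V _ (f.adj.homEquiv _ _ (φ ≫ ψ)) = _
  rw [Adjunction.homEquiv_naturality_right, sec_comp]
  rfl

/-- the ring map on sections -/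
noncomputable def sh (V : D) (g : O_D.obj.obj (op V)) : O_C.obj.obj (op (f.fn.obj V)) :=
  (f.sharp.hom.app (op V)).hom g

theorem secP_mul (V : D) {M : ModSite.Mod O_C} (g : O_D.obj.obj (op V))
    (φ : f.pull.obj (ModSite.freeOn O_D V) ⟶ M) :
    secP f V M (f.pull.map (mul O_D V g) ≫ φ) = sc (sh f V g) • secP f V M φ := by
  change sec O_D V _ (f.adj.homEquiv _ _ (_ ≫ φ)) = _
  rw [Adjunction.homEquiv_naturality_left, sec_mul]
  rfl

theorem secP_he (V : D) {F G : ModSite.Mod O_C} (φ : f.pull.obj (ModSite.freeOn O_D V) ⟶ F) (ψ : F ⟶ G) :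
    ((secP f V G).trans (sec O_C (f.fn.obj V) G).toEquiv.symm) (φ ≫ ψ) =
      ((secP f V F).trans (sec O_C (f.fn.obj V) F).toEquiv.symm) φ ≫ ψ := by
  apply (sec O_C (f.fn.obj V) G).injective
  refine ((sec O_C (f.fn.obj V) G).apply_symm_apply (secP f V G (φ ≫ ψ))).trans ?_
  rw [secP_comp, sec_comp]
  exact congrArg _ ((sec O_C (f.fn.obj V) F).apply_symm_apply (secP f V F φ)).symm

/-- `freeOn (fn V) ≅ f^* (freeOn V)`. -/
noncomputable def psi (V : D) : ModSite.freeOn O_C (f.fn.obj V) ≅ f.pull.obj (ModSite.freeOn O_D V) :=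
  isoOfEquiv (fun F => (secP f V F).trans (sec O_C (f.fn.obj V) F).toEquiv.symm) (secP_he f V)

theorem sec_psi (V : D) {F : ModSite.Mod O_C} (φ : f.pull.obj (ModSite.freeOn O_D V) ⟶ F) :
    sec O_C (f.fn.obj V) F ((psi f V).hom ≫ φ) = secP f V F φ :=
  (congrArg (sec O_C (f.fn.obj V) F) (isoOfEquiv_hom_comp _ (secP_he f V) φ)).trans
    ((sec O_C (f.fn.obj V) F).apply_symm_apply (secP f V F φ))

theorem mul_psi (V : D) (g : O_D.obj.obj (op V)) :
    mul O_C (f.fn.obj V) (sh f V g) ≫ (psi f V).hom = (psi f V).hom ≫ f.pull.map (mul O_D V g) := by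
  apply (sec O_C (f.fn.obj V) _).injective
  rw [sec_mul]
  have h1 := sec_psi f V (𝟙 _)
  rw [Category.comp_id] at h1
  have h2 := secP_mul f V g (𝟙 (f.pull.obj (ModSite.freeOn O_D V)))
  rw [Category.comp_id] at h2
  rw [sec_psi, h1]
  exact h2.symm

theorem psi_mul (V : D) (g : O_D.obj.obj (op V)) :
    (psi f V).inv ≫ mul O_C (f.fn.obj V) (sh f V g) = f.pull.map (mul O_D V g) ≫ (psi f V).inv := by
  rw [Iso.inv_comp_eq, ← Category.assoc, ← mul_psi, Category.assoc, Iso.hom_inv_id, Category.comp_id]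

section Gen

variable {F : ModSite.Mod O_C ⥤ ModSite.Mod O_D} [F.Additive] (adj : f.pull ⊣ F)
  (RF : DerivedCategory (ModSite.Mod O_C) ⥤ DerivedCategory (ModSite.Mod O_D))
  (β : F.mapHomotopyCategory (ComplexShape.up ℤ) ⋙ DerivedCategory.Qh ⟶ DerivedCategory.Qh ⋙ RF)
  (hF : ∀ V : D, Acyc F (ModSite.freeOn O_D V))
  (hβ : ∀ J : CochainComplex (ModSite.Mod O_C) ℤ, J.IsKInjective →
    IsIso (β.app ((HomotopyCategory.quotient _ _).obj J)))
  [RF.Additive] [RF.CommShift ℤ]

instance additive_pull : f.pull.Additive := f.adj.left_adjoint_additive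

include hF in
theorem exists_epi (X : ModSite.Mod O_D) : ∃ (Y : ModSite.Mod O_D) (c : Y ⟶ X), Acyc F Y ∧ Epi c :=
  ⟨_, cover O_D X, fun I _ n => subsingleton_coprod O_D _ _ fun p => hF p.1 I n, inferInstance⟩

theorem enoughInj : EnoughInjectives (ModSite.Mod O_C) := K578.Der.enoughInjectives O_C

/-- `H^n(fn V, K) ≃+ H^n(V, RF K)`. -/
noncomputable def eqG (M : DerivedCategory (ModSite.Mod O_C)) (V : D) (n : ℤ) :
    (SiteCmp.inD O_C (ModSite.freeOn O_C (f.fn.obj V)) ⟶ M⟦n⟧) ≃+
      (SiteCmp.inD O_D (ModSite.freeOn O_D V) ⟶ (RF.obj M)⟦n⟧) :=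
  AddEquiv.trans
    { toFun := fun x => (DerivedCategory.singleFunctor (ModSite.Mod O_C) 0).map (psi f V).inv ≫ x
      invFun := fun x => (DerivedCategory.singleFunctor (ModSite.Mod O_C) 0).map (psi f V).hom ≫ x
      left_inv := fun x => by
        simp only []
        rw [← Functor.map_comp_assoc, Iso.hom_inv_id, CategoryTheory.Functor.map_id, Category.id_comp]
      right_inv := fun x => by
        simp only []
        rw [← Functor.map_comp_assoc, Iso.inv_hom_id, CategoryTheory.Functor.map_id, Category.id_comp]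
      map_add' := fun x y => Preadditive.comp_add _ _ _ _ _ _ }
    (haveI := enoughInj (O_C := O_C)
     eqN adj RF β (K578.Der.hasKInj O_C) (exists_epi hF) hβ (ModSite.freeOn O_D V) (hF V) M n)

theorem eqG_opr (M : DerivedCategory (ModSite.Mod O_C)) (V : D) (g : O_D.obj.obj (op V)) (n : ℤ)
    (x : SiteCmp.inD O_C (ModSite.freeOn O_C (f.fn.obj V)) ⟶ M⟦n⟧) :
    eqG f adj RF β hF hβ M V n (opr O_C (f.fn.obj V) (sh f V g) _ x) =
      opr O_D V g _ (eqG f adj RF β hF hβ M V n x) := by
  haveI := enoughInj (O_C := O_C)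
  change eqN adj RF β (K578.Der.hasKInj O_C) (exists_epi hF) hβ (ModSite.freeOn O_D V) (hF V) M n
    ((DerivedCategory.singleFunctor (ModSite.Mod O_C) 0).map (psi f V).inv ≫
      (DerivedCategory.singleFunctor (ModSite.Mod O_C) 0).map (mul O_C (f.fn.obj V) (sh f V g)) ≫ x) = _
  rw [← Functor.map_comp_assoc, psi_mul, Functor.map_comp_assoc]
  exact eqN_naturality adj RF β (K578.Der.hasKInj O_C) (exists_epi hF) hβ (hF V) (hF V) (mul O_D V g) M n _

include adj β hF hβ in
theorem hc_iff (M : DerivedCategory (ModSite.Mod O_C)) (V : D) (g : O_D.obj.obj (op V)) (n : ℤ) :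
    HC O_D (RF.obj M) V g n ↔ HC O_C M (f.fn.obj V) (sh f V g) n :=
  (bijective_congr (eqG f adj RF β hF hβ M V n) (opr O_C (f.fn.obj V) (sh f V g) _) (opr O_D V g _)
    (eqG_opr f adj RF β hF hβ M V g n)).symm

end Gen

variable [SiteCmp.HasRpushD f]

theorem rpush_additive : (SiteCmp.RpushD f).Additive := by
  letI := K578.Der.rpushCommShift f
  haveI := K578.Der.rpush_isTriangulated f
  infer_instance

theorem hc_push_iff (M : DerivedCategory (ModSite.Mod O_C)) (V : D) (g : O_D.obj.obj (op V)) (n : ℤ) :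
    HC O_D ((SiteCmp.RpushD f).obj M) V g n ↔ HC O_C M (f.fn.obj V) (sh f V g) n := by
  letI := K578.Der.rpushCommShift f
  haveI := K578.Der.rpush_isTriangulated f
  exact hc_iff f f.adj (SiteCmp.RpushD f) (K578.Der.rpushUnit f) (acyc_freeOn f)
    (K578.Der.isIso_rpushUnit_app f) M V g n

end K779.Push
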