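import Groth.Agent.DerComp.K779.BousLift
import Mathlib.Algebra.Homology.DerivedCategory.ShortExact
import Mathlib.CategoryTheory.Triangulated.Yoneda

/-!
# Bousfield localisation of the derived category of a Grothendieck category at a set of objects

For a small family `P i` of objects of `D(A)`, every object `X` sits in a distinguished triangle `T ⟶ X ⟶ Y ⟶ T⟦1⟧`
with `Hom(P i, Y⟦n⟧) = 0` for all `i, n` and `Hom(T, Z⟦n⟧) = 0` for every object `Z` with this property.
-/

set_option autoImplicit false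

universe w' w v u

open CategoryTheory CategoryTheory.Limits Pretriangulated HomologicalComplex
open CochainComplex.HomComplex ZeroObject

namespace K779.Bous

open BousLift Groth.Agent.CohtopA Groth.Agent.CohtopA.KInjRes Groth.Agent.CohtopA.KInjRes2
open Groth.Agent.CohtopA.TrivCof MorphismProperty

section SmallObj

variable {C : Type u} [Category.{v} C] [Abelian C] [IsGrothendieckAbelian.{w} C]

/-- A small family of monomorphisms permits the small object argument. -/
theorem hasSmallObjectArgument (I : MorphismProperty C) [MorphismProperty.IsSmall.{w} I]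
    (hI : I ≤ monomorphisms C) : HasSmallObjectArgument.{w} I := by
  obtain ⟨ι, K, L, f, rfl⟩ := (MorphismProperty.isSmall_iff_eq_ofHoms.{w} I).1 inferInstance
  obtain ⟨κ, hκ', hκ⟩ := HasCardinalLT.exists_regular_cardinal.{w}
    (Σ i : ι, Shrink.{w} (Subobject (K i)))
  have : Fact κ.IsRegular := ⟨hκ'⟩
  have : Nonempty κ.ord.ToType := by simpa using hκ'.ne_zero
  have := WellFoundedLT.toOrderBot κ.ord.ToType
  exact ⟨κ, inferInstance, inferInstance,
    { preservesColimit {K' L' X Y} i hi g hg := by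
        let hg' : (monomorphisms C).TransfiniteCompositionOfShape
          κ.ord.ToType g :=
          { toTransfiniteCompositionOfShape := hg.toTransfiniteCompositionOfShape
            map_mem j hj := by
              have := (hg.attachCells j hj).pushouts_coproducts
              simp only [ofHoms_homFamily] at this
              refine (?_ : _ ≤ monomorphisms C) _ this
              simp only [pushouts_le_iff, coproducts_le_iff]
              exact hI }
        have (j j' : κ.ord.ToType) (φ : j ⟶ j') : Mono (hg'.F.map φ) := hg'.mem_map φ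
        apply IsGrothendieckAbelian.preservesColimit_coyoneda_obj_of_mono (Y := hg'.F) (κ := κ)
        obtain ⟨i⟩ := hi
        exact hκ.of_injective (fun S ↦ (⟨i, equivShrink _ S⟩ : Σ i : ι, Shrink.{w} (Subobject (K i))))
            (fun S₁ S₂ h ↦ by simpa using h) }⟩

end SmallObj

variable {A : Type u} [Category.{v} A] [Abelian A]

section

variable {ι : Type w} (P : ι → CochainComplex A ℤ)

/-- the generating morphisms attached to a family of complexes: the inclusions of the shifts in their cones. -/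
def genP : MorphismProperty (CochainComplex A ℤ) :=
  MorphismProperty.ofHoms (fun p : ι × ℤ => CochainComplex.mappingCone.inr (𝟙 ((P p.1)⟦p.2⟧)))

theorem genP_mono : genP P ≤ monomorphisms _ := by
  rintro _ _ _ ⟨p⟩
  exact inferInstanceAs (Mono _)

variable [IsGrothendieckAbelian.{w} A]

/-- the generating morphisms for the fibrant objects that are right orthogonal to the family. -/
def gen : MorphismProperty (CochainComplex A ℤ) := genTrivCof.{w} A ⊔ genP P

instance : MorphismProperty.IsSmall.{w} (gen P) := by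
  have h1 : MorphismProperty.IsSmall.{w} (genP P) := by
    dsimp [genP]
    infer_instance
  have h2 : ∀ b : Bool, MorphismProperty.IsSmall.{w} (cond b (genTrivCof.{w} A) (genP P)) := by
    rintro (_ | _)
    · exact h1
    · exact inferInstanceAs (MorphismProperty.IsSmall.{w} (genTrivCof.{w} A))
  rw [gen, sup_eq_iSup]
  infer_instance

theorem gen_mono : gen P ≤ monomorphisms _ := by
  refine sup_le ?_ (genP_mono P)
  exact (genTrivCof_le A).trans inf_le_left

instance : HasSmallObjectArgument.{w} (gen P) := hasSmallObjectArgument _ (gen_mono P)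

theorem llp_rlp_gen_mono : (gen P).rlp.llp ≤ monomorphisms _ := by
  rw [llp_rlp_of_hasSmallObjectArgument]
  trans (transfiniteCompositions.{w} (coproducts.{w} (monomorphisms (CochainComplex A ℤ))).pushouts).retracts
  · apply retracts_monotone
    apply transfiniteCompositions_monotone
    apply pushouts_monotone
    apply coproducts_monotone
    exact gen_mono P
  · simp

end

section

variable {D : Type u} [Category.{v} D]

theorem subsingleton_shift [HasShift D ℤ] {X Y : D} (h : ∀ n : ℤ, Subsingleton (X ⟶ Y⟦n⟧)) (a b : ℤ) :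
    Subsingleton (X⟦a⟧ ⟶ Y⟦b⟧) := by
  refine ⟨fun f g => ?_⟩
  apply (shiftFunctor D (-a)).map_injective
  rw [← cancel_epi ((shiftFunctorCompIsoId D a (-a) (by simp)).inv.app X),
    ← cancel_mono ((shiftFunctorAdd' D b (-a) (b + -a) rfl).inv.app Y)]
  exact (h (b + -a)).elim _ _

theorem subsingleton_of_iso {X X' Y Y' : D} (e : X ≅ X') (e' : Y ≅ Y') (h : Subsingleton (X ⟶ Y)) :
    Subsingleton (X' ⟶ Y') := by
  refine ⟨fun f g => ?_⟩
  rw [← cancel_epi e.hom, ← cancel_mono e'.inv]
  exact h.elim _ _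

end

section

variable [HasDerivedCategory.{w'} A]

theorem subsingleton_Q {W L : CochainComplex A ℤ} [L.IsKInjective]
    (h : ∀ φ : W ⟶ L, Nonempty (Homotopy φ 0)) :
    Subsingleton (DerivedCategory.Q.obj W ⟶ DerivedCategory.Q.obj L) := by
  refine ⟨fun f g => ?_⟩
  have key : ∀ f : DerivedCategory.Q.obj W ⟶ DerivedCategory.Q.obj L, f = 0 := by
    intro f
    obtain ⟨f', hf'⟩ := (CochainComplex.IsKInjective.Qh_map_bijective
      ((HomotopyCategory.quotient A (ComplexShape.up ℤ)).obj W) L).surjective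
      ((DerivedCategory.quotientCompQhIso A).hom.app W ≫ f ≫
        (DerivedCategory.quotientCompQhIso A).inv.app L)
    obtain ⟨φ, rfl⟩ := (HomotopyCategory.quotient A (ComplexShape.up ℤ)).map_surjective f'
    obtain ⟨hφ⟩ := h φ
    rw [HomotopyCategory.eq_of_homotopy _ _ hφ, Functor.map_zero, Functor.map_zero] at hf'
    rw [← cancel_epi ((DerivedCategory.quotientCompQhIso A).hom.app W), comp_zero,
      ← cancel_mono ((DerivedCategory.quotientCompQhIso A).inv.app L), zero_comp, Category.assoc]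
    exact hf'.symm
  rw [key f, key g]

theorem homotopy_of_subsingleton {W L : CochainComplex A ℤ} [L.IsKInjective]
    (h : Subsingleton (DerivedCategory.Q.obj W ⟶ DerivedCategory.Q.obj L)) (φ : W ⟶ L) :
    Nonempty (Homotopy φ 0) :=
  homotopy_of_map_eq_zero φ (h.elim _ _)

theorem isZero_Q {K : CochainComplex A ℤ} (hK : K.Acyclic) : IsZero (DerivedCategory.Q.obj K) := by
  have h0 : (0 : CochainComplex A ℤ).Acyclic := fun n => by
    rw [HomologicalComplex.exactAt_iff_isZero_homology]
    exact (HomologicalComplex.homologyFunctor A (ComplexShape.up ℤ) n).map_isZero (isZero_zero _)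
  have := quasiIso_of_acyclic (0 : K ⟶ 0) hK h0
  exact (DerivedCategory.Q.map_isZero (isZero_zero _)).of_iso
    (asIso (DerivedCategory.Q.map (0 : K ⟶ 0)))

/-- the cokernel of the inclusion of a complex in its cone is the shift. -/
theorem nonempty_cokernel_inr (K : CochainComplex A ℤ) :
    Nonempty (DerivedCategory.Q.obj (cokernel (CochainComplex.mappingCone.inr (𝟙 K))) ≅
      (DerivedCategory.Q.obj K)⟦(1 : ℤ)⟧) := by
  let S := ShortComplex.mk (CochainComplex.mappingCone.inr (𝟙 K)) (cokernel.π _) (cokernel.condition _)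
  have hS : S.ShortExact := { exact := ShortComplex.exact_cokernel _ }
  have hT := DerivedCategory.triangleOfSES_distinguished hS
  have h2 : IsZero (DerivedCategory.triangleOfSES hS).obj₂ := isZero_Q (acyclic_mappingCone_id K)
  have h3 := ((DerivedCategory.triangleOfSES hS).isZero₂_iff_isIso₃ hT).1 h2
  exact ⟨@asIso _ _ _ _ (DerivedCategory.triangleOfSES hS).mor₃ h3⟩

variable {ι : Type w} (P : ι → CochainComplex A ℤ)

/-- K-injective complexes with injective terms, right orthogonal to all shifts of the complexes `P i`. -/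
structure FibP (Z : CochainComplex A ℤ) : Prop where
  kinj : Z.IsKInjective
  inj : ∀ n, Injective (Z.X n)
  orth : ∀ i (n : ℤ), Subsingleton (DerivedCategory.Q.obj (P i) ⟶ (DerivedCategory.Q.obj Z)⟦n⟧)

variable {P}

theorem FibP.shift {Z : CochainComplex A ℤ} (hZ : FibP P Z) (m : ℤ) : FibP P (Z⟦m⟧) where
  kinj := by
    have := hZ.kinj
    infer_instance
  inj n := hZ.inj (n + m)
  orth i n := subsingleton_of_iso (Iso.refl _)
    (((shiftFunctorAdd (DerivedCategory A) m n).app _) ≪≫
      (shiftFunctor _ n).mapIso ((DerivedCategory.Q.commShiftIso m).app Z).symm) (hZ.orth i (m + n))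

/-- The epimorphism `cone(𝟙 Z) ⟶ Z⟦1⟧`. -/
noncomputable def conePr (Z : CochainComplex A ℤ) : CochainComplex.mappingCone (𝟙 Z) ⟶ Z⟦(1 : ℤ)⟧ :=
  (CochainComplex.mappingCone.triangleRotateShortComplex (𝟙 Z)).g

theorem cone_rlp [IsGrothendieckAbelian.{w} A] {Z : CochainComplex A ℤ} (hZ : FibP P Z) :
    (gen P).rlp (conePr Z) := by
  intro K L i hi
  have := hZ.kinj
  have hmono : Mono i := gen_mono P _ hi
  have key : ∀ φ : cokernel i ⟶ Z⟦(1 : ℤ)⟧, Nonempty (Homotopy φ 0) := by
    rcases hi with hi | hi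
    · have h2 := genTrivCof_le A _ hi
      intro φ
      exact CochainComplex.IsKInjective.nonempty_homotopy_zero φ ((quasiIso_iff_acyclic_cokernel i).1 h2.2)
    · obtain ⟨p⟩ := hi
      refine homotopy_of_subsingleton ?_
      obtain ⟨e⟩ := nonempty_cokernel_inr ((P p.1)⟦p.2⟧)
      refine subsingleton_of_iso
        ((shiftFunctorAdd (DerivedCategory A) p.2 1).app _ ≪≫ (shiftFunctor _ (1 : ℤ)).mapIso
          ((DerivedCategory.Q.commShiftIso p.2).app (P p.1)).symm ≪≫ e.symm)
        ((DerivedCategory.Q.commShiftIso (1 : ℤ)).app Z).symm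
        (subsingleton_shift (hZ.orth p.1) (p.2 + 1) 1)
  exact hasLiftingProperty i _ (CochainComplex.mappingCone.triangleRotateShortComplexSplitting (𝟙 Z))
    hZ.inj key

variable [IsGrothendieckAbelian.{w} A]

/-- maps from the cokernel of a cofibration generated by `gen P` to fibrant orthogonal objects are homotopic to zero. -/
theorem homotopy_of_llp {X Y : CochainComplex A ℤ} (i : X ⟶ Y) (hi : (gen P).rlp.llp i)
    {Z : CochainComplex A ℤ} (hZ : FibP P Z) (φ : cokernel i ⟶ Z⟦(1 : ℤ)⟧) :
    Nonempty (Homotopy φ 0) := by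
  have hl : HasLiftingProperty i (conePr Z) := hi _ (cone_rlp hZ)
  have sq : CommSq (0 : X ⟶ CochainComplex.mappingCone (𝟙 Z)) i (conePr Z) (cokernel.π i ≫ φ) :=
      ⟨by rw [zero_comp, cokernel.condition_assoc, zero_comp]⟩
  have h1 : cokernel.desc i sq.lift sq.fac_left ≫ conePr Z = φ := by
    rw [← cancel_epi (cokernel.π i), cokernel.π_desc_assoc]
    exact sq.fac_right
  have h2 : Homotopy (𝟙 (CochainComplex.mappingCone (𝟙 Z))) 0 :=
    CochainComplex.mappingCone.homotopyToZeroOfId Z
  have h3 := (h2.compLeft (cokernel.desc i sq.lift sq.fac_left)).compRight (conePr Z)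
  refine ⟨(Homotopy.ofEq ?_).trans (h3.trans (Homotopy.ofEq ?_))⟩
  · rw [Category.comp_id, h1]
  · rw [comp_zero, zero_comp]

theorem fibP_of_rlp {Y : CochainComplex A ℤ} (hY : (gen P).rlp (0 : Y ⟶ 0)) : FibP P Y := by
  have hF : Fibrant Y := by
    have h1 : (trivCof A).rlp (0 : Y ⟶ 0) := by
      rw [← genTrivCof_rlp.{w}]
      exact antitone_rlp le_sup_left _ hY
    intro K L i hi hi' f
    have : HasLiftingProperty i (0 : Y ⟶ 0) := h1 _ ⟨hi, hi'⟩
    have sq : CommSq f i (0 : Y ⟶ 0) 0 := ⟨(isZero_zero _).eq_of_tgt _ _⟩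
    exact ⟨sq.lift, sq.fac_left⟩
  have hK := hF.isKInjective
  refine ⟨hF.isKInjective, hF.injective, fun i n => ?_⟩
  have h2 : Subsingleton (DerivedCategory.Q.obj ((P i)⟦-n⟧) ⟶ DerivedCategory.Q.obj Y) := by
    refine subsingleton_Q fun φ => ?_
    have : HasLiftingProperty (CochainComplex.mappingCone.inr (𝟙 ((P i)⟦-n⟧))) (0 : Y ⟶ 0) :=
      hY _ (le_sup_right (a := genTrivCof.{w} A) _ (MorphismProperty.ofHoms.mk (f := fun p : ι × ℤ =>
        CochainComplex.mappingCone.inr (𝟙 ((P p.1)⟦p.2⟧))) (i, -n)))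
    have sq : CommSq φ (CochainComplex.mappingCone.inr (𝟙 ((P i)⟦-n⟧))) (0 : Y ⟶ 0) 0 :=
      ⟨(isZero_zero _).eq_of_tgt _ _⟩
    have h3 := ((CochainComplex.mappingCone.homotopyToZeroOfId ((P i)⟦-n⟧)).compLeft
      (CochainComplex.mappingCone.inr (𝟙 ((P i)⟦-n⟧)))).compRight sq.lift
    refine ⟨(Homotopy.ofEq ?_).trans (h3.trans (Homotopy.ofEq ?_))⟩
    · rw [Category.comp_id, sq.fac_left]
    · rw [comp_zero, zero_comp]
  refine ⟨fun f g => ?_⟩
  apply (shiftFunctor _ (-n)).map_injective
  rw [← cancel_mono ((shiftFunctorCompIsoId (DerivedCategory A) n (-n) (by simp)).hom.app _),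
    ← cancel_epi ((DerivedCategory.Q.commShiftIso (-n)).hom.app (P i))]
  exact h2.elim _ _

variable (P) in
/-- Bousfield localisation, at the level of complexes. -/
theorem exists_triangle_Q (X : CochainComplex A ℤ) :
    ∃ (T : DerivedCategory A) (Y : CochainComplex A ℤ) (f : T ⟶ DerivedCategory.Q.obj X)
      (g : DerivedCategory.Q.obj X ⟶ DerivedCategory.Q.obj Y) (h : DerivedCategory.Q.obj Y ⟶ T⟦(1 : ℤ)⟧),
      (Triangle.mk f g h ∈ distTriang _) ∧ FibP P Y ∧
      ∀ Z : CochainComplex A ℤ, FibP P Z → ∀ n : ℤ,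
        Subsingleton (T ⟶ (DerivedCategory.Q.obj Z)⟦n⟧) := by
  let d := MorphismProperty.factorizationData (gen P).rlp.llp (gen P).rlp (0 : X ⟶ 0)
  have hmono : Mono d.i := llp_rlp_gen_mono P _ d.hi
  let S := ShortComplex.mk d.i (cokernel.π d.i) (cokernel.condition _)
  have hS : S.ShortExact := { exact := ShortComplex.exact_cokernel _ }
  have hT := DerivedCategory.triangleOfSES_distinguished hS
  have hinv := inv_rot_of_distTriang _ hT
  refine ⟨(DerivedCategory.Q.obj (cokernel d.i))⟦(-1 : ℤ)⟧, d.Z, _, _, _, hinv, ?_, ?_⟩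
  · apply fibP_of_rlp
    have h0 : (0 : d.Z ⟶ 0) = d.p := (isZero_zero _).eq_of_tgt _ _
    rw [h0]
    exact d.hp
  · intro Z hZ n
    have := hZ.kinj
    refine subsingleton_shift (fun m => ?_) (-1) n
    refine subsingleton_of_iso (Iso.refl _) ?_ (subsingleton_Q (homotopy_of_llp d.i d.hi (hZ.shift (m - 1))))
    exact (DerivedCategory.Q.mapIso ((shiftFunctorAdd' (CochainComplex A ℤ) (m - 1) 1 m (by simp)).app Z)).symm
      ≪≫ (DerivedCategory.Q.commShiftIso m).app Z

/-- **Bousfield localisation** of `D(A)` at a small family of objects. -/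
theorem exists_triangle (P : ι → DerivedCategory A) (X : DerivedCategory A) :
    ∃ (T Y : DerivedCategory A) (f : T ⟶ X) (g : X ⟶ Y) (h : Y ⟶ T⟦(1 : ℤ)⟧),
      (Triangle.mk f g h ∈ distTriang _) ∧ (∀ i (n : ℤ), Subsingleton (P i ⟶ Y⟦n⟧)) ∧
      ∀ Z : DerivedCategory A, (∀ i (n : ℤ), Subsingleton (P i ⟶ Z⟦n⟧)) → ∀ n : ℤ,
        Subsingleton (T ⟶ Z⟦n⟧) := by
  let P₀ : ι → CochainComplex A ℤ := fun i => DerivedCategory.Q.objPreimage (P i)
  let eP : ∀ i, DerivedCategory.Q.obj (P₀ i) ≅ P i := fun i => DerivedCategory.Q.objObjPreimageIso (P i)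
  let X₀ := DerivedCategory.Q.objPreimage X
  let eX : DerivedCategory.Q.obj X₀ ≅ X := DerivedCategory.Q.objObjPreimageIso X
  obtain ⟨T, Y, f, g, h, hT, hY, hZ⟩ := exists_triangle_Q P₀ X₀
  refine ⟨T, DerivedCategory.Q.obj Y, f ≫ eX.hom, eX.inv ≫ g, h, ?_, ?_, ?_⟩
  · refine isomorphic_distinguished _ hT _ (Triangle.isoMk _ _ (Iso.refl T) eX.symm
      (Iso.refl (DerivedCategory.Q.obj Y)) ?_ ?_ ?_)
    · change (f ≫ eX.hom) ≫ eX.inv = 𝟙 T ≫ f
      simp
    · change (eX.inv ≫ g) ≫ 𝟙 _ = eX.inv ≫ g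
      simp
    · change h ≫ (shiftFunctor (DerivedCategory A) (1 : ℤ)).map (𝟙 T) = 𝟙 _ ≫ h
      simp
  · intro i n
    exact subsingleton_of_iso (eP i) (Iso.refl _) (hY.orth i n)
  · intro Z hZ' n
    obtain ⟨I, u, h1, h2, -, h3⟩ := exists_kInjective_resolution.{w} (DerivedCategory.Q.objPreimage Z)
    have e : DerivedCategory.Q.obj I ≅ Z :=
      (asIso (DerivedCategory.Q.map u)).symm ≪≫ DerivedCategory.Q.objObjPreimageIso Z
    exact subsingleton_of_iso (Iso.refl _) ((shiftFunctor _ n).mapIso e)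
      (hZ I ⟨h1, h3, fun i m => subsingleton_of_iso (eP i).symm ((shiftFunctor _ m).mapIso e.symm) (hZ' i m)⟩ n)

end

end K779.Bous
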