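import Mathlib.CategoryTheory.Adjunction.Comma
import Mathlib.CategoryTheory.Triangulated.Yoneda
import Mathlib.CategoryTheory.ObjectProperty.FullSubcategory

/-!
# Reflections onto full subcategories of triangulated categories
-/

set_option autoImplicit false

universe v u

open CategoryTheory CategoryTheory.Limits Pretriangulated

namespace K779.Refl

variable {D : Type u} [Category.{v} D]

/-- A full subcategory such that every object has a reflection is reflective. -/
theorem isRightAdjoint_ι (Pr : ObjectProperty D)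
    (h : ∀ X : D, ∃ (Y : D) (_ : Pr Y) (g : X ⟶ Y), ∀ Z, Pr Z →
      Function.Bijective (fun u : Y ⟶ Z => g ≫ u)) : Pr.ι.IsRightAdjoint := by
  have : ∀ A : D, HasInitial (StructuredArrow A Pr.ι) := by
    intro X
    obtain ⟨Y, hY, g, hg⟩ := h X
    let X₀ : StructuredArrow X Pr.ι := StructuredArrow.mk (Y := (⟨Y, hY⟩ : Pr.FullSubcategory)) g
    have h1 : ∀ Z : StructuredArrow X Pr.ι, Nonempty (X₀ ⟶ Z) := by
      intro Z
      obtain ⟨u, hu⟩ := (hg Z.right.obj Z.right.property).2 Z.hom
      exact ⟨StructuredArrow.homMk (ObjectProperty.homMk u) hu⟩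
    have h2 : ∀ Z : StructuredArrow X Pr.ι, Subsingleton (X₀ ⟶ Z) := by
      intro Z
      refine ⟨fun a b => ?_⟩
      ext
      apply (hg Z.right.obj Z.right.property).1
      exact (StructuredArrow.w a).trans (StructuredArrow.w b).symm
    exact hasInitial_of_unique X₀
  exact isRightAdjointOfStructuredArrowInitials _

section

variable [HasZeroObject D] [Preadditive D] [HasShift D ℤ]
  [∀ n : ℤ, (shiftFunctor D n).Additive] [Pretriangulated D]

/-- In a triangle `T ⟶ X ⟶ Y ⟶ T⟦1⟧` with `Hom(T, Z⟦n⟧) = 0` for `n = 0, -1`, morphisms to `Z` from `X` and `Y` agree. -/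
theorem bijective_of_triangle {T X Y Z : D} {f : T ⟶ X} {g : X ⟶ Y} {h : Y ⟶ T⟦(1 : ℤ)⟧}
    (hT : Triangle.mk f g h ∈ distTriang _) (hZ : ∀ n : ℤ, Subsingleton (T ⟶ Z⟦n⟧)) :
    Function.Bijective (fun u : Y ⟶ Z => g ≫ u) := by
  constructor
  · intro a b hab
    dsimp only at hab
    rw [← sub_eq_zero] at hab ⊢
    rw [← Preadditive.comp_sub] at hab
    obtain ⟨c, hc⟩ := Triangle.yoneda_exact₃ _ hT (a - b) hab
    have h1 : ∀ c : T⟦(1 : ℤ)⟧ ⟶ Z, c = 0 := by
      intro c
      apply (shiftFunctor D (-1 : ℤ)).map_injective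
      rw [← cancel_epi ((shiftFunctorCompIsoId D (1 : ℤ) (-1) (by simp)).inv.app T)]
      exact (hZ (-1)).elim _ _
    have h2 : c = 0 := h1 c
    rw [hc, h2]
    exact comp_zero
  · intro a
    have h0 : f ≫ a = 0 := by
      rw [← cancel_mono ((shiftFunctorZero D ℤ).inv.app Z)]
      exact (hZ 0).elim _ _
    obtain ⟨c, hc⟩ := Triangle.yoneda_exact₂ _ hT a h0
    exact ⟨c, hc.symm⟩

end

end K779.Refl
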