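import Groth.Agent.DerComp.K779.Bous
import Groth.Agent.DerComp.K779.Refl
import Groth.Agent.SiteCmp.K578.Der
import Groth.Prelude.Def_DerComp

/-!
# Derived completion on a ringed site exists (for every sheaf of ideals)

`D_comp(O, I)` is the right orthogonal of a set of objects of `D(O)`, so it is the subcategory of local objects of a
Bousfield localisation.
-/

set_option autoImplicit false

universe u

open CategoryTheory CategoryTheory.Limits Opposite Pretriangulated

attribute [local instance] HasDerivedCategory.standard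

namespace K779.Compl

variable {C : Type u} [SmallCategory C] {J : GrothendieckTopology C} (O : Sheaf J CommRingCat.{u})
  (I : DerComp.IdealSh O)

/-- the index set of the generators of the torsion part -/
abbrev Idx : Type u := Σ U : C, {f : O.obj.obj (op U) // f ∈ I.ideal U}

/-- the generators `j_{U!} O_{U,f}`, `f ∈ I(U)`. -/
noncomputable def genObj (i : Idx O I) : DerivedCategory (ModSite.Mod O) :=
  SiteCmp.inD O ((ModSite.extZero O i.1).obj (DerComp.awayOver O i.1 i.2.1))

theorem isDerComp_iff (K : DerivedCategory (ModSite.Mod O)) :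
    DerComp.IsDerComp O I K ↔ ∀ (i : Idx O I) (n : ℤ), Subsingleton (genObj O I i ⟶ K⟦n⟧) :=
  ⟨fun h i n => h i.1 i.2.1 i.2.2 n, fun h U f hf n => h ⟨U, f, hf⟩ n⟩

/-- Objects left orthogonal to all derived complete objects. -/
def Tors : ObjectProperty (DerivedCategory (ModSite.Mod O)) := fun T =>
  ∀ Z : DerivedCategory (ModSite.Mod O), DerComp.IsDerComp O I Z → ∀ n : ℤ, Subsingleton (T ⟶ Z⟦n⟧)

/-- The completion triangle. -/
theorem exists_triangle (X : DerivedCategory (ModSite.Mod O)) :
    ∃ (T Y : DerivedCategory (ModSite.Mod O)) (f : T ⟶ X) (g : X ⟶ Y) (h : Y ⟶ T⟦(1 : ℤ)⟧),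
      (Triangle.mk f g h ∈ distTriang _) ∧ DerComp.IsDerComp O I Y ∧ Tors O I T := by
  have := K578.Der.isGrothendieckAbelian O
  obtain ⟨T, Y, f, g, h, hT, hY, hZ⟩ := Bous.exists_triangle.{u + 1, u} (genObj O I) X
  exact ⟨T, Y, f, g, h, hT, (isDerComp_iff O I Y).2 hY, fun Z hZ' => hZ Z ((isDerComp_iff O I Z).1 hZ')⟩

/-- **Derived completion exists**. -/
theorem hasDerCompletion : DerComp.HasDerCompletion O I := by
  refine Refl.isRightAdjoint_ι _ fun X => ?_
  obtain ⟨T, Y, f, g, h, hT, hY, hZ⟩ := exists_triangle O I X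
  exact ⟨Y, hY, g, fun Z hZ' => Refl.bijective_of_triangle hT (hZ Z hZ')⟩

end K779.Compl
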