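import Groth.Prelude.Def_DerComp

/-!
# Sections of modules on a ringed site as morphisms out of the free modules `j_{U!} O_U`
-/

set_option autoImplicit false

universe u

open CategoryTheory CategoryTheory.Limits Opposite

namespace K779.Sec

variable {C : Type u} [SmallCategory C] {J : GrothendieckTopology C} (O : Sheaf J CommRingCat.{u})

/-- the unique arrow from the final object of `C/U` (in the opposite category) -/
noncomputable def fromTop (U : C) (V : (Over U)ᵒᵖ) : op (Over.mk (𝟙 U)) ⟶ V :=
  ((Over.mkIdTerminal (X := U)).from V.unop).op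

theorem fromTop_comp (U : C) {V W : (Over U)ᵒᵖ} (f : V ⟶ W) : fromTop U V ≫ f = fromTop U W := by
  apply Quiver.Hom.unop_inj
  exact (Over.mkIdTerminal (X := U)).hom_ext _ _

theorem fromTop_top (U : C) : fromTop U (op (Over.mk (𝟙 U))) = 𝟙 _ := by
  apply Quiver.Hom.unop_inj
  exact (Over.mkIdTerminal (X := U)).hom_ext _ _

variable {O} in
/-- the global section determined by a section over the final object of `C/U`. -/
noncomputable def ext (U : C) (F : ModSite.Mod (O.over U))
    (x : F.val.obj (op (Over.mk (𝟙 U)))) : F.sections :=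
  F.val.sectionsMk (fun V => F.val.map (fromTop U V) x)
      (fun V W f => by
        refine (PresheafOfModules.map_comp_apply F.val (fromTop U V) f x).symm.trans ?_
        rw [fromTop_comp])

/-- Morphisms `O_U ⟶ F` are sections of `F` over the final object of `C/U`. -/
noncomputable def secOver (U : C) (F : ModSite.Mod (O.over U)) :
    (ModSite.unit (O.over U) ⟶ F) ≃+ F.val.obj (op (Over.mk (𝟙 U))) where
  toFun φ := (φ.val.app (op (Over.mk (𝟙 U)))).hom (1 : (ModSite.ringSh (O.over U)).obj.obj _)
  invFun x := (SheafOfModules.unitHomEquiv F).symm (ext U F x)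
  left_inv φ := by
    apply (SheafOfModules.unitHomEquiv F).injective
    rw [Equiv.apply_symm_apply]
    apply Subtype.ext
    funext V
    change F.val.map (fromTop U V) _ = (φ.val.app V).hom (1 : (ModSite.ringSh (O.over U)).obj.obj V)
    have h := PresheafOfModules.naturality_apply φ.val (fromTop U V)
      (1 : (ModSite.ringSh (O.over U)).obj.obj _)
    refine h.symm.trans ?_
    refine congrArg _ ?_
    exact map_one ((ModSite.ringSh (O.over U)).obj.map (fromTop U V)).hom
  right_inv x := by
    have h := congrArg (fun s => s.1 (op (Over.mk (𝟙 U))))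
      ((SheafOfModules.unitHomEquiv F).apply_symm_apply (ext U F x))
    refine Eq.trans h ?_
    change F.val.map (fromTop U (op (Over.mk (𝟙 U)))) x = x
    rw [fromTop_top]
    exact congrArg (fun t => t x) (congrArg (fun t => t.hom) (F.val.map_id _))
  map_add' φ ψ := rfl

theorem secOver_comp (U : C) {F G : ModSite.Mod (O.over U)} (φ : ModSite.unit (O.over U) ⟶ F)
    (ψ : F ⟶ G) : secOver O U G (φ ≫ ψ) = (ψ.val.app _).hom (secOver O U F φ) := rfl

/-- multiplication by a global section of `O_U` corresponds to scalar multiplication of sections -/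
theorem secOver_smul (U : C) {F : ModSite.Mod (O.over U)} (s : DerComp.GSec (O.over U))
    (φ : ModSite.unit (O.over U) ⟶ F) :
    secOver O U F (DerComp.smulEnd s _ ≫ φ) =
      DerComp.GSec.val' s (op (Over.mk (𝟙 U))) • secOver O U F φ := by
  rw [DerComp.smulEnd_comm]
  rfl

variable {O} in
/-- a section of `O` as a scalar acting on sections of modules. -/
abbrev sc {U : C} (f : O.obj.obj (op U)) : (ModSite.ringSh O).obj.obj (op U) := f

/-- Morphisms `j_{U!} O_U ⟶ F` are sections of `F` over `U`. -/
noncomputable def sec (U : C) (F : ModSite.Mod O) :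
    (ModSite.freeOn O U ⟶ F) ≃+ F.val.obj (op U) where
  toEquiv := ((ModSite.extZeroAdj O U).homEquiv _ _).trans (secOver O U ((ModSite.restr O U).obj F)).toEquiv
  map_add' φ ψ := by
    change (secOver O U _) ((ModSite.extZeroAdj O U).homEquiv _ _ (φ + ψ)) =
      (secOver O U _) ((ModSite.extZeroAdj O U).homEquiv _ _ φ) +
      (secOver O U _) ((ModSite.extZeroAdj O U).homEquiv _ _ ψ)
    rw [Adjunction.homEquiv_unit, Adjunction.homEquiv_unit, Adjunction.homEquiv_unit, ← map_add]
    congr 1

theorem sec_comp (U : C) {F G : ModSite.Mod O} (φ : ModSite.freeOn O U ⟶ F) (ψ : F ⟶ G) :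
    sec O U G (φ ≫ ψ) = (ψ.val.app _).hom (sec O U F φ) := by
  change (secOver O U _) ((ModSite.extZeroAdj O U).homEquiv _ _ (φ ≫ ψ)) = _
  rw [Adjunction.homEquiv_naturality_right]
  rfl

/-- multiplication by `f ∈ O(U)` on `j_{U!} O_U`. -/
noncomputable def mul (U : C) (f : O.obj.obj (op U)) : ModSite.freeOn O U ⟶ ModSite.freeOn O U :=
  (ModSite.extZero O U).map (DerComp.smulEnd (DerComp.GSec.ofSect O U f) (ModSite.unit (O.over U)))

theorem sec_mul (U : C) {F : ModSite.Mod O} (f : O.obj.obj (op U)) (φ : ModSite.freeOn O U ⟶ F) :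
    sec O U F (mul O U f ≫ φ) = sc f • sec O U F φ := by
  change (secOver O U _) ((ModSite.extZeroAdj O U).homEquiv _ _ (_ ≫ φ)) = _
  rw [mul, Adjunction.homEquiv_naturality_left, secOver_smul]
  have h : DerComp.GSec.val' (DerComp.GSec.ofSect O U f) (op (Over.mk (𝟙 U))) = f := by
    change (O.obj.map (𝟙 U : U ⟶ U).op).hom f = f
    rw [op_id, O.obj.map_id]
    rfl
  rw [h]
  rfl

end K779.Sec
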