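import Groth.Agent.DerComp.K779.Tri

/-!
# Completion of objects of linear triangulated categories: existence

* `cpl_iff_isIso_oneSub`;
* `exists_completion`: the completion triangle for one scalar;
* `Gen l`: the objects finitely built from objects on which some scalar of `l` is invertible;
* `exists_completion_list`: the completion triangle for a finite set of scalars.
-/

set_option autoImplicit false
set_option linter.unusedSectionVars false

universe t v u

open CategoryTheory CategoryTheory.Limits Pretriangulated ZeroObject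

namespace K779.Tri

open K230.DCSeq SeqAlg

variable {R : Type t} [CommRing R] {D : Type u} [Category.{v} D] [HasZeroObject D] [HasShift D ℤ] [Preadditive D]
  [∀ n : ℤ, (shiftFunctor D n).Additive] [Pretriangulated D] [Linear R D] [∀ n : ℤ, (shiftFunctor D n).Linear R]

section Prod

variable (K : D) [HasProduct fun _ : ℕ => K]

/-- the countable power -/
noncomputable abbrev Pw : D := ∏ᶜ fun _ : ℕ => K

/-- the projections -/
noncomputable abbrev pr (n : ℕ) : Pw K ⟶ K := Pi.π (fun _ : ℕ => K) n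

/-- the right shift -/
noncomputable def rsP : Pw K ⟶ Pw K := Pi.lift fun n => Nat.casesOn n 0 (fun m => pr K m)

/-- the left shift -/
noncomputable def sgP : Pw K ⟶ Pw K := Pi.lift fun n => pr K (n + 1)

/-- the inclusion of the component `0`. -/
noncomputable def ι₀ : K ⟶ Pw K := Pi.lift fun n => Nat.casesOn n (𝟙 K) (fun _ => 0)

@[reassoc] theorem rsP_zero : rsP K ≫ pr K 0 = 0 := Pi.lift_π _ _
@[reassoc] theorem rsP_succ (n : ℕ) : rsP K ≫ pr K (n + 1) = pr K n := by rw [rsP, Pi.lift_π]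
@[reassoc] theorem sgP_π (n : ℕ) : sgP K ≫ pr K n = pr K (n + 1) := by rw [sgP, Pi.lift_π]
@[reassoc] theorem ι₀_zero : ι₀ K ≫ pr K 0 = 𝟙 K := Pi.lift_π _ _
@[reassoc] theorem ι₀_succ (n : ℕ) : ι₀ K ≫ pr K (n + 1) = 0 := by rw [ι₀, Pi.lift_π]

theorem rsP_sgP : rsP K ≫ sgP K = 𝟙 _ := by
  apply Pi.hom_ext
  intro n
  rw [Category.assoc, sgP_π, rsP_succ, Category.id_comp]

theorem ι₀_sgP : ι₀ K ≫ sgP K = 0 := by
  apply Pi.hom_ext
  intro n
  rw [Category.assoc, sgP_π, ι₀_succ, zero_comp]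

theorem rsP_pr : pr K 0 ≫ ι₀ K + sgP K ≫ rsP K = 𝟙 _ := by
  apply Pi.hom_ext
  intro n
  rw [Preadditive.add_comp, Category.assoc, Category.assoc, Category.id_comp]
  cases n with
  | zero => rw [ι₀_zero, rsP_zero, comp_zero, add_zero, Category.comp_id]
  | succ n => rw [ι₀_succ, rsP_succ, comp_zero, zero_add, sgP_π]

/-- `1 - s σ` -/
noncomputable def oneSub (s : R) : Pw K ⟶ Pw K := 𝟙 _ - s • sgP K

/-- `t - s` -/
noncomputable def tSub (s : R) : Pw K ⟶ Pw K := rsP K - s • 𝟙 _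

theorem tSub_sgP (s : R) : tSub K s ≫ sgP K = oneSub K s := by
  rw [tSub, oneSub, Preadditive.sub_comp, Linear.smul_comp, Category.id_comp, rsP_sgP]

/-- evaluation -/
noncomputable def ev (Y : D) : (Y ⟶ Pw K) ≃+ (ℕ → (Y ⟶ K)) where
  toFun f n := f ≫ pr K n
  invFun x := Pi.lift x
  left_inv f := by
    apply Pi.hom_ext
    intro n
    rw [Pi.lift_π]
  right_inv x := by
    funext n
    exact Pi.lift_π _ _
  map_add' f g := by
    funext n
    exact Preadditive.add_comp _ _ _ _ _ _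

theorem oc_rsP (Y : D) : OC (Linear.rightComp R Y (rsP K)) := by
  refine (oc_rsh (R := R) (Y ⟶ K)).of_equiv (ev K Y).symm (fun x => ?_)
  apply (ev K Y).injective
  rw [AddEquiv.apply_symm_apply]
  funext n
  change _ = ((ev K Y).symm x ≫ rsP K) ≫ pr K n
  have h : ∀ m, (ev K Y).symm x ≫ pr K m = x m := fun m =>
    congrFun ((ev K Y).apply_symm_apply x) m
  cases n with
  | zero => rw [Category.assoc, rsP_zero, comp_zero]; rfl
  | succ n => rw [Category.assoc, rsP_succ, h]; rfl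

theorem cpl_iff_isIso_oneSub (s : R) : Cpl s K ↔ IsIso (oneSub K s) := by
  rw [isIso_iff_yoneda_map_bijective]
  refine forall_congr' fun Y => ?_
  have h1 : (fun (x : ℕ → (Y ⟶ K)) (k : ℕ) => x k - s • x (k + 1)) ∘ (ev K Y) =
      (ev K Y) ∘ (fun x => x ≫ oneSub K s) := by
    funext x k
    change x ≫ pr K k - s • (x ≫ pr K (k + 1)) = (x ≫ oneSub K s) ≫ pr K k
    rw [oneSub, Category.assoc, Preadditive.sub_comp, Linear.smul_comp, sgP_π, Preadditive.comp_sub,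
      Category.id_comp, Linear.comp_smul]
  have h2 : DC s (Y ⟶ K) ↔ Function.Bijective ((ev K Y) ∘ (fun x => x ≫ oneSub K s)) := by
    rw [← h1]
    exact (Function.Bijective.of_comp_iff _ (ev K Y).bijective).symm
  rw [h2, Function.Bijective.of_comp_iff' (ev K Y).bijective]

theorem ι₀_distinguished : Triangle.mk (ι₀ K) (sgP K) (0 : Pw K ⟶ K⟦(1 : ℤ)⟧) ∈ distTriang D := by
  let e : K ⊞ Pw K ≅ Pw K :=
    { hom := biprod.desc (ι₀ K) (rsP K)
      inv := biprod.lift (pr K 0) (sgP K)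
      hom_inv_id := by
        apply biprod.hom_ext
        · rw [Category.assoc, biprod.lift_fst, Category.id_comp]
          apply biprod.hom_ext'
          · rw [biprod.inl_desc_assoc, ι₀_zero, biprod.inl_fst]
          · rw [biprod.inr_desc_assoc, rsP_zero, biprod.inr_fst]
        · rw [Category.assoc, biprod.lift_snd, Category.id_comp]
          apply biprod.hom_ext'
          · rw [biprod.inl_desc_assoc, ι₀_sgP, biprod.inl_snd]
          · rw [biprod.inr_desc_assoc, rsP_sgP, biprod.inr_snd]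
      inv_hom_id := by
        rw [biprod.lift_desc, rsP_pr] }
  refine isomorphic_distinguished _ (binaryBiproductTriangle_distinguished K (Pw K)) _
    (Triangle.isoMk _ _ (Iso.refl K) e.symm (Iso.refl (Pw K)) ?_ ?_ ?_)
  · change ι₀ K ≫ biprod.lift (pr K 0) (sgP K) = 𝟙 K ≫ biprod.inl
    apply biprod.hom_ext
    · rw [Category.assoc, biprod.lift_fst, ι₀_zero, Category.assoc, biprod.inl_fst, Category.comp_id]
    · rw [Category.assoc, biprod.lift_snd, ι₀_sgP, Category.assoc, biprod.inl_snd, comp_zero]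
  · change sgP K ≫ 𝟙 _ = biprod.lift (pr K 0) (sgP K) ≫ biprod.snd
    rw [biprod.lift_snd, Category.comp_id]
  · change (0 : Pw K ⟶ K⟦(1 : ℤ)⟧) ≫ (shiftFunctor D (1 : ℤ)).map (𝟙 K) = 𝟙 _ ≫ (0 : Pw K ⟶ K⟦(1 : ℤ)⟧)
    rw [zero_comp, comp_zero]

/-- The data of a completion with respect to one scalar. -/
structure Compl (s : R) where
  /-- the shifted completion -/
  F : D
  /-- the divisible part -/
  T : D
  v₁₂ : F ⟶ Pw K
  w₁₂ : Pw K ⟶ F⟦(1 : ℤ)⟧
  h₁₂ : Triangle.mk v₁₂ (tSub K s) w₁₂ ∈ distTriang D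
  v₁₃ : T ⟶ Pw K
  w₁₃ : Pw K ⟶ T⟦(1 : ℤ)⟧
  h₁₃ : Triangle.mk v₁₃ (oneSub K s) w₁₃ ∈ distTriang D
  m₁ : F ⟶ T
  m₃ : T ⟶ K
  mem : Triangle.mk m₁ m₃ (ι₀ K ≫ w₁₂) ∈ distTriang D

theorem nonempty_compl [IsTriangulated D] (s : R) : Nonempty (Compl K s) := by
  obtain ⟨F, v₁₂, w₁₂, h₁₂⟩ := distinguished_cocone_triangle₁ (tSub K s)
  obtain ⟨T, v₁₃, w₁₃, h₁₃⟩ := distinguished_cocone_triangle₁ (oneSub K s)
  let h := Triangulated.someOctahedron' (tSub_sgP K s) h₁₂ (ι₀_distinguished K) h₁₃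
  exact ⟨⟨F, T, v₁₂, w₁₂, h₁₂, v₁₃, w₁₃, h₁₃, h.m₁, h.m₃, h.mem⟩⟩

variable {K} {s : R} (c : Compl K s)

/-- the completion -/
noncomputable abbrev Compl.L : D := c.F⟦(1 : ℤ)⟧

/-- the map to the completion -/
noncomputable def Compl.g : K ⟶ c.L := ι₀ K ≫ c.w₁₂

theorem Compl.cpl : Cpl s c.L := cpl_of_triangle c.h₁₂ s (rsP K) rfl (oc_rsP K)

theorem Compl.div : Div s c.T := by
  have h := (div_of_triangle c.h₁₃ s (sgP K) rfl).shift (-1)
  exact h.of_iso ((shiftFunctorCompIsoId D (1 : ℤ) (-1) (by simp)).app c.T)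

/-- The triangle `T ⟶ K ⟶ Λ ⟶ T⟦1⟧`. -/
theorem Compl.dist : Triangle.mk c.m₃ c.g (-c.m₁⟦(1 : ℤ)⟧') ∈ distTriang D :=
  rot_of_distTriang _ c.mem

end Prod

section Orth

theorem isZero_of_subsingleton {X : D} (h : Subsingleton (X ⟶ X)) : IsZero X :=
  (IsZero.iff_id_eq_zero X).2 (h.elim _ _)

theorem Div.subsingleton {s : R} {X K : D} (hX : Div s X) (hK : Cpl s K) : Subsingleton (X ⟶ K) :=
  ⟨fun f g => by rw [hX.hom_eq_zero hK f, hX.hom_eq_zero hK g]⟩

/-- complete objects are the right orthogonal of divisible objects. -/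
theorem cpl_iff_orth [IsTriangulated D] (s : R) (K : D) [HasProduct fun _ : ℕ => K] :
    Cpl s K ↔ ∀ X : D, Div s X → Subsingleton (X ⟶ K) := by
  refine ⟨fun h X hX => hX.subsingleton h, fun h => ?_⟩
  obtain ⟨c⟩ := nonempty_compl K s
  have h1 : c.m₃ = 0 := (h _ c.div).elim _ _
  have h2 : ∃ σ : c.T⟦(1 : ℤ)⟧ ⟶ c.L, 𝟙 (c.T⟦(1 : ℤ)⟧) = σ ≫ (-c.m₁⟦(1 : ℤ)⟧') := by
    refine Triangle.coyoneda_exact₁ _ c.dist (𝟙 (c.T⟦(1 : ℤ)⟧)) ?_
    change 𝟙 (c.T⟦(1 : ℤ)⟧) ≫ c.m₃⟦(1 : ℤ)⟧' = 0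
    rw [h1, Functor.map_zero, comp_zero]
  obtain ⟨σ, hσ⟩ := h2
  have h3 : IsZero (c.T⟦(1 : ℤ)⟧) := by
    rw [IsZero.iff_id_eq_zero, hσ, (c.div.shift 1).hom_eq_zero c.cpl σ, zero_comp]
  have h4 : IsZero c.T := ((shiftFunctor D (-1 : ℤ)).map_isZero h3).of_iso
    ((shiftFunctorCompIsoId D (1 : ℤ) (-1) (by simp)).app c.T).symm
  have h5 : IsIso c.g := ((Triangle.mk c.m₃ c.g (-c.m₁⟦(1 : ℤ)⟧')).isZero₁_iff_isIso₂ c.dist).1 h4
  exact c.cpl.of_iso (asIso c.g).symm

variable [IsTriangulated D] [∀ K : D, HasProduct fun _ : ℕ => K]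

theorem Cpl.pw {s : R} {K : D} (h : Cpl s K) : Cpl s (Pw K) := by
  rw [cpl_iff_orth] at h ⊢
  intro X hX
  refine ⟨fun f g => ?_⟩
  apply Pi.hom_ext
  intro n
  exact (h X hX).elim _ _

theorem Cpl.obj₂ {s : R} {T : Triangle D} (hT : T ∈ distTriang D) (h1 : Cpl s T.obj₁)
    (h3 : Cpl s T.obj₃) : Cpl s T.obj₂ := by
  rw [cpl_iff_orth] at h1 h3 ⊢
  intro X hX
  have key : ∀ f : X ⟶ T.obj₂, f = 0 := by
    intro f
    obtain ⟨g, hg⟩ := Triangle.coyoneda_exact₂ _ hT f ((h3 X hX).elim _ _)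
    rw [hg, (h1 X hX).elim g 0, zero_comp]
  exact ⟨fun f g => by rw [key f, key g]⟩

theorem Cpl.obj₃ {s : R} {T : Triangle D} (hT : T ∈ distTriang D) (h1 : Cpl s T.obj₁)
    (h2 : Cpl s T.obj₂) : Cpl s T.obj₃ :=
  Cpl.obj₂ (rot_of_distTriang _ hT) h2 (h1.shift 1)

theorem Cpl.obj₁ {s : R} {T : Triangle D} (hT : T ∈ distTriang D) (h2 : Cpl s T.obj₂)
    (h3 : Cpl s T.obj₃) : Cpl s T.obj₁ :=
  Cpl.obj₂ (inv_rot_of_distTriang _ hT) (h3.shift (-1)) h2

theorem Compl.cpl_other {s a : R} {K : D} (c : Compl K s) (h : Cpl a K) : Cpl a c.L :=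
  (Cpl.obj₁ (T := Triangle.mk c.v₁₂ (tSub K s) c.w₁₂) c.h₁₂ h.pw h.pw).shift 1

end Orth

/-- The objects finitely built from objects on which some scalar of `l` is invertible. -/
inductive DG (l : Set R) : D → Prop
  | zero (X : D) : IsZero X → DG l X
  | div (X : D) (s : R) : s ∈ l → Div s X → DG l X
  | ext (T : Triangle D) : T ∈ distTriang D → DG l T.obj₁ → DG l T.obj₃ → DG l T.obj₂

namespace DG

variable {l : Set R}

theorem of_iso {X X' : D} (h : DG l X) (e : X ≅ X') : DG l X' := by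
  have hT : Triangle.mk e.hom (0 : X' ⟶ 0) 0 ∈ distTriang D :=
    isomorphic_distinguished _ (contractible_distinguished X') _
      (Triangle.isoMk _ _ e (Iso.refl X') (Iso.refl (0 : D)) rfl ((isZero_zero D).eq_of_tgt _ _)
        ((isZero_zero D).eq_of_src _ _))
  exact DG.ext _ hT h (DG.zero _ (isZero_zero D))

theorem shift {X : D} (h : DG l X) (n : ℤ) : DG l (X⟦n⟧) := by
  induction h with
  | zero X h => exact DG.zero _ ((shiftFunctor D n).map_isZero h)
  | div X s hs h => exact DG.div _ s hs (h.shift n)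
  | ext T hT h1 h3 ih1 ih3 => exact DG.ext _ (Triangle.shift_distinguished T hT n) ih1 ih3

theorem mono {l' : Set R} (hl : l ⊆ l') {X : D} (h : DG l X) : DG l' X := by
  induction h with
  | zero X h => exact DG.zero _ h
  | div X s hs h => exact DG.div _ s (hl hs) h
  | ext T hT h1 h3 ih1 ih3 => exact DG.ext _ hT ih1 ih3

theorem hom_eq_zero {X K : D} (h : DG l X) (hK : ∀ s ∈ l, Cpl s K) (f : X ⟶ K) : f = 0 := by
  induction h with
  | zero X h => exact h.eq_of_src _ _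
  | div X s hs h => exact h.hom_eq_zero (hK s hs) f
  | ext T hT h1 h3 ih1 ih3 =>
    obtain ⟨g, hg⟩ := Triangle.yoneda_exact₂ _ hT f (ih1 _)
    rw [hg, ih3 g, comp_zero]

theorem subsingleton {X K : D} (h : DG l X) (hK : ∀ s ∈ l, Cpl s K) (n : ℤ) : Subsingleton (X ⟶ K⟦n⟧) :=
  ⟨fun f g => by
    rw [h.hom_eq_zero (fun s hs => (hK s hs).shift n) f, h.hom_eq_zero (fun s hs => (hK s hs).shift n) g]⟩

end DG

section List

variable [IsTriangulated D] [∀ K : D, HasProduct fun _ : ℕ => K]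

/-- **Completion with respect to finitely many scalars**. -/
theorem exists_completion_list (l : List R) (K : D) :
    ∃ (T L : D) (f : T ⟶ K) (g : K ⟶ L) (h : L ⟶ T⟦(1 : ℤ)⟧), (Triangle.mk f g h ∈ distTriang D) ∧
      (∀ s ∈ l, Cpl s L) ∧ DG {s | s ∈ l} T := by
  induction l with
  | nil =>
    refine ⟨0, K, 0, 𝟙 K, 0, contractible_distinguished₁ K, by simp, DG.zero _ (isZero_zero D)⟩
  | cons a l ih =>
    obtain ⟨T₁, L₁, f₁, g₁, h₁, hT₁, hL₁, hD₁⟩ := ih
    obtain ⟨c⟩ := nonempty_compl L₁ a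
    obtain ⟨T, f, h, hT⟩ := distinguished_cocone_triangle₁ (g₁ ≫ c.g)
    let oct := Triangulated.someOctahedron' rfl hT₁ c.dist hT
    refine ⟨T, c.L, f, g₁ ≫ c.g, h, hT, ?_, ?_⟩
    · intro s hs
      rcases List.mem_cons.1 hs with rfl | hs
      · exact c.cpl
      · exact c.cpl_other (hL₁ s hs)
    · refine DG.ext _ oct.mem (hD₁.mono fun s hs => List.mem_cons_of_mem _ hs) ?_
      exact DG.div _ a (by simp) c.div

/-- An object left orthogonal to all complete objects is finitely built from divisible objects. -/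
theorem dg_of_orth (l : List R) (T : D)
    (h : ∀ K : D, (∀ s ∈ l, Cpl s K) → Subsingleton (T ⟶ K)) : DG {s | s ∈ l} T := by
  obtain ⟨T', L, f, g, δ, hT, hL, hD⟩ := exists_completion_list l T
  have hg : g = 0 := (h L hL).elim _ _
  obtain ⟨k, hk⟩ : ∃ k : T'⟦(1 : ℤ)⟧ ⟶ L, 𝟙 L = δ ≫ k :=
    Triangle.yoneda_exact₃ _ hT (𝟙 L) (by change g ≫ 𝟙 L = 0; rw [hg, zero_comp])
  have hL0 : IsZero L := by
    rw [IsZero.iff_id_eq_zero, hk, (hD.shift 1).hom_eq_zero hL k, comp_zero]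
  have hf : IsIso f := ((Triangle.mk f g δ).isZero₃_iff_isIso₁ hT).1 hL0
  exact hD.of_iso (asIso f)

end List

end K779.Tri
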