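import Groth.Agent.Cohder.Telescope
import Groth.Agent.CohtopB.DCoprod
import Groth.Agent.DRing.K230.DCSeq
import Mathlib.Algebra.Homology.DerivedCategory.SingleTriangle
import Mathlib.Algebra.Homology.DerivedCategory.Linear

/-!
# Morphisms out of the localisation of an object at a scalar

In a linear Grothendieck abelian category, the localisation `F_s` is the cokernel of `x_n ↦ x_n - s x_{n+1}` on
`⨁ F`.  All morphisms `F_s[0] ⟶ K⟦n⟧` vanish if and only if all modules `Hom(F[0], K⟦n⟧)` are derived complete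
with respect to `s` (`DC`).
-/

set_option autoImplicit false

universe w v u t

open CategoryTheory CategoryTheory.Limits Pretriangulated

namespace K779.Away

open K230.DCSeq

section Tri

variable {D : Type*} [Category* D] [HasZeroObject D] [HasShift D ℤ] [Preadditive D]
  [∀ n : ℤ, (shiftFunctor D n).Additive] [Pretriangulated D]

/-- morphisms from the third vertex of a triangle to all shifts of `Y` vanish iff composition with the first morphism
is bijective on morphisms to all shifts of `Y`. -/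
theorem subsingleton_iff_bijective {T : Triangle D} (hT : T ∈ distTriang D) (Y : D) :
    (∀ n : ℤ, Subsingleton (T.obj₃ ⟶ Y⟦n⟧)) ↔
      ∀ n : ℤ, Function.Bijective (fun g : T.obj₂ ⟶ Y⟦n⟧ => T.mor₁ ≫ g) := by
  constructor
  · intro h n
    constructor
    · intro g g' hg
      have h2 : T.mor₁ ≫ (g - g') = 0 := by
        rw [Preadditive.comp_sub, sub_eq_zero]; exact hg
      obtain ⟨k, hk⟩ := Triangle.yoneda_exact₂ _ hT (g - g') h2
      rw [← sub_eq_zero, hk, (h n).elim k 0, comp_zero]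
    · intro x
      have h1 : ∀ g : T.obj₃ ⟶ (Y⟦n⟧)⟦(1 : ℤ)⟧, g = 0 := by
        intro g
        rw [← cancel_mono ((shiftFunctorAdd' D n 1 (n + 1) rfl).inv.app Y), zero_comp]
        exact (h (n + 1)).elim _ _
      have h2 : ∃ k : T.obj₂⟦(1 : ℤ)⟧ ⟶ (Y⟦n⟧)⟦(1 : ℤ)⟧, x⟦(1 : ℤ)⟧' = (-T.mor₁⟦(1 : ℤ)⟧') ≫ k :=
        Triangle.yoneda_exact₃ _ (rot_of_distTriang _ hT) (x⟦(1 : ℤ)⟧') (h1 _)
      obtain ⟨k, hk⟩ := h2
      obtain ⟨k', rfl⟩ := (shiftFunctor D (1 : ℤ)).map_surjective k
      refine ⟨-k', (shiftFunctor D (1 : ℤ)).map_injective ?_⟩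
      change (shiftFunctor D (1 : ℤ)).map (T.mor₁ ≫ (-k')) = _
      rw [hk]
      simp
  · intro h n
    have key : ∀ g : T.obj₃ ⟶ Y⟦n⟧, g = 0 := by
      intro g
      have h0 : T.mor₂ ≫ g = 0 := by
        apply (h n).1
        change T.mor₁ ≫ T.mor₂ ≫ g = T.mor₁ ≫ 0
        rw [← Category.assoc, comp_distTriang_mor_zero₁₂ T hT, zero_comp, comp_zero]
      obtain ⟨k, hk⟩ := Triangle.yoneda_exact₃ _ hT g h0
      let e := (shiftFunctorAdd' D (n - 1) 1 n (by lia)).app Y
      obtain ⟨k', hk'⟩ := (shiftFunctor D (1 : ℤ)).map_surjective (k ≫ e.hom)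
      obtain ⟨k'', hk''⟩ := (h (n - 1)).2 k'
      have h4 : k = T.mor₁⟦(1 : ℤ)⟧' ≫ k''⟦(1 : ℤ)⟧' ≫ e.inv := by
        rw [← cancel_mono e.hom, ← hk', ← hk'']
        simp
      rw [hk, h4, ← Category.assoc, comp_distTriang_mor_zero₃₁ T hT, zero_comp]
    exact ⟨fun a b => by rw [key a, key b]⟩

end Tri

section Abs

variable {R : Type t} [CommRing R] {A : Type u} [Category.{v} A] [Abelian A] [Linear R A]
  [HasCoproductsOfShape ℕ A]

/-- The endomorphism of `⨁ F` whose cokernel is the localisation of `F` at `s`. -/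
noncomputable def aw (s : R) (F : A) : (∐ fun _ : ℕ => F) ⟶ ∐ fun _ : ℕ => F :=
  Sigma.desc fun n => Sigma.ι (fun _ : ℕ => F) n - (s • 𝟙 F) ≫ Sigma.ι (fun _ : ℕ => F) (n + 1)

theorem aw_eq (s : R) (F : A) : aw s F = 𝟙 _ - DerLim.shiftMap (fun _ : ℕ => F) (fun _ => s • 𝟙 F) := by
  apply Sigma.hom_ext
  intro n
  rw [aw, Sigma.ι_desc, Preadditive.comp_sub, Category.comp_id, DerLim.shiftMap, Sigma.ι_desc]

/-- The localisation of `F` at `s`. -/
noncomputable abbrev loc (s : R) (F : A) : A := cokernel (aw s F)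

theorem mono_aw [HasColimitsOfShape ℕ A] [HasExactColimitsOfShape ℕ A] (s : R) (F : A) : Mono (aw s F) := by
  rw [aw_eq]
  exact Groth.Agent.Cohder.Telescope.mono_id_sub_shiftMap _ _

theorem aw_shortExact [HasColimitsOfShape ℕ A] [HasExactColimitsOfShape ℕ A] (s : R) (F : A) :
    (ShortComplex.mk (aw s F) (cokernel.π (aw s F)) (cokernel.condition _)).ShortExact := by
  have := mono_aw s F
  exact { exact := ShortComplex.exact_cokernel _ }

variable [HasDerivedCategory.{w} A] [HasExactColimitsOfShape (Discrete ℕ) A]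
  [HasColimitsOfShape ℕ A] [HasExactColimitsOfShape ℕ A]

/-- **Criterion**: morphisms out of the localisation of `F` at `s`. -/
theorem subsingleton_loc_iff (s : R) (F : A) (K : DerivedCategory A) :
    (∀ n : ℤ, Subsingleton ((DerivedCategory.singleFunctor A 0).obj (loc s F) ⟶ K⟦n⟧)) ↔
      ∀ n : ℤ, DC s ((DerivedCategory.singleFunctor A 0).obj F ⟶ K⟦n⟧) := by
  have hT := (aw_shortExact s F).singleTriangle_distinguished
  refine (subsingleton_iff_bijective hT K).trans (forall_congr' fun n => ?_)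
  have hp := Groth.Agent.CohtopB.DCoprod.preservesColimitsOfShape_singleFunctor (A := A) (ι := ℕ) 0
  let S := DerivedCategory.singleFunctor A 0
  let b : (S.obj (∐ fun _ : ℕ => F) ⟶ K⟦n⟧) → (ℕ → (S.obj F ⟶ K⟦n⟧)) :=
    fun x k => S.map (Sigma.ι (fun _ : ℕ => F) k) ≫ x
  have hb : Function.Bijective b := by
    let hc := isColimitOfHasCoproductOfPreservesColimit S (fun _ : ℕ => F)
    constructor
    · intro x y hxy
      exact Cofan.IsColimit.hom_ext hc _ _ (fun k => congrFun hxy k)
    · intro y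
      refine ⟨Cofan.IsColimit.desc hc y, ?_⟩
      funext k
      exact Cofan.IsColimit.fac hc y k
  have hcomm : ∀ x, b (S.map (aw s F) ≫ x) = (fun k => b x k - s • b x (k + 1)) := by
    intro x
    funext k
    change S.map (Sigma.ι (fun _ : ℕ => F) k) ≫ S.map (aw s F) ≫ x = _
    rw [← Functor.map_comp_assoc, aw, Sigma.ι_desc, Functor.map_sub, Preadditive.sub_comp]
    congr 1
    rw [Linear.smul_comp, Category.id_comp, Functor.map_smul, Linear.smul_comp]
  have h1 : (fun (x : ℕ → (S.obj F ⟶ K⟦n⟧)) (k : ℕ) => x k - s • x (k + 1)) ∘ b =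
      b ∘ (fun x => S.map (aw s F) ≫ x) := by
    funext x
    exact (hcomm x).symm
  have h2 : DC s (S.obj F ⟶ K⟦n⟧) ↔ Function.Bijective (b ∘ (fun x => S.map (aw s F) ≫ x)) := by
    rw [← h1]
    exact (Function.Bijective.of_comp_iff _ hb).symm
  rw [h2, Function.Bijective.of_comp_iff' hb]
  rfl

end Abs

end K779.Away
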