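import Groth.Agent.CohtopA.KInjRes2
import Mathlib.Algebra.Homology.ModelCategory.Lifting
import Mathlib.CategoryTheory.Abelian.EpiWithInjectiveKernel
import Mathlib.Algebra.Homology.DerivedCategory.KInjective

/-!
# Lifting properties of monomorphisms of complexes against degreewise split epimorphisms
-/

set_option autoImplicit false

universe w v u

open CategoryTheory CategoryTheory.Limits CategoryTheory.Abelian Pretriangulated HomologicalComplex CochainComplex
open CochainComplex.HomComplex

namespace K779.BousLift

variable {A : Type u} [Category.{v} A] [Abelian A]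

set_option backward.defeqAttrib.useBackward true in
set_option backward.isDefEq.respectTransparency false in
/-- If all morphisms `K ⟶ L⟦n⟧` are homotopic to zero, then `n`-cocycles are coboundaries. -/
lemma eq_δ_of_homotopy {K L : CochainComplex A ℤ} {n : ℤ} (z : Cocycle K L n)
    (h : ∀ φ : K ⟶ L⟦n⟧, Nonempty (Homotopy φ 0)) (m : ℤ) (hm : m + 1 = n) :
    ∃ (α : Cochain K L m), δ m n α = z.1 := by
  obtain ⟨φ, hφ⟩ := (Cocycle.equivHom ..).surjective (z.rightShift n 0 (zero_add n))
  rw [Cocycle.ext_iff] at hφ
  dsimp at hφ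
  obtain ⟨h⟩ := h φ
  obtain ⟨f, hf⟩ := Cochain.equivHomotopy _ _ h
  simp only [Int.reduceNeg, Cochain.ofHom_zero, add_zero] at hf
  refine ⟨n.negOnePow • Cochain.rightUnshift f m (by lia), ?_⟩
  apply (Cochain.rightShiftAddEquiv _ _ _ n 0 (by simp)).injective
  dsimp
  rw [← hφ, hf, δ_units_smul, Cochain.rightShift_units_smul,
    Cochain.δ_rightUnshift _ _ _ _ 0 (by simp)]
  simp [smul_smul]

/-- A morphism to a K-injective complex is homotopic to zero if it is zero in the derived category. -/
lemma homotopy_of_map_eq_zero [HasDerivedCategory.{w} A] {K L : CochainComplex A ℤ} [L.IsKInjective]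
    (φ : K ⟶ L) (h : DerivedCategory.Q.map φ = 0) : Nonempty (Homotopy φ 0) := by
  refine ⟨HomotopyCategory.homotopyOfEq _ _ ?_⟩
  apply (CochainComplex.IsKInjective.Qh_map_bijective _ L).injective
  rw [Functor.map_zero, Functor.map_zero]
  have h2 := (DerivedCategory.quotientCompQhIso A).hom.naturality φ
  rw [h, comp_zero, Functor.comp_map] at h2
  rw [← cancel_mono ((DerivedCategory.quotientCompQhIso A).hom.app L)]
  exact h2.trans zero_comp.symm

set_option backward.defeqAttrib.useBackward true in
/-- The basic lifting lemma: a monomorphism `i` has the left lifting property with respect to a degreewise split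
epimorphism with degreewise injective kernel `K'`, if all morphisms from the cokernel of `i` to `K'⟦1⟧` are
homotopic to zero. -/
lemma hasLiftingProperty {K L : CochainComplex A ℤ} (i : K ⟶ L) [Mono i]
    (S : ShortComplex (CochainComplex A ℤ))
    (σ : ∀ n, (S.map (eval A (ComplexShape.up ℤ) n)).Splitting)
    (hS : ∀ n, Injective (S.X₁.X n))
    (h : ∀ φ : cokernel i ⟶ S.X₁⟦(1 : ℤ)⟧, Nonempty (Homotopy φ 0)) : HasLiftingProperty i S.g where
  sq_hasLift {t b} sq := by
    have hex : S.ShortExact :=
      shortExact_of_degreewise_shortExact S (fun n => (σ n).shortExact)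
    have sq' (n : ℤ) : CommSq (t.f n) (i.f n) (S.g.f n) (b.f n) :=
      (sq.map (HomologicalComplex.eval _ _ n))
    have (n : ℤ) : (sq' n).HasLift := by
      have hinj : Injective (S.X₁.X n) := hS n
      have h1 : epiWithInjectiveKernel (S.g.f n) := by
        rw [epiWithInjectiveKernel_iff]
        exact ⟨S.X₁.X n, hinj, S.f.f n, by rw [← comp_f, S.zero, zero_f], ⟨σ n⟩⟩
      have := h1.hasLiftingProperty (i.f n)
      infer_instance
    let β : Cocycle (cokernel i) S.X₁ 1 :=
      Lifting.cocycle₁ sq (fun n ↦ { l := (sq' n).lift })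
        (cokernelIsCokernel i) hex.fIsKernel (hπ := by simp) (hι := S.zero)
    obtain ⟨α, hα⟩ := eq_δ_of_homotopy β h 0 (by simp)
    exact Lifting.hasLift sq _ (cokernelIsCokernel _) hex.fIsKernel α hα

end K779.BousLift
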