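import Groth.Agent.FibSite.K780.MorSite
import Groth.Prelude.Def_ModSite
import Mathlib.CategoryTheory.Sites.Over

/-!
# Localisation of a morphism of ringed sites

`overR f V : RMor (O_C.over (f⁻¹ V)) (O_D.over V)`.
-/

set_option autoImplicit false

universe u

open CategoryTheory CategoryTheory.Limits Opposite

namespace K779.CFOver

open K780.CovFlat K780.MorSite

variable {C : Type u} [SmallCategory C] {J : GrothendieckTopology C}
  {D : Type u} [SmallCategory D] {K : GrothendieckTopology D}

theorem loc_over {W : C} (d : Over W) {φ : ∀ ⦃d' : C⦄, (d' ⟶ d.left) → Prop} (h : Loc J d.left φ)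
    {ψ : ∀ ⦃d' : Over W⦄, (d' ⟶ d) → Prop} (hψ : ∀ ⦃d' : Over W⦄ (f : d' ⟶ d), φ f.left → ψ f) :
    Loc (J.over W) d ψ := by
  obtain ⟨S, hS, hφ⟩ := h
  refine ⟨(Sieve.overEquiv d).symm S, J.overEquiv_symm_mem_over d S hS, fun d' f hf => hψ f (hφ _ ?_)⟩
  rwa [Sieve.overEquiv_symm_iff] at hf

theorem isCF_post {fn : D ⥤ C} (h : IsCF fn J) (V : D) :
    IsCF (Over.post (X := V) fn) (J.over (fn.obj V)) where
  term d := Loc.of_forall fun d' _ => ⟨Over.mk (𝟙 V), ⟨Over.homMk d'.hom (by
    change d'.hom ≫ fn.map (𝟙 V) = d'.hom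
    rw [fn.map_id, Category.comp_id])⟩⟩
  prod d c₁ c₂ x₁ x₂ := by
    have e1 : x₁.left ≫ fn.map c₁.hom = d.hom := Over.w x₁
    have e2 : x₂.left ≫ fn.map c₂.hom = d.hom := Over.w x₂
    refine loc_over d (h.span d.left c₁.hom c₂.hom x₁.left x₂.left (e1.trans e2.symm)) ?_
    rintro d' f ⟨c, h₁, h₂, y, k1, k2, k3⟩
    refine ⟨Over.mk (h₁ ≫ c₁.hom), Over.homMk h₁ rfl, Over.homMk h₂ k3.symm, Over.homMk y ?_, ?_, ?_⟩
    · change y ≫ fn.map (h₁ ≫ c₁.hom) = d'.hom
      rw [fn.map_comp, ← Category.assoc, k1]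
      exact (Category.assoc _ _ _).trans ((congrArg (fun t => f.left ≫ t) e1).trans (Over.w f))
    · exact Over.OverMorphism.ext k1
    · exact Over.OverMorphism.ext k2
  eq d c c' s t x hx := by
    have e : x.left ≫ fn.map s.left = x.left ≫ fn.map t.left := congrArg (fun t => t.left) hx
    refine loc_over d (h.eq d.left c.left c'.left s.left t.left x.left e) ?_
    rintro d' f ⟨c₀, g, y, k1, k2⟩
    have e1 : x.left ≫ fn.map c.hom = d.hom := Over.w x
    refine ⟨Over.mk (g ≫ c.hom), Over.homMk g rfl, Over.homMk y ?_, ?_, ?_⟩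
    · change y ≫ fn.map (g ≫ c.hom) = d'.hom
      rw [fn.map_comp, ← Category.assoc, k2]
      exact (Category.assoc _ _ _).trans ((congrArg (fun t => f.left ≫ t) e1).trans (Over.w f))
    · exact Over.OverMorphism.ext k1
    · exact Over.OverMorphism.ext k2

theorem isContinuous_post {fn : D ⥤ C} [fn.IsContinuous K J] (h : IsCF fn J) (V : D) :
    (Over.post (X := V) fn).IsContinuous (K.over V) (J.over (fn.obj V)) :=
  (isCF_post h V).isContinuous ((CoverPreserving.of_isContinuous fn K J).overPost V)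

variable {O_C : Sheaf J CommRingCat.{u}} {O_D : Sheaf K CommRingCat.{u}} (f : ModSite.RMor O_C O_D)

theorem isCF : IsCF f.fn J := isCF_of_preservesFiniteLimits (G := f.fn) (J := K) (K := J) f.exact

/-- The localisation of a morphism of ringed sites. -/
noncomputable def overR (V : D) : ModSite.RMor (O_C.over (f.fn.obj V)) (O_D.over V) :=
  haveI := isContinuous_post (K := K) (isCF f) V
  { fn := Over.post (X := V) f.fn
    isContinuous := this
    exact := preservesFiniteLimits_of_isCF (G := Over.post (X := V) f.fn) (J := K.over V)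
      (K := J.over (f.fn.obj V)) (isCF_post (isCF f) V)
    sharp := ⟨{ app := fun X => f.sharp.hom.app (op X.unop.left)
                naturality := fun X Y g => f.sharp.hom.naturality g.unop.left.op }⟩ }

end K779.CFOver
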