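import Groth.Agent.DerComp.K779.KL

/-!
# Functors preserving torsion objects commute with derived completion
-/

set_option autoImplicit false

universe u

open CategoryTheory CategoryTheory.Limits Opposite Pretriangulated

attribute [local instance] HasDerivedCategory.standard

namespace K779.CMap

open _root_.K779.Compl

section Refl

variable {D : Type*} [Category* D] {Pr : ObjectProperty D} {L : D ⥤ Pr.FullSubcategory} (adj : L ⊣ Pr.ι)

include adj in
theorem bijective_unit (X : D) (W : D) (hW : Pr W) :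
    Function.Bijective (fun u : (L.obj X).obj ⟶ W => adj.unit.app X ≫ u) := by
  have h := (adj.homEquiv X ⟨W, hW⟩).bijective
  have h2 : (fun u : (L.obj X).obj ⟶ W => adj.unit.app X ≫ u) =
      (adj.homEquiv X ⟨W, hW⟩) ∘ (fun u : (L.obj X).obj ⟶ W => ObjectProperty.homMk u) := by
    funext u
    exact (adj.homEquiv_unit (f := ObjectProperty.homMk (X := L.obj X) (Y := ⟨W, hW⟩) u)).symm
  rw [h2]
  refine h.comp ⟨fun a b hab => ?_, fun v => ⟨v.hom, rfl⟩⟩
  exact congrArg (fun t => t.hom) hab

theorem unit_comp (X : D) (Z : D) (h : Pr Z) (g : X ⟶ Z) :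
    adj.unit.app X ≫ ((adj.homEquiv X ⟨Z, h⟩).symm g).hom = g := by
  have := (adj.homEquiv X ⟨Z, h⟩).apply_symm_apply g
  rw [Adjunction.homEquiv_unit] at this
  exact this

theorem isIso_symm (X : D) (Z : D) (h : Pr Z) (g : X ⟶ Z)
    (hg : ∀ W, Pr W → Function.Bijective (fun u : Z ⟶ W => g ≫ u)) :
    IsIso ((adj.homEquiv X ⟨Z, h⟩).symm g) := by
  have key : IsIso ((adj.homEquiv X ⟨Z, h⟩).symm g).hom := by
    have h0 := unit_comp adj X Z h g
    obtain ⟨r, hr⟩ := (hg _ (L.obj X).property).2 (adj.unit.app X)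
    dsimp only at hr
    refine ⟨r, ?_, ?_⟩
    · apply (bijective_unit adj X _ (L.obj X).property).1
      change adj.unit.app X ≫ _ ≫ r = adj.unit.app X ≫ 𝟙 _
      rw [← Category.assoc, h0, hr, Category.comp_id]
    · apply (hg Z h).1
      change g ≫ r ≫ _ = g ≫ 𝟙 _
      rw [← Category.assoc, hr, h0, Category.comp_id]
  exact (ObjectProperty.isIso_hom_iff _).1 key

end Refl

variable {C : Type u} [SmallCategory C] {J : GrothendieckTopology C} {O : Sheaf J CommRingCat.{u}}

theorem tors_of_iso (I : DerComp.IdealSh O) {T T' : DerivedCategory (ModSite.Mod O)} (e : T ≅ T')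
    (hT : Tors O I T) : Tors O I T' := fun Z hZ n =>
  ⟨fun a b => by
    have h1 := (hT Z hZ n).elim (e.hom ≫ a) (e.hom ≫ b)
    rwa [cancel_epi] at h1⟩

/-- The completion map is part of a triangle with torsion third term. -/
theorem exists_unit_triangle (I : DerComp.IdealSh O) [DerComp.HasDerCompletion O I]
    (X : DerivedCategory (ModSite.Mod O)) :
    ∃ (T : DerivedCategory (ModSite.Mod O)) (f : T ⟶ X) (h : ((DerComp.derCompletion O I).obj X).obj ⟶ T⟦(1 : ℤ)⟧),
      (Triangle.mk f (DerComp.toDerCompletion I X) h ∈ distTriang _) ∧ Tors O I T := by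
  obtain ⟨T, Y, f, g, h, hT, hY, hZ⟩ := exists_triangle O I X
  have hg : ∀ W, DerComp.IsDerComp O I W → Function.Bijective (fun u : Y ⟶ W => g ≫ u) :=
    fun W hW => Refl.bijective_of_triangle hT (hZ W hW)
  have h1 := isIso_symm (DerComp.derCompletionAdj O I) X Y hY g hg
  let e : ((DerComp.derCompletion O I).obj X).obj ≅ Y :=
    (DerComp.IsDerComp O I).ι.mapIso (asIso (((DerComp.derCompletionAdj O I).homEquiv X ⟨Y, hY⟩).symm g))
  have he : DerComp.toDerCompletion I X ≫ e.hom = g := unit_comp (DerComp.derCompletionAdj O I) X Y hY g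
  refine ⟨T, f, e.hom ≫ h, ?_, hZ⟩
  refine isomorphic_distinguished _ hT _ (Triangle.isoMk _ _ (Iso.refl _) (Iso.refl _) e ?_ ?_ ?_)
  · change f ≫ 𝟙 _ = 𝟙 _ ≫ f
    rw [Category.comp_id, Category.id_comp]
  · change DerComp.toDerCompletion I X ≫ e.hom = 𝟙 _ ≫ g
    rw [he, Category.id_comp]
  · change (e.hom ≫ h) ≫ (𝟙 T)⟦(1 : ℤ)⟧' = e.hom ≫ h
    rw [CategoryTheory.Functor.map_id]
    exact Category.comp_id _

variable {C' : Type u} [SmallCategory C'] {J' : GrothendieckTopology C'} {O' : Sheaf J' CommRingCat.{u}}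

/-- **Functors preserving torsion objects commute with derived completion**. -/
theorem isIso_of_tors (I : DerComp.IdealSh O) (I' : DerComp.IdealSh O') [DerComp.HasDerCompletion O I]
    [DerComp.HasDerCompletion O' I'] (Φ : DerivedCategory (ModSite.Mod O) ⥤ DerivedCategory (ModSite.Mod O'))
    [Φ.CommShift ℤ] [Φ.IsTriangulated] (hΦ : ∀ T, Tors O I T → Tors O' I' (Φ.obj T))
    (F : DerivedCategory (ModSite.Mod O))
    (h : DerComp.IsDerComp O' I' (Φ.obj ((DerComp.derCompletion O I).obj F).obj)) :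
    IsIso (((DerComp.derCompletionAdj O' I').homEquiv (Φ.obj F)
      ⟨Φ.obj ((DerComp.derCompletion O I).obj F).obj, h⟩).symm (Φ.map (DerComp.toDerCompletion I F))) := by
  obtain ⟨T, f, δ, hT, hTors⟩ := exists_unit_triangle I F
  refine isIso_symm (DerComp.derCompletionAdj O' I') _ _ h _ fun W hW => ?_
  exact Refl.bijective_of_triangle (Φ.map_distinguished _ hT) (hΦ T hTors W hW)

end K779.CMap
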