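import Mathlib.CategoryTheory.Triangulated.Functor
import Mathlib.CategoryTheory.Adjunction.Comma
import Mathlib.CategoryTheory.Limits.Shapes.Products

/-!
# Corepresentability of `Hom(Y, F -)` for a triangulated functor `F`

The class of objects `Y` for which `Hom(Y, F -)` is corepresentable is closed under shifts, coproducts and cones.
-/

set_option autoImplicit false

open CategoryTheory CategoryTheory.Limits Pretriangulated

namespace K779.Corep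

variable {C D : Type*} [Category* C] [Category* D]

/-- `η : Y ⟶ F Z` is a universal arrow. -/
def IsU (F : C ⥤ D) {Y : D} {Z : C} (η : Y ⟶ F.obj Z) : Prop :=
  ∀ X : C, Function.Bijective (fun x : Z ⟶ X => η ≫ F.map x)

/-- `Hom(Y, F -)` is corepresentable. -/
def Corep (F : C ⥤ D) : ObjectProperty D := fun Y => ∃ (Z : C) (η : Y ⟶ F.obj Z), IsU F η

theorem isRightAdjoint_of_corep (F : C ⥤ D) (h : ∀ Y, Corep F Y) : F.IsRightAdjoint := by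
  choose Z η hη using h
  have : ∀ Y, HasInitial (StructuredArrow Y F) := by
    intro Y
    let i : StructuredArrow Y F := StructuredArrow.mk (η Y)
    have hi : IsInitial i := by
      refine IsInitial.ofUniqueHom (fun A => StructuredArrow.homMk ((hη Y A.right).2 A.hom).choose
        ((hη Y A.right).2 A.hom).choose_spec) (fun A m => ?_)
      apply StructuredArrow.ext
      apply (hη Y A.right).1
      refine (StructuredArrow.w m).trans ?_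
      exact ((hη Y A.right).2 A.hom).choose_spec.symm
    exact hi.hasInitial
  exact isRightAdjointOfStructuredArrowInitials F

instance (F : C ⥤ D) : (Corep F).IsClosedUnderIsomorphisms where
  of_iso := by
    rintro Y Y' e ⟨Z, η, h⟩
    refine ⟨Z, e.inv ≫ η, fun X => ?_⟩
    have h2 : (fun x : Z ⟶ X => (e.inv ≫ η) ≫ F.map x) = (fun y => e.inv ≫ y) ∘ fun x => η ≫ F.map x := by
      funext x
      exact Category.assoc _ _ _
    rw [h2]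
    refine Function.Bijective.comp ?_ (h X)
    exact ⟨fun a b hab => (cancel_epi e.inv).1 hab, fun y => ⟨e.hom ≫ y, by simp⟩⟩

theorem corep_cofan (F : C ⥤ D) {ι : Type*} (Y : ι → D) (c : Cofan Y) (hc : IsColimit c)
    [hC : HasColimitsOfShape (Discrete ι) C] (h : ∀ i, Corep F (Y i)) : Corep F c.pt := by
  choose Z η hη using h
  let η' : c.pt ⟶ F.obj (∐ Z) := Cofan.IsColimit.desc hc fun i => η i ≫ F.map (Sigma.ι Z i)
  have h1 : ∀ i, c.inj i ≫ η' = η i ≫ F.map (Sigma.ι Z i) := fun i => Cofan.IsColimit.fac hc _ i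
  refine ⟨∐ Z, η', fun X => ⟨fun x x' hx => ?_, fun y => ?_⟩⟩
  · apply Sigma.hom_ext
    intro i
    apply (hη i X).1
    change η i ≫ F.map _ = η i ≫ F.map _
    rw [F.map_comp, F.map_comp, ← Category.assoc, ← Category.assoc, ← h1, Category.assoc, Category.assoc]
    exact congrArg (fun t => c.inj i ≫ t) hx
  · choose x hx using fun i => (hη i X).2 (c.inj i ≫ y)
    refine ⟨Sigma.desc x, ?_⟩
    apply Cofan.IsColimit.hom_ext hc
    intro i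
    change c.inj i ≫ η' ≫ F.map (Sigma.desc x) = c.inj i ≫ y
    rw [← Category.assoc, h1, Category.assoc, ← F.map_comp, Sigma.ι_desc]
    exact hx i

section Tri

variable [Preadditive C] [Preadditive D] [HasZeroObject C] [HasZeroObject D]
  [HasShift C ℤ] [HasShift D ℤ] [∀ n : ℤ, (shiftFunctor C n).Additive] [∀ n : ℤ, (shiftFunctor D n).Additive]
  [Pretriangulated C] [Pretriangulated D] (F : C ⥤ D) [F.CommShift ℤ]

omit [Preadditive C] [Preadditive D] [HasZeroObject C] [HasZeroObject D]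
  [∀ n : ℤ, (shiftFunctor C n).Additive] [∀ n : ℤ, (shiftFunctor D n).Additive]
  [Pretriangulated C] [Pretriangulated D] in
theorem IsU.shift {Y : D} {Z : C} {η : Y ⟶ F.obj Z} (h : IsU F η) (n : ℤ) :
    IsU F (η⟦n⟧' ≫ (F.commShiftIso n).inv.app Z) := by
  have surj : ∀ X' : C, Function.Bijective (fun x : Z⟦n⟧ ⟶ X'⟦n⟧ =>
      (η⟦n⟧' ≫ (F.commShiftIso n).inv.app Z) ≫ F.map x) := by
    intro X'
    have h1 : (fun x : Z⟦n⟧ ⟶ X'⟦n⟧ => (η⟦n⟧' ≫ (F.commShiftIso n).inv.app Z) ≫ F.map x) ∘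
        (fun x : Z ⟶ X' => x⟦n⟧') =
        (fun y : Y⟦n⟧ ⟶ (F.obj X')⟦n⟧ => y ≫ (F.commShiftIso n).inv.app X') ∘
          (fun y : Y ⟶ F.obj X' => y⟦n⟧') ∘ (fun x : Z ⟶ X' => η ≫ F.map x) := by
      funext x
      have h2 := (F.commShiftIso n).inv.naturality x
      change (_ ≫ _) ≫ F.map (x⟦n⟧') = (η ≫ F.map x)⟦n⟧' ≫ _
      rw [Functor.map_comp, Category.assoc, Category.assoc]
      congr 1
      exact h2.symm
    have h3 : Function.Bijective (fun x : Z ⟶ X' => x⟦n⟧') :=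
      ⟨(shiftFunctor C n).map_injective, (shiftFunctor C n).map_surjective⟩
    have h4 : Function.Bijective (fun y : Y ⟶ F.obj X' => y⟦n⟧') :=
      ⟨(shiftFunctor D n).map_injective, (shiftFunctor D n).map_surjective⟩
    have h5 : Function.Bijective (fun y : Y⟦n⟧ ⟶ (F.obj X')⟦n⟧ => y ≫ (F.commShiftIso n).inv.app X') :=
      ⟨fun a b hab => (cancel_mono _).1 hab, fun y => ⟨y ≫ (F.commShiftIso n).hom.app X', by
        change (y ≫ _) ≫ _ = y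
        rw [Category.assoc, Iso.hom_inv_id_app]
        exact Category.comp_id _⟩⟩
    rw [← Function.Bijective.of_comp_iff _ h3, h1]
    exact h5.comp (h4.comp (h X'))
  intro X
  let e : (X⟦-n⟧)⟦n⟧ ≅ X := shiftNegShift X n
  have h6 : (fun x : Z⟦n⟧ ⟶ X => (η⟦n⟧' ≫ (F.commShiftIso n).inv.app Z) ≫ F.map x) ∘ (fun x => x ≫ e.hom) =
      (fun y => y ≫ F.map e.hom) ∘ (fun x : Z⟦n⟧ ⟶ (X⟦-n⟧)⟦n⟧ => (η⟦n⟧' ≫ (F.commShiftIso n).inv.app Z) ≫ F.map x) := by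
    funext x
    change _ ≫ F.map (x ≫ e.hom) = (_ ≫ F.map x) ≫ F.map e.hom
    rw [F.map_comp, Category.assoc, Category.assoc]
    simp only [Category.assoc]
  have h7 : Function.Bijective (fun x : Z⟦n⟧ ⟶ (X⟦-n⟧)⟦n⟧ => x ≫ e.hom) :=
    ⟨fun a b hab => (cancel_mono _).1 hab, fun y => ⟨y ≫ e.inv, by simp⟩⟩
  have h8 : Function.Bijective (fun y : Y⟦n⟧ ⟶ F.obj ((X⟦-n⟧)⟦n⟧) => y ≫ F.map e.hom) :=
    ⟨fun a b hab => (cancel_mono _).1 hab, fun y => ⟨y ≫ F.map e.inv, by simp [← F.map_comp]⟩⟩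
  rw [← Function.Bijective.of_comp_iff _ h7, h6]
  exact h8.comp (surj _)

theorem corep_shift (Y : D) (n : ℤ) (h : Corep F Y) : Corep F (Y⟦n⟧) := by
  obtain ⟨Z, η, h⟩ := h
  exact ⟨_, _, h.shift F n⟩

theorem exists_map [F.IsTriangulated] {Y₁ Y₂ Y₃ : D} {f : Y₁ ⟶ Y₂} {g : Y₂ ⟶ Y₃} {h : Y₃ ⟶ Y₁⟦(1 : ℤ)⟧}
    (hT : Triangle.mk f g h ∈ distTriang D) {Z₁ Z₂ Z₃ : C} {u : Z₁ ⟶ Z₂} {v : Z₂ ⟶ Z₃} {w : Z₃ ⟶ Z₁⟦(1 : ℤ)⟧}
    (hZ : Triangle.mk u v w ∈ distTriang C) (η₁ : Y₁ ⟶ F.obj Z₁) (η₂ : Y₂ ⟶ F.obj Z₂)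
    (hu : f ≫ η₂ = η₁ ≫ F.map u) :
    ∃ η₃ : Y₃ ⟶ F.obj Z₃, g ≫ η₃ = η₂ ≫ F.map v ∧
      η₃ ≫ F.map w = h ≫ (η₁⟦(1 : ℤ)⟧' ≫ (F.commShiftIso (1 : ℤ)).inv.app Z₁) := by
  have hFZ := F.map_distinguished _ hZ
  obtain ⟨η₃, hη₃, hη₃'⟩ : ∃ η₃ : Y₃ ⟶ F.obj Z₃, g ≫ η₃ = η₂ ≫ F.map v ∧
      h ≫ η₁⟦(1 : ℤ)⟧' = η₃ ≫ F.map w ≫ (F.commShiftIso (1 : ℤ)).hom.app Z₁ :=
    complete_distinguished_triangle_morphism _ _ hT hFZ η₁ η₂ hu
  refine ⟨η₃, hη₃, ?_⟩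
  rw [← Category.assoc, hη₃', Category.assoc, Category.assoc, Iso.hom_inv_id_app]
  congr 1
  exact (Category.comp_id _).symm

theorem corep_cone' [F.IsTriangulated] {Y₁ Y₂ Y₃ : D} {f : Y₁ ⟶ Y₂} {g : Y₂ ⟶ Y₃} {h : Y₃ ⟶ Y₁⟦(1 : ℤ)⟧}
    (hT : Triangle.mk f g h ∈ distTriang D) (h1 : Corep F Y₁) (h2 : Corep F Y₂) : Corep F Y₃ := by
  obtain ⟨Z₁, η₁, h₁⟩ := h1
  obtain ⟨Z₂, η₂, h₂⟩ := h2
  obtain ⟨u, hu⟩ := (h₁ Z₂).2 (f ≫ η₂)
  dsimp only at hu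
  obtain ⟨Z₃, v, w, hZ⟩ := distinguished_cocone_triangle u
  obtain ⟨η₃, hη₃, hw⟩ := exists_map F hT hZ η₁ η₂ hu.symm
  have hs := h₁.shift F 1
  have hs₂ := h₂.shift F 1
  have hu' : f⟦(1 : ℤ)⟧' ≫ (η₂⟦(1 : ℤ)⟧' ≫ (F.commShiftIso (1 : ℤ)).inv.app Z₂) =
      (η₁⟦(1 : ℤ)⟧' ≫ (F.commShiftIso (1 : ℤ)).inv.app Z₁) ≫ F.map (u⟦(1 : ℤ)⟧') := by
    have h3 : (F.map u)⟦(1 : ℤ)⟧' ≫ (F.commShiftIso (1 : ℤ)).inv.app Z₂ =
      (F.commShiftIso (1 : ℤ)).inv.app Z₁ ≫ F.map (u⟦(1 : ℤ)⟧') := (F.commShiftIso (1 : ℤ)).inv.naturality u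
    rw [Category.assoc, ← h3, ← Category.assoc, ← Category.assoc, ← Functor.map_comp, ← Functor.map_comp, hu]
  refine ⟨Z₃, η₃, fun X => ⟨?_, fun y => ?_⟩⟩
  · intro a b hab
    rw [← sub_eq_zero]
    generalize hx : a - b = x
    have hx0 : η₃ ≫ F.map x = 0 := by
      rw [← hx, F.map_sub, Preadditive.comp_sub, sub_eq_zero]
      exact hab
    have h3 : v ≫ x = 0 := by
      apply (h₂ X).1
      change η₂ ≫ F.map (v ≫ x) = η₂ ≫ F.map 0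
      rw [F.map_comp, ← Category.assoc, ← hη₃, Category.assoc, hx0, comp_zero, F.map_zero, comp_zero]
    obtain ⟨x', hx'⟩ : ∃ x' : Z₁⟦(1 : ℤ)⟧ ⟶ X, x = w ≫ x' := Triangle.yoneda_exact₃ _ hZ x h3
    have h4 : h ≫ ((η₁⟦(1 : ℤ)⟧' ≫ (F.commShiftIso (1 : ℤ)).inv.app Z₁) ≫ F.map x') = 0 := by
      rw [← Category.assoc, ← hw, Category.assoc, ← F.map_comp, ← hx', hx0]
    obtain ⟨y', hy'⟩ : ∃ y' : Y₂⟦(1 : ℤ)⟧ ⟶ F.obj X,
        ((η₁⟦(1 : ℤ)⟧' ≫ (F.commShiftIso (1 : ℤ)).inv.app Z₁) ≫ F.map x') = (-f⟦(1 : ℤ)⟧') ≫ y' :=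
      Triangle.yoneda_exact₃ _ (rot_of_distTriang _ hT) _ h4
    obtain ⟨z', hz'⟩ := (hs₂ X).2 y'
    dsimp only at hz'
    have h5 : x' = -(u⟦(1 : ℤ)⟧' ≫ z') := by
      apply (hs X).1
      change _ ≫ F.map x' = _ ≫ F.map (-(u⟦(1 : ℤ)⟧' ≫ z'))
      rw [hy', ← hz', F.map_neg, F.map_comp, Preadditive.comp_neg, Preadditive.neg_comp, ← Category.assoc, hu']
      simp only [Category.assoc]
    have h6 : w ≫ u⟦(1 : ℤ)⟧' = 0 := comp_distTriang_mor_zero₃₁ _ hZ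
    rw [hx', h5, Preadditive.comp_neg, ← Category.assoc, h6, zero_comp, neg_zero]
  · obtain ⟨z, hz⟩ := (h₂ X).2 (g ≫ y)
    dsimp only at hz
    have h3 : u ≫ z = 0 := by
      apply (h₁ X).1
      change η₁ ≫ F.map (u ≫ z) = η₁ ≫ F.map 0
      rw [F.map_comp, ← Category.assoc, hu, Category.assoc, hz, ← Category.assoc,
        show f ≫ g = 0 from comp_distTriang_mor_zero₁₂ _ hT, zero_comp, F.map_zero, comp_zero]
    obtain ⟨z₃, hz₃⟩ : ∃ z₃ : Z₃ ⟶ X, z = v ≫ z₃ := Triangle.yoneda_exact₂ _ hZ z h3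
    have h4 : g ≫ (y - η₃ ≫ F.map z₃) = 0 := by
      rw [Preadditive.comp_sub, ← Category.assoc, hη₃, Category.assoc, ← F.map_comp, ← hz₃, hz, sub_self]
    obtain ⟨y', hy'⟩ : ∃ y' : Y₁⟦(1 : ℤ)⟧ ⟶ F.obj X, y - η₃ ≫ F.map z₃ = h ≫ y' :=
      Triangle.yoneda_exact₃ _ hT _ h4
    obtain ⟨x', hx'⟩ := (hs X).2 y'
    dsimp only at hx'
    refine ⟨z₃ + w ≫ x', ?_⟩
    change η₃ ≫ F.map (z₃ + w ≫ x') = y
    rw [F.map_add, Preadditive.comp_add, F.map_comp, ← Category.assoc, hw]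
    have h5 : (h ≫ η₁⟦(1 : ℤ)⟧' ≫ (F.commShiftIso (1 : ℤ)).inv.app Z₁) ≫ F.map x' = h ≫ y' := by
      rw [← hx']
      simp only [Category.assoc]
    rw [h5, ← hy']
    simp

theorem corep_cone [F.IsTriangulated] (T : Triangle D) (hT : T ∈ distTriang D) (h1 : Corep F T.obj₁)
    (h2 : Corep F T.obj₂) : Corep F T.obj₃ :=
  corep_cone' F (f := T.mor₁) (g := T.mor₂) (h := T.mor₃) hT h1 h2

end Tri

end K779.Corep
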