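import Mathlib.Algebra.Category.ModuleCat.Presheaf.Pushforward
import Mathlib.Algebra.DirectSum.Module

/-!
# Extension by zero of presheaves of modules along the category of elements of a presheaf of sets

For `R : Cᵒᵖ ⥤ RingCat` and `S : Cᵒᵖ ⥤ Type u`, with `El S` the category of pairs `(U, x ∈ S(U))`, the functor
`shriek R S : PresheafOfModules (R|El S) ⥤ PresheafOfModules R`, `(shriek M)(U) = ⨁ (x ∈ S(U)), M(U, x)`, left adjoint
to restriction, and exact.
-/

set_option autoImplicit false

universe u

open CategoryTheory Opposite DirectSum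

namespace K779.Elt

variable {C : Type u} [SmallCategory C]

/-- pairs `(U, x ∈ S(U))` -/
structure El (S : Cᵒᵖ ⥤ Type u) : Type u where
  /-- the object -/
  pt : C
  /-- the section -/
  x : S.obj (op pt)

/-- morphisms compatible with the sections -/
@[ext]
structure ElHom {S : Cᵒᵖ ⥤ Type u} (A B : El S) : Type u where
  /-- the underlying morphism -/
  f : A.pt ⟶ B.pt
  w : S.map f.op B.x = A.x

instance (S : Cᵒᵖ ⥤ Type u) : SmallCategory (El S) where
  Hom A B := ElHom A B
  id A := ⟨𝟙 _, by rw [op_id, S.map_id]; rfl⟩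
  comp {A B D} g h := ⟨g.f ≫ h.f, by
    rw [op_comp, S.map_comp]
    change S.map g.f.op (S.map h.f.op D.x) = A.x
    rw [h.w, g.w]⟩
  id_comp _ := by apply ElHom.ext; exact Category.id_comp _
  comp_id _ := by apply ElHom.ext; exact Category.comp_id _
  assoc _ _ _ := by apply ElHom.ext; exact Category.assoc _ _ _

theorem hom_ext {S : Cᵒᵖ ⥤ Type u} {A B : El S} {g h : A ⟶ B} (e : g.f = h.f) : g = h := ElHom.ext e

/-- The projection. -/
abbrev proj (S : Cᵒᵖ ⥤ Type u) : El S ⥤ C where
  obj A := A.pt
  map g := g.f

lemma S_map_id {S : Cᵒᵖ ⥤ Type u} (U : Cᵒᵖ) (x : S.obj U) : S.map (𝟙 U) x = x :=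
  Functor.map_id_apply S U x

lemma S_map_comp {S : Cᵒᵖ ⥤ Type u} {U V W : Cᵒᵖ} (g : U ⟶ V) (h : V ⟶ W) (x : S.obj U) :
    S.map (g ≫ h) x = S.map h (S.map g x) :=
  Functor.map_comp_apply S g h x

/-- the lift of a morphism -/
def lift {S : Cᵒᵖ ⥤ Type u} {U V : Cᵒᵖ} (g : U ⟶ V) (x : S.obj U) :
    (El.mk V.unop (S.map g x) : El S) ⟶ El.mk U.unop x := ⟨g.unop, rfl⟩

variable (R : Cᵒᵖ ⥤ RingCat.{u}) (S : Cᵒᵖ ⥤ Type u)

/-- Restriction of a presheaf of rings. -/
abbrev rel : (El S)ᵒᵖ ⥤ RingCat.{u} := (proj S).op ⋙ R

variable {R S}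

/-- The value of `M` on `(U, x)`. -/
abbrev fib (M : PresheafOfModules.{u} (rel R S)) (U : Cᵒᵖ) (x : S.obj U) : Type u :=
  M.obj (op (El.mk U.unop x))

noncomputable instance (M : PresheafOfModules.{u} (rel R S)) (U : Cᵒᵖ) (x : S.obj U) :
    Module (R.obj U) (fib M U x) :=
  inferInstanceAs (Module ((rel R S).obj (op (El.mk U.unop x))) (M.obj (op (El.mk U.unop x))))

/-- Sections of the extension by zero. -/
abbrev shObj (M : PresheafOfModules.{u} (rel R S)) (U : Cᵒᵖ) : Type u :=
  ⨁ x : S.obj U, fib M U x

open Classical in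
/-- The element of the extension by zero given by an element of a fibre. -/
noncomputable def of (M : PresheafOfModules.{u} (rel R S)) (U : Cᵒᵖ) (x : S.obj U) :
    fib M U x →ₗ[R.obj U] shObj M U :=
  DirectSum.lof (R.obj U) (S.obj U) (fib M U) x

lemma of_injective (M : PresheafOfModules.{u} (rel R S)) (U : Cᵒᵖ) (x : S.obj U) :
    Function.Injective (of M U x) := by
  classical
  exact DirectSum.of_injective (β := fib M U) x

lemma of_apply_same (M : PresheafOfModules.{u} (rel R S)) (U : Cᵒᵖ) (x : S.obj U)
    (m : fib M U x) : (of M U x m) x = m := by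
  classical
  exact DirectSum.of_eq_same (β := fib M U) x m

lemma of_apply_ne (M : PresheafOfModules.{u} (rel R S)) (U : Cᵒᵖ) {x y : S.obj U}
    (h : y ≠ x) (m : fib M U y) : (of M U y m) x = 0 := by
  classical
  exact DirectSum.of_eq_of_ne (β := fib M U) _ _ _ (Ne.symm h)

lemma addHom_ext' {M : PresheafOfModules.{u} (rel R S)} {U : Cᵒᵖ} {T : Type*} [AddMonoid T]
    {a b : shObj M U →+ T} (h : ∀ (x : S.obj U) (m : fib M U x), a (of M U x m) = b (of M U x m)) :
    a = b := by
  classical
  exact DirectSum.addHom_ext h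

lemma of_eq (M : PresheafOfModules.{u} (rel R S)) {U : Cᵒᵖ} {x x' : S.obj U}
    (e : (El.mk U.unop x' : El S) ⟶ El.mk U.unop x) (he : e.f = 𝟙 _) (m : fib M U x) :
    of M U x' (M.map e.op m) = of M U x m := by
  obtain rfl : x = x' := by
    have h := e.w
    rw [he] at h
    have h2 : S.map (𝟙 U.unop).op x = x := S_map_id U x
    exact h2.symm.trans h
  obtain rfl : e = 𝟙 _ := hom_ext he
  congr 1
  erw [M.map_id]
  rfl

/-- Restriction along `g` on a fibre. -/
noncomputable def resFib (M : PresheafOfModules.{u} (rel R S)) {U V : Cᵒᵖ} (g : U ⟶ V)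
    (x : S.obj U) : fib M U x →+ fib M V (S.map g x) :=
  AddMonoidHom.mk' (fun m => M.map (lift g x).op m)
    (fun a b => map_add (M.map _).hom a b)

lemma resFib_apply (M : PresheafOfModules.{u} (rel R S)) {U V : Cᵒᵖ} (g : U ⟶ V)
    (x : S.obj U) (m : fib M U x) : resFib M g x m = M.map (lift g x).op m := rfl

lemma resFib_smul (M : PresheafOfModules.{u} (rel R S)) {U V : Cᵒᵖ} (g : U ⟶ V)
    (x : S.obj U) (r : R.obj U) (m : fib M U x) :
    resFib M g x (r • m) = (R.map g).hom r • resFib M g x m :=
  M.map_smul (lift g x).op r m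

open Classical in
/-- Restriction maps of the extension by zero. -/
noncomputable def res (M : PresheafOfModules.{u} (rel R S)) {U V : Cᵒᵖ} (g : U ⟶ V) :
    shObj M U →+ shObj M V :=
  DirectSum.toAddMonoid fun x => (of M V (S.map g x)).toAddMonoidHom.comp (resFib M g x)

@[simp]
lemma res_of (M : PresheafOfModules.{u} (rel R S)) {U V : Cᵒᵖ} (g : U ⟶ V)
    (x : S.obj U) (m : fib M U x) :
    res M g (of M U x m) = of M V (S.map g x) (resFib M g x m) := by
  classical
  exact DirectSum.toAddMonoid_of _ _ _

lemma res_smul (M : PresheafOfModules.{u} (rel R S)) {U V : Cᵒᵖ} (g : U ⟶ V)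
    (r : R.obj U) (m : shObj M U) : res M g (r • m) = (R.map g).hom r • res M g m := by
  classical
  induction m using DirectSum.induction_on with
  | zero => simp
  | of x m =>
    change res M g (r • of M U x m) = (R.map g).hom r • res M g (of M U x m)
    rw [← map_smul, res_of, res_of, ← map_smul, resFib_smul]
  | add a b ha hb => rw [smul_add, map_add, map_add, smul_add, ha, hb]

/-- The underlying abelian presheaf of the extension by zero. -/
noncomputable def shAb (M : PresheafOfModules.{u} (rel R S)) : Cᵒᵖ ⥤ Ab.{u} where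
  obj U := AddCommGrpCat.of (shObj M U)
  map g := AddCommGrpCat.ofHom (res M g)
  map_id U := by
    ext1
    apply addHom_ext'
    intro x m
    change res M (𝟙 U) (of M U x m) = of M U x m
    rw [res_of]
    exact of_eq M (x' := S.map (𝟙 U) x) (x := x) (lift (𝟙 U) x) rfl m
  map_comp {U V W} g h := by
    ext1
    apply addHom_ext'
    intro x m
    change res M (g ≫ h) (of M U x m) = res M h (res M g (of M U x m))
    rw [res_of, res_of, res_of]
    let e : (El.mk W.unop (S.map h (S.map g x)) : El S) ⟶ El.mk W.unop (S.map (g ≫ h) x) :=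
      ⟨𝟙 _, (S_map_id W _).trans (S_map_comp g h x)⟩
    have key := of_eq M (U := W) (x' := S.map h (S.map g x)) (x := S.map (g ≫ h) x) e rfl
      (resFib M (g ≫ h) x m)
    rw [← key]
    congr 1
    rw [resFib_apply, resFib_apply, resFib_apply, ← PresheafOfModules.map_comp_apply,
      ← PresheafOfModules.map_comp_apply]
    apply PresheafOfModules.congr_map_apply
    apply Quiver.Hom.unop_inj
    apply hom_ext
    exact Category.id_comp _

noncomputable instance (M : PresheafOfModules.{u} (rel R S)) (U : Cᵒᵖ) :
    Module (R.obj U) ((shAb M).obj U) := inferInstanceAs (Module (R.obj U) (shObj M U))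

/-- The extension by zero of a presheaf of modules. -/
noncomputable def sh (M : PresheafOfModules.{u} (rel R S)) : PresheafOfModules.{u} R :=
  PresheafOfModules.ofPresheaf (shAb M) (fun _ _ g r m => res_smul M g r m)

open Classical in
/-- Functoriality of the extension by zero, on sections. -/
noncomputable def shMapApp {M N : PresheafOfModules.{u} (rel R S)} (φ : M ⟶ N) (U : Cᵒᵖ) :
    shObj M U →ₗ[R.obj U] shObj N U :=
  DirectSum.toModule (R.obj U) _ _ fun x => (of N U x).comp (φ.app (op (El.mk U.unop x))).hom

@[simp]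
lemma shMapApp_of {M N : PresheafOfModules.{u} (rel R S)} (φ : M ⟶ N) (U : Cᵒᵖ)
    (x : S.obj U) (m : fib M U x) :
    shMapApp φ U (of M U x m) = of N U x ((φ.app (op (El.mk U.unop x))).hom m) := by
  classical
  exact DirectSum.toModule_lof _ _ _

/-- Functoriality of the extension by zero. -/
noncomputable def shMap {M N : PresheafOfModules.{u} (rel R S)} (φ : M ⟶ N) : sh M ⟶ sh N :=
  PresheafOfModules.homMk (M₁ := sh M) (M₂ := sh N)
    { app := fun U => AddCommGrpCat.ofHom (shMapApp φ U).toAddMonoidHom
      naturality := fun U V g => by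
        ext1
        apply addHom_ext'
        intro x m
        change shMapApp φ V (res M g (of M U x m)) = res N g (shMapApp φ U (of M U x m))
        rw [res_of, shMapApp_of, shMapApp_of, res_of]
        congr 1
        exact PresheafOfModules.naturality_apply φ _ m }
    (fun U r m => (shMapApp φ U).map_smul r m)

lemma shMap_app_apply {M N : PresheafOfModules.{u} (rel R S)} (φ : M ⟶ N) (U : Cᵒᵖ)
    (m : shObj M U) : ((shMap φ).app U).hom m = shMapApp φ U m := rfl

lemma sh_hom_ext {M : PresheafOfModules.{u} (rel R S)} {N : PresheafOfModules.{u} R}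
    {a b : sh M ⟶ N} (h : ∀ (U : Cᵒᵖ) (x : S.obj U) (m : fib M U x),
      (a.app U).hom (of M U x m) = (b.app U).hom (of M U x m)) : a = b := by
  ext U : 2
  apply LinearMap.toAddMonoidHom_injective
  apply addHom_ext'
  intro x m
  exact h U x m

variable (R S) in
/-- The extension by zero functor. -/
noncomputable def shriek : PresheafOfModules.{u} (rel R S) ⥤ PresheafOfModules.{u} R where
  obj M := sh M
  map φ := shMap φ
  map_id M := by
    apply sh_hom_ext
    intro U x m
    exact shMapApp_of (𝟙 M) U x m
  map_comp {M N P} φ ψ := by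
    apply sh_hom_ext
    intro U x m
    change shMapApp (φ ≫ ψ) U (of M U x m) = shMapApp ψ U (shMapApp φ U (of M U x m))
    rw [shMapApp_of, shMapApp_of, shMapApp_of]
    rfl

variable (R S) in
/-- Restriction. -/
noncomputable abbrev restr : PresheafOfModules.{u} R ⥤ PresheafOfModules.{u} (rel R S) :=
  PresheafOfModules.pushforward (F := proj S) (𝟙 (rel R S))

/-- From maps out of the extension by zero to maps into the restriction. -/
noncomputable def toRestr {M : PresheafOfModules.{u} (rel R S)} {N : PresheafOfModules.{u} R}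
    (φ : sh M ⟶ N) : M ⟶ (restr R S).obj N :=
  PresheafOfModules.homMk
    { app := fun Y => AddCommGrpCat.ofHom ((φ.app (op Y.unop.pt)).hom.toAddMonoidHom.comp
        (of M (op Y.unop.pt) Y.unop.x).toAddMonoidHom)
      naturality := by
        intro Y Z g
        ext m
        change M.obj Y at m
        change (φ.app (op Z.unop.pt)).hom (of M (op Z.unop.pt) Z.unop.x (M.map g m)) =
          N.map g.unop.f.op ((φ.app (op Y.unop.pt)).hom (of M (op Y.unop.pt) Y.unop.x m))
        have h := PresheafOfModules.naturality_apply φ g.unop.f.op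
          (of M (op Y.unop.pt) Y.unop.x m)
        refine Eq.trans ?_ h
        congr 1
        change _ = res M g.unop.f.op (of M (op Y.unop.pt) Y.unop.x m)
        rw [res_of]
        have hw : S.map g.unop.f.op Y.unop.x = Z.unop.x := g.unop.w
        let e : (El.mk Z.unop.pt Z.unop.x : El S) ⟶ El.mk Z.unop.pt (S.map g.unop.f.op Y.unop.x) :=
          ⟨𝟙 _, (S_map_id _ _).trans hw⟩
        have key := of_eq M (U := op Z.unop.pt) (x' := Z.unop.x) (x := S.map g.unop.f.op Y.unop.x)
          e rfl (resFib M g.unop.f.op Y.unop.x m)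
        refine Eq.trans ?_ key
        congr 1
        rw [resFib_apply, ← PresheafOfModules.map_comp_apply]
        apply PresheafOfModules.congr_map_apply
        apply Quiver.Hom.unop_inj
        apply hom_ext
        exact (Category.id_comp _).symm }
    (fun Y r m => by
      have h1 := (of M (op Y.unop.pt) Y.unop.x).map_smul (show R.obj (op Y.unop.pt) from r) m
      have h2 := (φ.app (op Y.unop.pt)).hom.map_smul (show R.obj (op Y.unop.pt) from r)
        (of M (op Y.unop.pt) Y.unop.x m)
      exact (congrArg (φ.app (op Y.unop.pt)).hom h1).trans h2)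

lemma toRestr_app {M : PresheafOfModules.{u} (rel R S)} {N : PresheafOfModules.{u} R}
    (φ : sh M ⟶ N) (Y : (El S)ᵒᵖ) (m : M.obj Y) :
    ((toRestr φ).app Y).hom m = (φ.app (op Y.unop.pt)).hom (of M (op Y.unop.pt) Y.unop.x m) :=
  rfl

/-- The component at `x` of a map to the restriction. -/
noncomputable def fromRestrFib {M : PresheafOfModules.{u} (rel R S)} {N : PresheafOfModules.{u} R}
    (ψ : M ⟶ (restr R S).obj N) (U : Cᵒᵖ) (x : S.obj U) : fib M U x →ₗ[R.obj U] N.obj U where
  toFun m := (ψ.app (op (El.mk U.unop x))).hom m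
  map_add' a b := map_add (ψ.app (op (El.mk U.unop x))).hom a b
  map_smul' r a := (ψ.app (op (El.mk U.unop x))).hom.map_smul r a

open Classical in
/-- The sections of the map out of the extension by zero attached to a map to the restriction. -/
noncomputable def fromRestrApp {M : PresheafOfModules.{u} (rel R S)} {N : PresheafOfModules.{u} R}
    (ψ : M ⟶ (restr R S).obj N) (U : Cᵒᵖ) : shObj M U →ₗ[R.obj U] N.obj U :=
  DirectSum.toModule (R.obj U) _ _ (fromRestrFib ψ U)

@[simp]
lemma fromRestrApp_of {M : PresheafOfModules.{u} (rel R S)} {N : PresheafOfModules.{u} R}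
    (ψ : M ⟶ (restr R S).obj N) (U : Cᵒᵖ) (x : S.obj U) (m : fib M U x) :
    fromRestrApp ψ U (of M U x m) = (ψ.app (op (El.mk U.unop x))).hom m := by
  classical
  exact DirectSum.toModule_lof _ _ _

/-- From maps into the restriction to maps out of the extension by zero. -/
noncomputable def fromRestr {M : PresheafOfModules.{u} (rel R S)} {N : PresheafOfModules.{u} R}
    (ψ : M ⟶ (restr R S).obj N) : sh M ⟶ N :=
  PresheafOfModules.homMk (M₁ := sh M)
    { app := fun U => AddCommGrpCat.ofHom (fromRestrApp ψ U).toAddMonoidHom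
      naturality := by
        intro U V g
        ext1
        apply addHom_ext'
        intro x m
        change fromRestrApp ψ V (res M g (of M U x m)) = N.map g (fromRestrApp ψ U (of M U x m))
        rw [res_of, fromRestrApp_of, fromRestrApp_of]
        exact PresheafOfModules.naturality_apply ψ (lift g x).op m }
    (fun U r m => (fromRestrApp ψ U).map_smul r m)

lemma fromRestr_app {M : PresheafOfModules.{u} (rel R S)} {N : PresheafOfModules.{u} R}
    (ψ : M ⟶ (restr R S).obj N) (U : Cᵒᵖ) (m : shObj M U) :
    ((fromRestr ψ).app U).hom m = fromRestrApp ψ U m := rfl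

variable (R S) in
/-- Extension by zero is left adjoint to restriction. -/
noncomputable def adj : shriek R S ⊣ restr R S :=
  Adjunction.mkOfHomEquiv
    { homEquiv := fun M N =>
        { toFun := fun φ => toRestr φ
          invFun := fun ψ => fromRestr ψ
          left_inv := fun φ => by
            apply sh_hom_ext
            intro U x m
            rw [fromRestr_app, fromRestrApp_of]
            rfl
          right_inv := fun ψ => by
            ext Y m
            exact fromRestrApp_of ψ (op Y.unop.pt) Y.unop.x m }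
      homEquiv_naturality_left_symm := by
        intro M' M N a b
        apply sh_hom_ext
        intro U x m
        change fromRestrApp (a ≫ b) U (of M' U x m) = fromRestrApp b U (shMapApp a U (of M' U x m))
        rw [shMapApp_of, fromRestrApp_of, fromRestrApp_of]
        rfl
      homEquiv_naturality_right := by
        intro M N N' a b
        rfl }

lemma shMapApp_apply {M N : PresheafOfModules.{u} (rel R S)} (φ : M ⟶ N) (U : Cᵒᵖ)
    (z : shObj M U) (x : S.obj U) :
    (shMapApp φ U z) x = (φ.app (op (El.mk U.unop x))).hom (z x) := by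
  classical
  induction z using DirectSum.induction_on with
  | zero => simp
  | of y m =>
    change (shMapApp φ U (of M U y m)) x = _
    rw [shMapApp_of]
    change _ = (φ.app (op (El.mk U.unop x))).hom ((of M U y m) x)
    by_cases h : y = x
    · subst h
      rw [of_apply_same, of_apply_same]
    · rw [of_apply_ne _ _ h, of_apply_ne _ _ h]
      exact (map_zero _).symm
  | add a b ha hb => rw [map_add, DirectSum.add_apply, DirectSum.add_apply, map_add, ha, hb]

lemma shMapApp_injective {M N : PresheafOfModules.{u} (rel R S)} (φ : M ⟶ N)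
    (h : ∀ Y : (El S)ᵒᵖ, Function.Injective (φ.app Y).hom) (U : Cᵒᵖ) :
    Function.Injective (shMapApp φ U) := by
  intro a b hab
  refine DFinsupp.ext fun x => ?_
  apply h (op (El.mk U.unop x))
  have := congrArg (fun t : shObj N U => t x) hab
  dsimp only at this
  rwa [shMapApp_apply, shMapApp_apply] at this

end K779.Elt
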