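import Groth.Agent.PerfA.OpenPush
import Mathlib.CategoryTheory.Shift.Adjunction

/-!
# The right adjoint of the functor induced by an exact functor on derived categories
-/

set_option autoImplicit false

universe v v' u u'

open CategoryTheory CategoryTheory.Limits

attribute [local instance] HasDerivedCategory.standard

namespace K779.RAdj

open Groth.Agent.Dcoh.DerAbs Groth.Agent.Dcoh.DerHo Groth.Agent.Dcoh.DerAdj
  Groth.Agent.Dcoh.DerComp

variable {A : Type u} [Category.{v} A] [Abelian A] {B : Type u'} [Category.{v'} B] [Abelian B]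
  (L : B ⥤ A) [L.Additive] [PreservesFiniteLimits L] [PreservesFiniteColimits L]

theorem isLeftAdjoint (hA : HasKInj A) (h : L.IsLeftAdjoint) : L.mapDerivedCategory.IsLeftAdjoint := by
  have : L.rightAdjoint.Additive := (Adjunction.ofIsLeftAdjoint L).right_adjoint_additive
  have : (mapQh L.rightAdjoint).HasRightDerivedFunctor (qis A) := hasRightDerivedFunctor hA _
  exact (Groth.Agent.PerfA.OpenPush.derAdj (Adjunction.ofIsLeftAdjoint L) hA
    ((mapQh L.rightAdjoint).totalRightDerived DerivedCategory.Qh (qis A))
    ((mapQh L.rightAdjoint).totalRightDerivedUnit DerivedCategory.Qh (qis A))).isLeftAdjoint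

variable {L} {G : DerivedCategory A ⥤ DerivedCategory B} (dadj : L.mapDerivedCategory ⊣ G)

/-- The additive equivalence `Hom(L X[0], K⟦n⟧) ≃ Hom(X[0], (G K)⟦n⟧)`. -/
noncomputable def eqR (X : B) (K : DerivedCategory A) (n : ℤ) :
    ((DerivedCategory.singleFunctor A 0).obj (L.obj X) ⟶ (shiftFunctor _ n).obj K) ≃+
      ((DerivedCategory.singleFunctor B 0).obj X ⟶ (shiftFunctor _ n).obj (G.obj K)) :=
  letI := dadj.rightAdjointCommShift ℤ
  haveI : G.Additive := dadj.right_adjoint_additive
  { toFun := fun f => dadj.homEquiv _ _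
        ((L.mapDerivedCategorySingleFunctor 0).hom.app X ≫ f) ≫ (G.commShiftIso n).hom.app K
    invFun := fun g => (L.mapDerivedCategorySingleFunctor 0).inv.app X ≫
      (dadj.homEquiv _ _).symm (g ≫ (G.commShiftIso n).inv.app K)
    left_inv := fun f => by simp
    right_inv := fun g => by simp
    map_add' := fun f g => by
      rw [Preadditive.comp_add, Adjunction.homEquiv_unit, Adjunction.homEquiv_unit,
        Adjunction.homEquiv_unit, Functor.map_add, Preadditive.comp_add, Preadditive.add_comp] }

theorem eqR_natural {X X' : B} (e : X ⟶ X') (K : DerivedCategory A) (n : ℤ)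
    (x : (DerivedCategory.singleFunctor A 0).obj (L.obj X') ⟶ (shiftFunctor _ n).obj K) :
    eqR dadj X K n ((DerivedCategory.singleFunctor A 0).map (L.map e) ≫ x) =
      (DerivedCategory.singleFunctor B 0).map e ≫ eqR dadj X' K n x := by
  change dadj.homEquiv _ _ ((L.mapDerivedCategorySingleFunctor 0).hom.app X ≫ _) ≫ _ =
    _ ≫ dadj.homEquiv _ _ ((L.mapDerivedCategorySingleFunctor 0).hom.app X' ≫ _) ≫ _
  have h := (L.mapDerivedCategorySingleFunctor 0).hom.naturality e
  have h2 : (L.mapDerivedCategorySingleFunctor 0).hom.app X ≫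
      (DerivedCategory.singleFunctor A 0).map (L.map e) ≫ x =
      L.mapDerivedCategory.map ((DerivedCategory.singleFunctor B 0).map e) ≫
      (L.mapDerivedCategorySingleFunctor 0).hom.app X' ≫ x := by
    rw [← Category.assoc, ← Category.assoc]
    congr 1
    exact h.symm
  rw [h2]
  refine (congrArg (fun t => t ≫ _) (Adjunction.homEquiv_naturality_left _ _ _)).trans ?_
  exact Category.assoc _ _ _

end K779.RAdj
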