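import Groth.Agent.DerComp.K779.ElMod
import Groth.Agent.DerComp.K779.RAdj
import Groth.Agent.DerComp.K779.Local

/-!
# Completeness of `Hom(pi X, Z)` for modules `X` on a category of elements
-/

set_option autoImplicit false

universe u

open CategoryTheory CategoryTheory.Limits Opposite

attribute [local instance] HasDerivedCategory.standard

namespace K779.ElKL

open Elt ElMod Sec HU Tri Gen K230.DCSeq

variable {C : Type u} [SmallCategory C] {J : GrothendieckTopology C} {O : Sheaf J CommRingCat.{u}}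
  {S : Cᵒᵖ ⥤ Type u}

theorem dc_of_cpl (s : DerComp.GSec O) (K : DerivedCategory (ModSite.Mod O)) (h : Cpl s K) (X : ModSite.Mod O)
    (n : ℤ) : DC s (SiteCmp.inD O X ⟶ K⟦n⟧) := h.shift n _

variable {G : DerivedCategory (ModSite.Mod O) ⥤ DerivedCategory (ModSite.Mod (oE O S))}
  (dadj : (pi O S).mapDerivedCategory ⊣ G)

theorem eqR_opr (Z : DerivedCategory (ModSite.Mod O)) (W : El S) (f : O.obj.obj (op W.pt)) (n : ℤ)
    (x : (DerivedCategory.singleFunctor (ModSite.Mod O) 0).obj ((pi O S).obj (ModSite.freeOn (oE O S) W)) ⟶ Z⟦n⟧) :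
    RAdj.eqR dadj (ModSite.freeOn (oE O S) W) Z n
      ((DerivedCategory.singleFunctor (ModSite.Mod O) 0).map ((pi O S).map (mul (oE O S) W (oe W f))) ≫ x) =
      opr (oE O S) W (oe W f) _ (RAdj.eqR dadj (ModSite.freeOn (oE O S) W) Z n x) :=
  RAdj.eqR_natural dadj (mul (oE O S) W (oe W f)) Z n x

/-- The equivalence `H^n(W.pt, Z) ≃ H^n(W, G Z)`. -/
noncomputable def eqE (Z : DerivedCategory (ModSite.Mod O)) (W : El S) (n : ℤ) :
    (SiteCmp.inD O (ModSite.freeOn O W.pt) ⟶ Z⟦n⟧) ≃+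
      (SiteCmp.inD (oE O S) (ModSite.freeOn (oE O S) W) ⟶ (G.obj Z)⟦n⟧) :=
  AddEquiv.trans
    { toFun := fun x => (DerivedCategory.singleFunctor (ModSite.Mod O) 0).map (thetaE W).inv ≫ x
      invFun := fun x => (DerivedCategory.singleFunctor (ModSite.Mod O) 0).map (thetaE W).hom ≫ x
      left_inv := fun x => by
        simp only []
        rw [← Functor.map_comp_assoc, Iso.hom_inv_id, CategoryTheory.Functor.map_id, Category.id_comp]
      right_inv := fun x => by
        simp only []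
        rw [← Functor.map_comp_assoc, Iso.inv_hom_id, CategoryTheory.Functor.map_id, Category.id_comp]
      map_add' := fun x y => Preadditive.comp_add _ _ _ _ _ _ }
    (RAdj.eqR dadj (ModSite.freeOn (oE O S) W) Z n)

theorem eqE_opr (Z : DerivedCategory (ModSite.Mod O)) (W : El S) (f : O.obj.obj (op W.pt)) (n : ℤ)
    (x : SiteCmp.inD O (ModSite.freeOn O W.pt) ⟶ Z⟦n⟧) :
    eqE dadj Z W n (opr O W.pt f _ x) = opr (oE O S) W (oe W f) _ (eqE dadj Z W n x) := by
  have h : (thetaE W).inv ≫ mul O W.pt f =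
      (pi O S).map (mul (oE O S) W (oe W f)) ≫ (thetaE W).inv := by
    rw [Iso.inv_comp_eq, ← Category.assoc, ← mul_thetaE, Category.assoc, Iso.hom_inv_id, Category.comp_id]
  have h2 : (DerivedCategory.singleFunctor (ModSite.Mod O) 0).map (thetaE W).inv ≫
      (DerivedCategory.singleFunctor (ModSite.Mod O) 0).map (mul O W.pt f) ≫ x =
      (DerivedCategory.singleFunctor (ModSite.Mod O) 0).map ((pi O S).map (mul (oE O S) W (oe W f))) ≫
        (DerivedCategory.singleFunctor (ModSite.Mod O) 0).map (thetaE W).inv ≫ x := by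
    rw [← Functor.map_comp_assoc, h, Functor.map_comp_assoc]
  exact (congrArg (RAdj.eqR dadj (ModSite.freeOn (oE O S) W) Z n) h2).trans (eqR_opr dadj Z W f n _)

include dadj in
theorem hc_iff (Z : DerivedCategory (ModSite.Mod O)) (W : El S) (f : O.obj.obj (op W.pt)) (n : ℤ) :
    HC (oE O S) (G.obj Z) W (oe W f) n ↔ HC O Z W.pt f n :=
  (bijective_congr (eqE dadj Z W n) (opr O W.pt f _) (opr (oE O S) W (oe W f) _) (eqE_opr dadj Z W f n)).symm

include dadj in
theorem cpl (Z : DerivedCategory (ModSite.Mod O)) (s : DerComp.GSec (oE O S))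
    (hZ : ∀ (W : El S) (n : ℤ), HC O Z W.pt (s.1 W) n) : Cpl s (G.obj Z) :=
  Local.cpl_of_hc (oE O S) covering_true s (G.obj Z) fun W _ n => (hc_iff dadj Z W (s.1 W) n).2 (hZ W n)

theorem isLeftAdjoint_piD : (pi O S).mapDerivedCategory.IsLeftAdjoint :=
  RAdj.isLeftAdjoint (pi O S) (K578.Der.hasKInj O) (ElMod.isLeftAdjoint_pi O S)

theorem eqR_smul (Z : DerivedCategory (ModSite.Mod O)) (s : DerComp.GSec (oE O S))
    (X : ModSite.Mod (oE O S)) (n : ℤ) (x : SiteCmp.inD O ((pi O S).obj X) ⟶ Z⟦n⟧) :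
    RAdj.eqR dadj X Z n ((DerivedCategory.singleFunctor (ModSite.Mod O) 0).map ((pi O S).map (s • 𝟙 X)) ≫ x) =
      s • RAdj.eqR dadj X Z n x :=
  (RAdj.eqR_natural dadj (s • 𝟙 X) Z n x).trans (single_smul_comp (oE O S) X _)

include dadj in
theorem dc_pi' (Z : DerivedCategory (ModSite.Mod O)) (s : DerComp.GSec (oE O S))
    (hZ : ∀ (W : El S) (n : ℤ), HC O Z W.pt (s.1 W) n) (X : ModSite.Mod (oE O S)) (n : ℤ) :
    Function.Bijective (fun (x : ℕ → (SiteCmp.inD O ((pi O S).obj X) ⟶ Z⟦n⟧)) (k : ℕ) =>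
      x k - (DerivedCategory.singleFunctor (ModSite.Mod O) 0).map ((pi O S).map (s • 𝟙 X)) ≫ x (k + 1)) := by
  have h1 : DC s (SiteCmp.inD (oE O S) X ⟶ (G.obj Z)⟦n⟧) := dc_of_cpl s (G.obj Z) (cpl dadj Z s hZ) X n
  exact (bijective_congr (RAdj.eqR dadj X Z n)
    (fun x => (DerivedCategory.singleFunctor (ModSite.Mod O) 0).map ((pi O S).map (s • 𝟙 X)) ≫ x)
    (fun x => s • x) (eqR_smul dadj Z s X n)).2 h1

/-- **Completeness of `Hom(pi X, Z)`**. -/
theorem dc_pi (Z : DerivedCategory (ModSite.Mod O)) (s : DerComp.GSec (oE O S))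
    (hZ : ∀ (W : El S) (n : ℤ), HC O Z W.pt (s.1 W) n) (X : ModSite.Mod (oE O S)) (n : ℤ) :
    Function.Bijective (fun (x : ℕ → (SiteCmp.inD O ((pi O S).obj X) ⟶ Z⟦n⟧)) (k : ℕ) =>
      x k - (DerivedCategory.singleFunctor (ModSite.Mod O) 0).map ((pi O S).map (s • 𝟙 X)) ≫ x (k + 1)) := by
  have h0 := isLeftAdjoint_piD (O := O) (S := S)
  exact dc_pi' (Adjunction.ofIsLeftAdjoint (pi O S).mapDerivedCategory) Z s hZ X n

end K779.ElKL
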