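import Groth.Agent.DerComp.K779.HU

/-!
# Transfer of completeness along localisation

* `theta O U W : freeOn O W.left ≅ j_{U!} (freeOn (O.over U) W)` for `W ∈ C/U`;
* `hc_restr_iff`: completeness of `H^n(W, K|_U)` and of `H^n(W.left, K)`;
* `hc_iff_dc_smul`: `HC` for the restriction of a global section is `DC` for the scalar action.
-/

set_option autoImplicit false

universe u

open CategoryTheory CategoryTheory.Limits Opposite Pretriangulated

attribute [local instance] HasDerivedCategory.standard

namespace K779.Trans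

open Sec HU K230.DCSeq

variable {C : Type u} [SmallCategory C] {J : GrothendieckTopology C} (O : Sheaf J CommRingCat.{u})

/-- objects corepresenting isomorphic functors are isomorphic. -/
def isoOfEquiv {A : Type*} [Category* A] {P Q : A} (e : ∀ F, (P ⟶ F) ≃ (Q ⟶ F))
    (he : ∀ {F G} (φ : P ⟶ F) (ψ : F ⟶ G), e G (φ ≫ ψ) = e F φ ≫ ψ) : Q ≅ P where
  hom := e P (𝟙 P)
  inv := (e Q).symm (𝟙 Q)
  hom_inv_id := by
    rw [← he, Category.id_comp, Equiv.apply_symm_apply]
  inv_hom_id := by
    apply (e P).injective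
    rw [he, Equiv.apply_symm_apply, Category.id_comp]

theorem isoOfEquiv_hom_comp {A : Type*} [Category* A] {P Q : A} (e : ∀ F, (P ⟶ F) ≃ (Q ⟶ F))
    (he : ∀ {F G} (φ : P ⟶ F) (ψ : F ⟶ G), e G (φ ≫ ψ) = e F φ ≫ ψ) {F : A} (φ : P ⟶ F) :
    (isoOfEquiv e he).hom ≫ φ = e F φ := by
  change e P (𝟙 P) ≫ φ = _
  rw [← he, Category.id_comp]

variable {O} in
/-- a section over `W.left` as a section of the localised sheaf of rings over `W`. -/
def ov {U : C} (W : Over U) (f : O.obj.obj (op W.left)) : (O.over U).obj.obj (op W) := f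

/-- The bijection between morphisms out of `j_{U!} (freeOn W)` and sections over `W.left`. -/
noncomputable def secT (U : C) (W : Over U) (F : ModSite.Mod O) :
    ((ModSite.extZero O U).obj (ModSite.freeOn (O.over U) W) ⟶ F) ≃ F.val.obj (op W.left) :=
  ((ModSite.extZeroAdj O U).homEquiv _ _).trans (sec (O.over U) W ((ModSite.restr O U).obj F)).toEquiv

theorem secT_comp (U : C) (W : Over U) {F G : ModSite.Mod O}
    (φ : (ModSite.extZero O U).obj (ModSite.freeOn (O.over U) W) ⟶ F) (ψ : F ⟶ G) :
    secT O U W G (φ ≫ ψ) = (ψ.val.app _).hom (secT O U W F φ) := by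
  change sec (O.over U) W _ ((ModSite.extZeroAdj O U).homEquiv _ _ (φ ≫ ψ)) = _
  rw [Adjunction.homEquiv_naturality_right, sec_comp]
  rfl

theorem secT_mul (U : C) (W : Over U) {F : ModSite.Mod O} (f : O.obj.obj (op W.left))
    (φ : (ModSite.extZero O U).obj (ModSite.freeOn (O.over U) W) ⟶ F) :
    secT O U W F ((ModSite.extZero O U).map (mul (O.over U) W (ov W f)) ≫ φ) = sc f • secT O U W F φ := by
  change sec (O.over U) W _ ((ModSite.extZeroAdj O U).homEquiv _ _ (_ ≫ φ)) = _
  rw [Adjunction.homEquiv_naturality_left, sec_mul]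
  rfl

theorem secT_he (U : C) (W : Over U) {F G : ModSite.Mod O}
    (φ : (ModSite.extZero O U).obj (ModSite.freeOn (O.over U) W) ⟶ F) (ψ : F ⟶ G) :
    ((secT O U W G).trans (sec O W.left G).toEquiv.symm) (φ ≫ ψ) =
      ((secT O U W F).trans (sec O W.left F).toEquiv.symm) φ ≫ ψ := by
  apply (sec O W.left G).injective
  refine ((sec O W.left G).apply_symm_apply (secT O U W G (φ ≫ ψ))).trans ?_
  rw [secT_comp, sec_comp]
  exact congrArg _ ((sec O W.left F).apply_symm_apply (secT O U W F φ)).symm

/-- `freeOn O W.left ≅ j_{U!} (freeOn (O.over U) W)`. -/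
noncomputable def theta (U : C) (W : Over U) :
    ModSite.freeOn O W.left ≅ (ModSite.extZero O U).obj (ModSite.freeOn (O.over U) W) :=
  isoOfEquiv (fun F => (secT O U W F).trans (sec O W.left F).toEquiv.symm) (secT_he O U W)

theorem sec_theta (U : C) (W : Over U) {F : ModSite.Mod O}
    (φ : (ModSite.extZero O U).obj (ModSite.freeOn (O.over U) W) ⟶ F) :
    sec O W.left F ((theta O U W).hom ≫ φ) = secT O U W F φ :=
  (congrArg (sec O W.left F) (isoOfEquiv_hom_comp _ (secT_he O U W) φ)).trans
    ((sec O W.left F).apply_symm_apply (secT O U W F φ))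

theorem mul_theta (U : C) (W : Over U) (f : O.obj.obj (op W.left)) :
    mul O W.left f ≫ (theta O U W).hom =
      (theta O U W).hom ≫ (ModSite.extZero O U).map (mul (O.over U) W (ov W f)) := by
  apply (sec O W.left _).injective
  rw [sec_mul]
  have h1 := sec_theta O U W (𝟙 _)
  rw [Category.comp_id] at h1
  have h2 := secT_mul O U W f (𝟙 ((ModSite.extZero O U).obj (ModSite.freeOn (O.over U) W)))
  rw [Category.comp_id] at h2
  rw [sec_theta, h1]
  exact h2.symm

/-- The equivalence `H^n(W.left, K) ≃ H^n(W, K|_U)`. -/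
noncomputable def eqW (K : DerivedCategory (ModSite.Mod O)) (U : C) (W : Over U) (n : ℤ) :
    (SiteCmp.inD O (ModSite.freeOn O W.left) ⟶ K⟦n⟧) ≃+
      (SiteCmp.inD (O.over U) (ModSite.freeOn (O.over U) W) ⟶ ((restrD O U).obj K)⟦n⟧) :=
  AddEquiv.trans
    { toFun := fun x => (DerivedCategory.singleFunctor (ModSite.Mod O) 0).map (theta O U W).inv ≫ x
      invFun := fun x => (DerivedCategory.singleFunctor (ModSite.Mod O) 0).map (theta O U W).hom ≫ x
      left_inv := fun x => by
        simp only []
        rw [← Functor.map_comp_assoc, Iso.hom_inv_id, CategoryTheory.Functor.map_id, Category.id_comp]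
      right_inv := fun x => by
        simp only []
        rw [← Functor.map_comp_assoc, Iso.inv_hom_id, CategoryTheory.Functor.map_id, Category.id_comp]
      map_add' := fun x y => Preadditive.comp_add _ _ _ _ _ _ }
    (eqU O K U (ModSite.freeOn (O.over U) W) n)

theorem eqW_opr (K : DerivedCategory (ModSite.Mod O)) (U : C) (W : Over U) (f : O.obj.obj (op W.left)) (n : ℤ)
    (x : SiteCmp.inD O (ModSite.freeOn O W.left) ⟶ K⟦n⟧) :
    eqW O K U W n (opr O W.left f _ x) = opr (O.over U) W (ov W f) _ (eqW O K U W n x) := by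
  change eqU O K U (ModSite.freeOn (O.over U) W) n
    ((DerivedCategory.singleFunctor (ModSite.Mod O) 0).map (theta O U W).inv ≫
      (DerivedCategory.singleFunctor (ModSite.Mod O) 0).map (mul O W.left f) ≫ x) = _
  have h : (theta O U W).inv ≫ mul O W.left f =
      (ModSite.extZero O U).map (mul (O.over U) W (ov W f)) ≫ (theta O U W).inv := by
    rw [Iso.inv_comp_eq, ← Category.assoc, ← mul_theta, Category.assoc, Iso.hom_inv_id, Category.comp_id]
  rw [← Functor.map_comp_assoc, h, Functor.map_comp_assoc]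
  exact eqU_natural O K U (mul (O.over U) W (ov W f)) n _

/-- Transfer of completeness to a localised site. -/
theorem hc_restr_iff (K : DerivedCategory (ModSite.Mod O)) (U : C) (W : Over U) (f : O.obj.obj (op W.left))
    (n : ℤ) : HC (O.over U) ((restrD O U).obj K) W (ov W f) n ↔ HC O K W.left f n :=
  (bijective_congr (eqW O K U W n) (opr O W.left f _) (opr (O.over U) W (ov W f) _) (eqW_opr O K U W f n)).symm

variable {O}

theorem sec_smul (U : C) {F : ModSite.Mod O} (s : DerComp.GSec O) (φ : ModSite.freeOn O U ⟶ F) :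
    sec O U F (s • φ) = sc (s.1 U) • sec O U F φ := by
  rw [DerComp.smul_def, DerComp.smulEnd_comm, sec_comp]
  rfl

theorem mul_eq_smul (U : C) (s : DerComp.GSec O) : mul O U (s.1 U) = s • 𝟙 (ModSite.freeOn O U) := by
  apply (sec O U _).injective
  have h := sec_mul O U (s.1 U) (𝟙 (ModSite.freeOn O U))
  rw [Category.comp_id] at h
  rw [h, sec_smul]

theorem opr_eq_smul (U : C) (s : DerComp.GSec O) (Y : DerivedCategory (ModSite.Mod O))
    (x : SiteCmp.inD O (ModSite.freeOn O U) ⟶ Y) : opr O U (s.1 U) Y x = s • x := by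
  rw [opr, mul_eq_smul]
  exact single_smul_comp O _ _

/-- For the restriction of a global section, `HC` is `DC` for the scalar action. -/
theorem hc_iff_dc_smul (K : DerivedCategory (ModSite.Mod O)) (U : C) (s : DerComp.GSec O) (n : ℤ) :
    HC O K U (s.1 U) n ↔ DC s (SiteCmp.inD O (ModSite.freeOn O U) ⟶ K⟦n⟧) := by
  rw [HC, DC]
  have h : (fun (x : ℕ → (SiteCmp.inD O (ModSite.freeOn O U) ⟶ K⟦n⟧)) (k : ℕ) =>
      x k - opr O U (s.1 U) _ (x (k + 1))) = fun x k => x k - s • x (k + 1) := by
    funext x k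
    rw [opr_eq_smul]
  rw [h]

end K779.Trans
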