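import Groth.Agent.DerComp.K779.El
import Groth.Agent.DerComp.K779.Trans
import Groth.Agent.ModSite.K291.Shriek2

/-!
# Modules on the category of elements of a presheaf of sets and extension by zero to a ringed site

`pi O S : Mod (O|El S) ⥤ Mod O` (trivial topology on the source), exact, left adjoint to `res O S`.
-/

set_option autoImplicit false

universe u

open CategoryTheory CategoryTheory.Limits Opposite

namespace K779.ElMod

open Elt Sec _root_.K779.Trans K291.Mon K291.Flat

variable {C : Type u} [SmallCategory C] {J : GrothendieckTopology C} (O : Sheaf J CommRingCat.{u})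
  (S : Cᵒᵖ ⥤ Type u)

/-- The ringed site of elements, with the trivial topology. -/
def oE : Sheaf (⊥ : GrothendieckTopology (El S)) CommRingCat.{u} :=
  ⟨(proj S).op ⋙ O.obj, Presheaf.isSheaf_bot _⟩

/-- Extension by zero on presheaves. -/
noncomputable def preShriek : PM (oE O S) ⥤ PM O :=
  shriek (O.obj ⋙ forget₂ CommRingCat.{u} RingCat.{u}) S

/-- The element of the extension by zero given by an element of a fibre. -/
noncomputable def ofE {O : Sheaf J CommRingCat.{u}} {S : Cᵒᵖ ⥤ Type u} (M : PM (oE O S)) (X : Cᵒᵖ) (x : S.obj X)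
    (m : M.obj (op (El.mk X.unop x))) : ((preShriek O S).obj M).obj X :=
  Elt.of (R := O.obj ⋙ forget₂ CommRingCat.{u} RingCat.{u}) M X x m

theorem preShriek_hom_ext {O : Sheaf J CommRingCat.{u}} {S : Cᵒᵖ ⥤ Type u} {M : PM (oE O S)} {N : PM O}
    {a b : (preShriek O S).obj M ⟶ N}
    (h : ∀ (X : Cᵒᵖ) (x : S.obj X) (m : M.obj (op (El.mk X.unop x))),
      (a.app X).hom (ofE M X x m) = (b.app X).hom (ofE M X x m)) : a = b :=
  Elt.sh_hom_ext (R := O.obj ⋙ forget₂ CommRingCat.{u} RingCat.{u}) h

theorem preShriek_map_ofE {O : Sheaf J CommRingCat.{u}} {S : Cᵒᵖ ⥤ Type u} {M N : PM (oE O S)} (φ : M ⟶ N)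
    (X : Cᵒᵖ) (x : S.obj X) (m : M.obj (op (El.mk X.unop x))) :
    (((preShriek O S).map φ).app X).hom (ofE M X x m) = ofE N X x ((φ.app (op (El.mk X.unop x))).hom m) :=
  Elt.shMapApp_of (R := O.obj ⋙ forget₂ CommRingCat.{u} RingCat.{u}) φ X x m

/-- Restriction on presheaves. -/
noncomputable def preRes : PM O ⥤ PM (oE O S) :=
  Elt.restr (O.obj ⋙ forget₂ CommRingCat.{u} RingCat.{u}) S

/-- The adjunction on presheaves. -/
noncomputable def preAdj : preShriek O S ⊣ preRes O S :=
  Elt.adj (O.obj ⋙ forget₂ CommRingCat.{u} RingCat.{u}) S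

/-- Presheaves are sheaves. -/
def ofPre : PM (oE O S) ⥤ ModSite.Mod (oE O S) where
  obj M := ⟨M, Presheaf.isSheaf_bot _⟩
  map f := ⟨f⟩

/-- The adjunction (an equivalence). -/
noncomputable def toOf : toP (oE O S) ⊣ ofPre O S :=
  Adjunction.mkOfHomEquiv
    { homEquiv := fun M N =>
        { toFun := fun φ => ⟨φ⟩
          invFun := fun ψ => ψ.val
          left_inv := fun φ => rfl
          right_inv := fun ψ => rfl } }

/-- Extension by zero of modules along `El S → C`. -/
noncomputable def pi : ModSite.Mod (oE O S) ⥤ ModSite.Mod O :=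
  (toP (oE O S) ⋙ preShriek O S) ⋙ shP O

/-- Restriction of modules along `El S → C`. -/
noncomputable def res : ModSite.Mod O ⥤ ModSite.Mod (oE O S) :=
  toP O ⋙ preRes O S ⋙ ofPre O S

/-- The adjunction. -/
noncomputable def adj : pi O S ⊣ res O S :=
  ((toOf O S).comp (preAdj O S)).comp (shAdj O)

instance isLeftAdjoint_pi : (pi O S).IsLeftAdjoint := (adj O S).isLeftAdjoint

instance pi_preservesMono : (pi O S).PreservesMonomorphisms where
  preserves {F G} f _ := by
    change Mono ((shP O).map ((preShriek O S).map ((toP (oE O S)).map f)))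
    rw [mono_shP_map_iff]
    apply Presheaf.isLocallyInjective_of_injective
    intro U
    refine shMapApp_injective (R := O.obj ⋙ forget₂ CommRingCat.{u} RingCat.{u})
      ((toP (oE O S)).map f) (fun Y => ?_) U
    have h1 : Mono f.val := inferInstanceAs (Mono ((toP (oE O S)).map f))
    have h2 : Mono ((PresheafOfModules.toPresheaf _).map f.val) := inferInstance
    have h3 : Mono (((PresheafOfModules.toPresheaf _).map f.val).app Y) := inferInstance
    exact (AddCommGrpCat.mono_iff_injective _).1 h3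

instance pi_preservesFiniteColimits : PreservesFiniteColimits (pi O S) :=
  haveI := (adj O S).leftAdjoint_preservesColimits
  PreservesColimitsOfSize.preservesFiniteColimits.{u, u} _

instance pi_additive : (pi O S).Additive :=
  haveI : (pi O S).PreservesZeroMorphisms := Functor.preservesZeroMorphisms_of_isLeftAdjoint _
  haveI := preservesBinaryBiproducts_of_preservesBinaryCoproducts (pi O S)
  Functor.additive_of_preservesBinaryBiproducts _

instance pi_preservesFiniteLimits : PreservesFiniteLimits (pi O S) :=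
  preservesFiniteLimits_of_mono _ (fun _ _ _ _ => inferInstance)

variable {O S}

/-- a section over `W.pt` as a section over `W` -/
def oe (W : El S) (f : O.obj.obj (op W.pt)) : (oE O S).obj.obj (op W) := f

/-- Morphisms out of `pi (freeOn W)` -/
noncomputable def secE (W : El S) (F : ModSite.Mod O) :
    ((pi O S).obj (ModSite.freeOn (oE O S) W) ⟶ F) ≃ F.val.obj (op W.pt) :=
  ((adj O S).homEquiv _ _).trans (sec (oE O S) W ((res O S).obj F)).toEquiv

theorem secE_comp (W : El S) {F G : ModSite.Mod O}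
    (φ : (pi O S).obj (ModSite.freeOn (oE O S) W) ⟶ F) (ψ : F ⟶ G) :
    secE W G (φ ≫ ψ) = (ψ.val.app _).hom (secE W F φ) := by
  change sec (oE O S) W _ ((adj O S).homEquiv _ _ (φ ≫ ψ)) = _
  rw [Adjunction.homEquiv_naturality_right, sec_comp]
  rfl

theorem secE_mul (W : El S) {F : ModSite.Mod O} (f : O.obj.obj (op W.pt))
    (φ : (pi O S).obj (ModSite.freeOn (oE O S) W) ⟶ F) :
    secE W F ((pi O S).map (mul (oE O S) W (oe W f)) ≫ φ) = sc f • secE W F φ := by
  change sec (oE O S) W _ ((adj O S).homEquiv _ _ (_ ≫ φ)) = _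
  rw [Adjunction.homEquiv_naturality_left, sec_mul]
  rfl

theorem secE_he (W : El S) {F G : ModSite.Mod O}
    (φ : (pi O S).obj (ModSite.freeOn (oE O S) W) ⟶ F) (ψ : F ⟶ G) :
    ((secE W G).trans (sec O W.pt G).toEquiv.symm) (φ ≫ ψ) =
      ((secE W F).trans (sec O W.pt F).toEquiv.symm) φ ≫ ψ := by
  apply (sec O W.pt G).injective
  refine ((sec O W.pt G).apply_symm_apply (secE W G (φ ≫ ψ))).trans ?_
  rw [secE_comp, sec_comp]
  exact congrArg _ ((sec O W.pt F).apply_symm_apply (secE W F φ)).symm

/-- `freeOn O W.pt ≅ pi (freeOn W)`. -/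
noncomputable def thetaE (W : El S) :
    ModSite.freeOn O W.pt ≅ (pi O S).obj (ModSite.freeOn (oE O S) W) :=
  isoOfEquiv (fun F => (secE W F).trans (sec O W.pt F).toEquiv.symm) (secE_he W)

theorem sec_thetaE (W : El S) {F : ModSite.Mod O}
    (φ : (pi O S).obj (ModSite.freeOn (oE O S) W) ⟶ F) :
    sec O W.pt F ((thetaE W).hom ≫ φ) = secE W F φ :=
  (congrArg (sec O W.pt F) (isoOfEquiv_hom_comp _ (secE_he W) φ)).trans
    ((sec O W.pt F).apply_symm_apply (secE W F φ))

theorem mul_thetaE (W : El S) (f : O.obj.obj (op W.pt)) :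
    mul O W.pt f ≫ (thetaE W).hom = (thetaE W).hom ≫ (pi O S).map (mul (oE O S) W (oe W f)) := by
  apply (sec O W.pt _).injective
  rw [sec_mul]
  have h1 := sec_thetaE W (𝟙 ((pi O S).obj (ModSite.freeOn (oE O S) W)))
  rw [Category.comp_id] at h1
  have h2 := secE_mul W f (𝟙 ((pi O S).obj (ModSite.freeOn (oE O S) W)))
  rw [Category.comp_id] at h2
  rw [sec_thetaE, h1]
  exact h2.symm

end K779.ElMod
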