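import Groth.Agent.DerComp.K779.Tri4
import Mathlib.Algebra.Homology.DerivedCategory.Linear
import Mathlib.Algebra.Homology.DerivedCategory.ExactFunctor
import Mathlib.Algebra.Homology.ShortComplex.Linear

/-!
# Natural transformations `𝟭 ⟶ G` to an exact functor, on derived categories
-/

set_option autoImplicit false

universe w v u t

open CategoryTheory CategoryTheory.Limits Pretriangulated

namespace K779.ExTr

variable {A : Type u} [Category.{v} A] [Abelian A] [HasDerivedCategory.{w} A]

section Tr

variable {G : A ⥤ A} [G.Additive] (τ : 𝟭 A ⟶ G)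

/-- termwise application of `τ` -/
noncomputable def tC : 𝟭 (CochainComplex A ℤ) ⟶ G.mapHomologicalComplex (ComplexShape.up ℤ) where
  app K :=
    { f := fun i => τ.app (K.X i)
      comm' := fun i j _ => (τ.naturality (K.d i j)).symm }
  naturality := fun K L f => by
    ext i
    exact τ.naturality (f.f i)

variable [PreservesFiniteLimits G] [PreservesFiniteColimits G]

/-- the natural transformation on derived categories -/
noncomputable def tD : 𝟭 (DerivedCategory A) ⟶ G.mapDerivedCategory :=
  Localization.liftNatTrans DerivedCategory.Q (HomologicalComplex.quasiIso A (ComplexShape.up ℤ))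
    DerivedCategory.Q (G.mapHomologicalComplex (ComplexShape.up ℤ) ⋙ DerivedCategory.Q) (𝟭 _) G.mapDerivedCategory
    (Functor.whiskerRight (tC τ) DerivedCategory.Q)

theorem tD_app_Q (K : CochainComplex A ℤ) :
    (tD τ).app (DerivedCategory.Q.obj K) =
      DerivedCategory.Q.map ((tC τ).app K) ≫ G.mapDerivedCategoryFactors.inv.app K := by
  rw [tD, Localization.liftNatTrans_app]
  exact Category.id_comp _

omit [HasDerivedCategory.{w} A] in
theorem quasiIso_tC (K : CochainComplex A ℤ) (h : ∀ n, IsIso (τ.app (K.homology n))) :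
    QuasiIso ((tC τ).app K) := by
  rw [quasiIso_iff]
  intro n
  rw [quasiIsoAt_iff]
  have h1 := h n
  have h2 := NatTrans.app_homology τ (K.sc n)
  have h3 : IsIso ((ShortComplex.mapHomologyIso (K.sc n) (𝟭 A)).inv ≫
      ShortComplex.homologyMap ((K.sc n).mapNatTrans τ) ≫ (ShortComplex.mapHomologyIso (K.sc n) G).hom) := by
    rw [← h2]
    exact h1
  have h4 : IsIso (ShortComplex.homologyMap ((K.sc n).mapNatTrans τ)) := by
    have h5 := (isIso_comp_left_iff _ _).1 h3
    exact (isIso_comp_right_iff _ _).1 h5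
  rw [ShortComplex.quasiIso_iff]
  exact h4

end Tr

variable {R : Type t} [CommRing R] [Linear R A]

omit [HasDerivedCategory.{w} A] in
theorem homologyMap_smul (K : CochainComplex A ℤ) (s : R) (n : ℤ) :
    HomologicalComplex.homologyMap (s • 𝟙 K) n = s • 𝟙 (K.homology n) := by
  have h : (HomologicalComplex.shortComplexFunctor A (ComplexShape.up ℤ) n).map (s • 𝟙 K) =
      s • 𝟙 (K.sc n) := by
    ext <;> rfl
  rw [HomologicalComplex.homologyMap, h, ShortComplex.homologyMap_smul, ShortComplex.homologyMap_id]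
  rfl

omit [HasDerivedCategory.{w} A] in
theorem isIso_smul_of_iso {D : Type*} [Category D] [Preadditive D] [Linear R D] (s : R) {X Y : D} (e : X ≅ Y)
    (h : IsIso (s • 𝟙 X)) : IsIso (s • 𝟙 Y) := by
  have h1 : s • 𝟙 Y = e.inv ≫ (s • 𝟙 X) ≫ e.hom := by
    rw [Linear.smul_comp, Category.id_comp, Linear.comp_smul, e.inv_hom_id]
  rw [h1]
  infer_instance

/-- `s` is invertible on an object of the derived category iff it is so on its cohomology objects. -/
theorem div_Q_iff (K : CochainComplex A ℤ) (s : R) :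
    IsIso (s • 𝟙 (DerivedCategory.Q.obj K)) ↔ ∀ n, IsIso (s • 𝟙 (K.homology n)) := by
  have h : s • 𝟙 (DerivedCategory.Q.obj K) = DerivedCategory.Q.map (s • 𝟙 K) := by
    rw [Functor.map_smul, CategoryTheory.Functor.map_id]
  rw [h, DerivedCategory.isIso_Q_map_iff_quasiIso, quasiIso_iff]
  refine forall_congr' fun n => ?_
  rw [quasiIsoAt_iff_isIso_homologyMap, homologyMap_smul]

theorem div_iff_H (Y : DerivedCategory A) (s : R) :
    IsIso (s • 𝟙 Y) ↔ ∀ n, IsIso (s • 𝟙 ((DerivedCategory.homologyFunctor A n).obj Y)) := by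
  have e : DerivedCategory.Q.obj (DerivedCategory.Q.objPreimage Y) ≅ Y := DerivedCategory.Q.objObjPreimageIso Y
  refine Iff.trans ⟨fun h => isIso_smul_of_iso s e.symm h, fun h => isIso_smul_of_iso s e h⟩
    ((div_Q_iff _ s).trans (forall_congr' fun n => ?_))
  have e2 : (DerivedCategory.Q.objPreimage Y).homology n ≅ (DerivedCategory.homologyFunctor A n).obj Y :=
    ((DerivedCategory.homologyFunctorFactors A n).app _).symm ≪≫ (DerivedCategory.homologyFunctor A n).mapIso e
  exact ⟨fun h => isIso_smul_of_iso s e2 h, fun h => isIso_smul_of_iso s e2.symm h⟩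

section Tr

variable {G : A ⥤ A} [G.Additive] (τ : 𝟭 A ⟶ G) [PreservesFiniteLimits G] [PreservesFiniteColimits G] (s : R)

theorem isIso_tD_app (hτ : ∀ F : A, IsIso (s • 𝟙 F) → IsIso (τ.app F)) (Y : DerivedCategory A)
    (hY : IsIso (s • 𝟙 Y)) : IsIso ((tD τ).app Y) := by
  let K := DerivedCategory.Q.objPreimage Y
  have e : DerivedCategory.Q.obj K ≅ Y := DerivedCategory.Q.objObjPreimageIso Y
  have h1 : IsIso ((tD τ).app (DerivedCategory.Q.obj K)) := by
    rw [tD_app_Q]
    have h2 : IsIso (DerivedCategory.Q.map ((tC τ).app K)) := by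
      rw [DerivedCategory.isIso_Q_map_iff_quasiIso]
      exact quasiIso_tC τ K fun n => hτ _ ((div_Q_iff K s).1 (isIso_smul_of_iso s e.symm hY) n)
    infer_instance
  have h3 : (tD τ).app Y = e.inv ≫ (tD τ).app (DerivedCategory.Q.obj K) ≫ G.mapDerivedCategory.map e.hom := by
    rw [Iso.eq_inv_comp]
    exact (tD τ).naturality e.hom
  rw [h3]
  infer_instance

theorem div_mapDerivedCategory (hG : ∀ F : A, IsIso (s • 𝟙 (G.obj F))) (Y : DerivedCategory A) :
    IsIso (s • 𝟙 (G.mapDerivedCategory.obj Y)) := by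
  let K := DerivedCategory.Q.objPreimage Y
  have e : DerivedCategory.Q.obj ((G.mapHomologicalComplex (ComplexShape.up ℤ)).obj K) ≅ G.mapDerivedCategory.obj Y :=
    (G.mapDerivedCategoryFactors.app K).symm ≪≫ G.mapDerivedCategory.mapIso (DerivedCategory.Q.objObjPreimageIso Y)
  refine isIso_smul_of_iso s e ?_
  have h : s • 𝟙 (DerivedCategory.Q.obj ((G.mapHomologicalComplex (ComplexShape.up ℤ)).obj K)) =
      DerivedCategory.Q.map (s • 𝟙 ((G.mapHomologicalComplex (ComplexShape.up ℤ)).obj K)) := by
    rw [Functor.map_smul, CategoryTheory.Functor.map_id]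
  rw [h]
  have h2 : IsIso (s • 𝟙 ((G.mapHomologicalComplex (ComplexShape.up ℤ)).obj K)) := by
    have h3 : ∀ i, IsIso ((s • 𝟙 ((G.mapHomologicalComplex (ComplexShape.up ℤ)).obj K)).f i) := fun i => by
      have := hG (K.X i)
      exact this
    exact HomologicalComplex.Hom.isIso_of_components _
  infer_instance

end Tr

end K779.ExTr
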