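import Groth.Agent.DerComp.K779.IdSpan

/-!
# `O / I ≅ O' / I O'` for quotients by finitely many global sections
-/

set_option autoImplicit false

universe u

open CategoryTheory CategoryTheory.Limits Opposite

attribute [local instance] HasDerivedCategory.standard Abelian.hasFiniteBiproducts

namespace K779.IdQuot

open K780.CovFlat K291.FreeOn TenQ K295.PullExact IdSpan RScal K291.Mon K295.FlatCrit

variable {C : Type u} [SmallCategory C] {J : GrothendieckTopology C} {O O' : Sheaf J CommRingCat.{u}}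

section Sec

theorem sc_smul_end (s : DerComp.GSec O) {M N : ModSite.Mod O} (f : M ⟶ N) (U : C) (x : ModSite.sect M U) :
    sc (s • f) U x = (show Rg O U from s.1 U) • sc f U x := by
  have h : s • f = f ≫ DerComp.smulEnd s N := by
    rw [← DerComp.smulEnd_comm]
    rfl
  rw [h]
  rfl

theorem sc_finsum {ι : Type*} (S : Finset ι) {M N : ModSite.Mod O} (f : ι → (M ⟶ N)) (U : C)
    (x : ModSite.sect M U) : sc (∑ i ∈ S, f i) U x = ∑ i ∈ S, sc (f i) U x := by
  classical
  induction S using Finset.induction_on with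
  | empty =>
    rw [Finset.sum_empty, Finset.sum_empty]
    rfl
  | insert i S hi ih =>
    rw [Finset.sum_insert hi, Finset.sum_insert hi, ← ih]
    rfl

variable {r : ℕ} (a : Fin r → DerComp.GSec O) (M : ModSite.Mod O)

theorem sc_cm (U : C) (z : ModSite.sect (⨁ fun _ : Fin r => M) U) :
    sc (cm a M) U z = ∑ i, (show Rg O U from (a i).1 U) • sc (biproduct.π (fun _ : Fin r => M) i) U z := by
  rw [cm_eq, sc_finsum]
  exact Finset.sum_congr rfl fun i _ => sc_smul_end _ _ _ _

theorem exists_cm (U : C) (y : Fin r → ModSite.sect M U) :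
    ∃ z, sc (cm a M) U z = ∑ i, (show Rg O U from (a i).1 U) • y i := by
  refine ⟨∑ j, sc (biproduct.ι (fun _ : Fin r => M) j) U (y j), ?_⟩
  rw [map_sum]
  refine Finset.sum_congr rfl fun j _ => ?_
  rw [← sc_comp, cm, biproduct.ι_desc, sc_smul_end]
  rfl

end Sec

/-- the kernel of the cokernel, locally -/
theorem loc_of_π {X Y : ModSite.Mod O} (f : X ⟶ Y) {U : C} (s : ModSite.sect Y U)
    (h : sc (cokernel.π f) U s = 0) : Loc J U (fun V g => ∃ t : ModSite.sect X V, sc f V t = rs Y g s) := by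
  let S : ShortComplex (ModSite.Mod O) := ShortComplex.mk (kernel.ι (cokernel.π f)) (cokernel.π f) (kernel.condition _)
  have hS : S.ShortExact := by
    refine ShortComplex.ShortExact.mk' ?_ inferInstance inferInstance
    exact ShortComplex.exact_of_f_is_kernel _ (kernelIsKernel _)
  obtain ⟨s', hs'⟩ := exists_kernel S hS U s h
  have h1 : Epi (Abelian.factorThruImage f) := inferInstance
  refine (exists_lift_loc (Abelian.factorThruImage f) (n := 1) (fun _ => s')).mono fun V g hg => ?_
  obtain ⟨w, hw⟩ := hg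
  refine ⟨w 0, ?_⟩
  have h2 : f = Abelian.factorThruImage f ≫ S.f := (Abelian.image.fac f).symm
  have h3 : sc (Abelian.factorThruImage f ≫ S.f) V (w 0) = rs Y g s := by
    rw [sc_comp]
    refine (congrArg (sc S.f V) (hw 0)).trans ?_
    refine (sc_rs S.f g s').trans ?_
    exact congrArg (rs Y g) hs'
  exact (congrArg (fun t => sc t V (w 0)) h2).trans h3

theorem exists_lift_loc₁ {G H : ModSite.Mod O} (ψ : G ⟶ H) [Epi ψ] {U : C} (z : ModSite.sect H U) :
    Loc J U (fun V g => ∃ w : ModSite.sect G V, sc ψ V w = rs H g z) :=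
  (exists_lift_loc ψ (n := 1) (fun _ => z)).mono fun _ _ ⟨w, hw⟩ => ⟨w 0, hw 0⟩

theorem epi_of_loc {G H : ModSite.Mod O} (ψ : G ⟶ H) (h : ∀ (U : C) (z : ModSite.sect H U),
    Loc J U (fun V g => ∃ w : ModSite.sect G V, sc ψ V w = rs H g z)) : Epi ψ := by
  rw [epi_iff_LS, LS_iff]
  exact h

variable (φ : O ⟶ O')

/-- The structure map. -/
noncomputable def str : ModSite.unit O ⟶ (rsc φ).obj (ModSite.unit O') :=
  ⟨PresheafOfModules.homMk (M₁ := (ModSite.unit O).val) (M₂ := ((rsc φ).obj (ModSite.unit O')).val)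
    { app := fun X => AddCommGrpCat.ofHom ((φ.hom.app X).hom : O.obj.obj X →+* O'.obj.obj X).toAddMonoidHom
      naturality := fun X Y g => by
        ext x
        exact congrArg (fun t => t.hom x) (φ.hom.naturality g) }
    (fun X c x => map_mul (φ.hom.app X).hom c x)⟩

/-- a section of `O`, as a section of the module `O` -/
def un {U : C} (x : O.obj.obj (op U)) : ModSite.sect (ModSite.unit O) U := x

/-- a section of `O'`, as a section of the `O`-module `O'` -/
def un' {U : C} (x : O'.obj.obj (op U)) : ModSite.sect ((rsc φ).obj (ModSite.unit O')) U := x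

theorem sc_str (U : C) (x : O.obj.obj (op U)) : sc (str φ) U (un x) = un' φ ((φ.hom.app (op U)).hom x) := rfl

theorem rs_un {U V : C} (g : V ⟶ U) (x : O.obj.obj (op U)) : rs _ g (un x) = un ((O.obj.map g.op).hom x) := rfl

theorem rs_un' {U V : C} (g : V ⟶ U) (x : O'.obj.obj (op U)) : rs _ g (un' φ x) = un' φ ((O'.obj.map g.op).hom x) := rfl

theorem un'_sub {U : C} (x y : O'.obj.obj (op U)) : un' φ (x - y) = un' φ x - un' φ y := rfl

section Main

variable {r : ℕ} (a : Fin r → DerComp.GSec O)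

/-- elements of the ideal generated by the `a_i` die in the quotient -/
theorem π_unit_eq_zero {U : C} (x : O.obj.obj (op U)) (hx : x ∈ sp a U) :
    sc (cokernel.π (cm a (ModSite.unit O))) U (un x) = 0 := by
  obtain ⟨c, hc⟩ := (mem_sp_iff a x).1 hx
  obtain ⟨z, hz⟩ := exists_cm a (ModSite.unit O) U (fun i => un (c i))
  have h1 : sc (cm a (ModSite.unit O)) U z = un x := by
    rw [hz]
    refine Eq.trans ?_ (congrArg un hc)
    refine Finset.sum_congr rfl fun i _ => ?_
    exact mul_comm ((a i).1 U) (c i)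
  rw [← h1, ← sc_comp, cokernel.condition]
  rfl

theorem π_res_eq_zero {U : C} (x : O'.obj.obj (op U)) (hx : x ∈ sp (fun i => gmap φ (a i)) U) :
    sc (cokernel.π (cm a ((rsc φ).obj (ModSite.unit O')))) U (un' φ x) = 0 := by
  obtain ⟨c, hc⟩ := (mem_sp_iff _ x).1 hx
  obtain ⟨z, hz⟩ := exists_cm a ((rsc φ).obj (ModSite.unit O')) U (fun i => un' φ (c i))
  have h1 : sc (cm a ((rsc φ).obj (ModSite.unit O'))) U z = un' φ x := by
    refine hz.trans (Eq.trans ?_ (congrArg (un' φ) hc))
    refine Finset.sum_congr rfl fun i _ => ?_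
    exact mul_comm ((φ.hom.app (op U)).hom ((a i).1 U)) (c i)
  rw [← h1, ← sc_comp, cokernel.condition]
  rfl

variable (I : DerComp.IdealSh O) (hI : I.IsGenBy a) (I' : DerComp.IdealSh O') (hI' : DerComp.IsIdealExt φ I I')
  (hinj : ∀ (U : C) (f : O.obj.obj (op U)), (φ.hom.app (op U)).hom f ∈ I'.ideal U → f ∈ I.ideal U)
  (hsurj : ∀ (U : C) (f' : O'.obj.obj (op U)), ∃ S ∈ J U, ∀ ⦃V : C⦄ (g : V ⟶ U), S g →
    ∃ a : O.obj.obj (op V), (O'.obj.map g.op).hom f' - (φ.hom.app (op V)).hom a ∈ I'.ideal V)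

theorem map_naturality {U V : C} (g : V ⟶ U) (x : O.obj.obj (op U)) :
    (O'.obj.map g.op).hom ((φ.hom.app (op U)).hom x) = (φ.hom.app (op V)).hom ((O.obj.map g.op).hom x) :=
  (congrArg (fun t => t.hom x) (φ.hom.naturality g.op)).symm

theorem sc_quoMap {U : C} (x : O.obj.obj (op U)) :
    sc (quoMap a (str φ)) U (sc (cokernel.π (cm a (ModSite.unit O))) U (un x)) =
      sc (cokernel.π (cm a ((rsc φ).obj (ModSite.unit O')))) U (un' φ ((φ.hom.app (op U)).hom x)) := by
  rw [← sc_comp, π_quoMap, sc_comp, sc_str]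

include hI hI' hsurj in
theorem epi_quo : Epi (quoMap a (str φ)) := by
  refine epi_of_loc _ fun U z => ?_
  refine (exists_lift_loc₁ (cokernel.π (cm a ((rsc φ).obj (ModSite.unit O')))) z).bind fun V g hg => ?_
  obtain ⟨w, hw⟩ : ∃ w : O'.obj.obj (op V), sc (cokernel.π (cm a ((rsc φ).obj (ModSite.unit O')))) V (un' φ w) =
    rs _ g z := hg
  refine (show Loc J V (fun W k => ∃ x : O.obj.obj (op W),
    (O'.obj.map k.op).hom w - (φ.hom.app (op W)).hom x ∈ I'.ideal W) from hsurj V w).bind fun W k hk => ?_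
  obtain ⟨x, hx⟩ := hk
  refine ((mem_spanSh _ _).1 (le_spanSh_ext φ a I hI I' hI' W hx)).mono fun W' h hh => ?_
  refine ⟨sc (cokernel.π (cm a (ModSite.unit O))) W' (un ((O.obj.map h.op).hom x)), ?_⟩
  have h1 := π_res_eq_zero φ a _ hh
  rw [map_sub, un'_sub, map_sub, map_naturality, ← sc_quoMap, ← rs_un', ← rs_un', rs_comp, sc_rs, hw, rs_comp,
    sub_eq_zero] at h1
  rw [← h1, Category.assoc]

include hI hI' hinj in
theorem mono_quo : Mono (quoMap a (str φ)) := by
  refine mono_of_loc _ fun U z hz => ?_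
  refine (exists_lift_loc₁ (cokernel.π (cm a (ModSite.unit O))) z).bind fun V g hg => ?_
  obtain ⟨w, hw⟩ : ∃ w : O.obj.obj (op V), sc (cokernel.π (cm a (ModSite.unit O))) V (un w) = rs _ g z := hg
  have h1 : sc (cokernel.π (cm a ((rsc φ).obj (ModSite.unit O')))) V (un' φ ((φ.hom.app (op V)).hom w)) = 0 := by
    rw [← sc_quoMap, hw, sc_rs, hz, map_zero]
  refine (loc_of_π _ _ h1).bind fun W k hk => ?_
  obtain ⟨t, ht⟩ := hk
  have h2 : (O.obj.map k.op).hom w ∈ I.ideal W := by
    apply hinj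
    rw [rs_un', map_naturality] at ht
    have h3 : (φ.hom.app (op W)).hom ((O.obj.map k.op).hom w) = ∑ i, (φ.hom.app (op W)).hom ((a i).1 W) *
        (show O'.obj.obj (op W) from
          sc (biproduct.π (fun _ : Fin r => (rsc φ).obj (ModSite.unit O')) i) W t) := by
      refine (show _ = _ from ht).symm.trans ((sc_cm a _ W t).trans ?_)
      rfl
    rw [h3]
    exact Ideal.sum_mem _ fun i _ => Ideal.mul_mem_right _ _ (hI'.1 W _ (hI.1 i W))
  refine ((mem_spanSh _ _).1 (le_spanSh a I hI W h2)).mono fun W' h hh => ?_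
  have h4 := π_unit_eq_zero a _ hh
  rw [← rs_un, ← rs_un, rs_comp, sc_rs, hw, rs_comp] at h4
  rw [← h4, Category.assoc]

include hI hI' hinj hsurj in
/-- `O / I ≅ O' / I O'`. -/
theorem isIso_quo : IsIso (quoMap a (str φ)) := by
  have := mono_quo φ a I hI I' hI' hinj
  have := epi_quo φ a I hI I' hI' hsurj
  exact isIso_of_mono_of_epi _

end Main

end K779.IdQuot
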