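import Groth.Agent.ModSite.K295.PullLoc
import Groth.Agent.ModSite.K291.Tens2
import Groth.Agent.DerComp.K779.IdQuot

/-!
# Restriction of the extension of scalars is the tensor product
-/

set_option autoImplicit false

universe u

open CategoryTheory CategoryTheory.Limits Opposite

attribute [local instance] HasDerivedCategory.standard

namespace K779.ExtT

open K291.Mon K291.FreeOn RScal IdQuot K295.ExtSc K295.FlatCrit Groth.Agent.Dcoh

variable {C : Type u} [SmallCategory C] {J : GrothendieckTopology C} {O O' : Sheaf J CommRingCat.{u}} (φ : O ⟶ O')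

/-- Sections of the restriction of scalars. -/
noncomputable def rS (F : ModSite.Mod O') (V : C) : ModSite.sect ((rsc φ).obj F) V ≃+ ModSite.sect F V where
  toFun s := s
  invFun s := s
  left_inv _ := rfl
  right_inv _ := rfl
  map_add' _ _ := rfl

theorem rS_rs (F : ModSite.Mod O') {V W : C} (g : W ⟶ V) (s : ModSite.sect ((rsc φ).obj F) V) :
    rS φ F W (rs _ g s) = rs F g (rS φ F V s) := rfl

theorem rS_sc {F G : ModSite.Mod O'} (f : F ⟶ G) (V : C) (s : ModSite.sect ((rsc φ).obj F) V) :
    rS φ G V (sc ((rsc φ).map f) V s) = sc f V (rS φ F V s) := rfl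

/-- The ring map on sections. -/
noncomputable def rh (V : C) : Rg O V →+* Rg O' V :=
  (((sheafCompose J (forget₂ CommRingCat.{u} RingCat.{u})).map φ).hom.app (op V)).hom

theorem rS_smul (F : ModSite.Mod O') (V : C) (r : Rg O V) (s : ModSite.sect ((rsc φ).obj F) V) :
    rS φ F V (r • s) = rh φ V r • rS φ F V s := rfl

variable {L : ModSite.Mod O ⥤ ModSite.Mod O'} (adj : L ⊣ rsc φ) (M : ModSite.Mod O)

variable {M} in
/-- The pullback of a section. -/
noncomputable def pR {V : C} (m : ModSite.sect M V) : ModSite.sect (L.obj M) V :=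
  rS φ _ V (sc (adj.unit.app M) V m)

variable {M} in
theorem pR_add {V : C} (m n : ModSite.sect M V) : pR φ adj (m + n) = pR φ adj m + pR φ adj n := by
  rw [pR, map_add, map_add]; rfl

variable {M} in
theorem pR_zero {V : C} : pR φ adj (0 : ModSite.sect M V) = 0 := by
  rw [pR, map_zero, map_zero]

variable {M} in
theorem pR_smul {V : C} (r : Rg O V) (m : ModSite.sect M V) : pR φ adj (r • m) = rh φ V r • pR φ adj m := by
  rw [pR, sc_smul, rS_smul]; rfl

variable {M} in
theorem pR_rs {V W : C} (g : W ⟶ V) (m : ModSite.sect M V) :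
    pR φ adj (rs M g m) = rs _ g (pR φ adj m) :=
  congrArg (rS φ _ W) (sc_rs (adj.unit.app M) g m)

variable {M} in
theorem homEquiv_sec {F : ModSite.Mod O'} (f : L.obj M ⟶ F) {V : C} (m : ModSite.sect M V) :
    rS φ F V (sc (adj.homEquiv M F f) V m) = sc f V (pR φ adj m) := by
  rw [Adjunction.homEquiv_unit]
  rfl

variable {M} in
theorem homEquiv_symm_pR {F : ModSite.Mod O'} (f : M ⟶ (rsc φ).obj F) {V : C} (m : ModSite.sect M V) :
    sc ((adj.homEquiv M F).symm f) V (pR φ adj m) = rS φ F V (sc f V m) := by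
  rw [← homEquiv_sec, Equiv.apply_symm_apply]

variable {M} in
theorem L_hom_ext {F : ModSite.Mod O'} {f g : L.obj M ⟶ F}
    (h : ∀ (V : C) (m : ModSite.sect M V), sc f V (pR φ adj m) = sc g V (pR φ adj m)) : f = g := by
  apply (adj.homEquiv M F).injective
  apply K291.FreeOn.hom_ext
  intro V m
  apply (rS φ F V).injective
  rw [homEquiv_sec, homEquiv_sec, h]

/-- the presheaf `B ⊗_A M` -/
noncomputable abbrev EM : PM O' := extP φ.hom M.val

/-- The comparison morphism. -/
noncomputable def κ : EM φ M ⟶ (toP O').obj (L.obj M) :=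
  desc (N := (toP O').obj (L.obj M))
    (fun X => { toFun := fun m => pR φ adj (V := X.unop) m
                map_zero' := pR_zero φ adj
                map_add' := pR_add φ adj })
    (fun X a m => pR_smul φ adj (V := X.unop) a m)
    (fun _ _ k m => pR_rs φ adj k.unop m)

theorem κ_tm {V : C} (b : O'.obj.obj (op V)) (m : ModSite.sect M V) :
    MonW.sec (κ φ adj M) (op V) (tm φ.hom M.val b m) =
      (show ModSite.sect (L.obj M) V from (show Rg O' V from b) • pR φ adj m) := rfl

section Univ

variable {M} {F : ModSite.Mod O'} (χ : EM φ M ⟶ (toP O').obj F)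

/-- The value of a morphism on `1 ⊗ m`. -/
noncomputable def ev (V : C) : ModSite.sect M V →+ ModSite.sect F V where
  toFun m := MonW.sec χ (op V) (tm φ.hom M.val (1 : O'.obj.obj (op V)) m)
  map_zero' := (congrArg (MonW.sec χ (op V)) (tm_zero φ.hom M.val (X := op V) (1 : O'.obj.obj (op V)))).trans (map_zero _)
  map_add' m m' := (congrArg (MonW.sec χ (op V)) (tm_add φ.hom M.val (X := op V)
    (1 : O'.obj.obj (op V)) m m')).trans (map_add _ _ _)

theorem ev_def (V : C) (m : ModSite.sect M V) :
    ev φ χ V m = MonW.sec χ (op V) (tm φ.hom M.val (1 : O'.obj.obj (op V)) m) := rfl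

theorem ev_smul (V : C) (r : Rg O V) (m : ModSite.sect M V) :
    ev φ χ V (r • m) = rh φ V r • ev φ χ V m := by
  have h := tm_smul φ.hom M.val (X := op V) (1 : O'.obj.obj (op V)) r m
  refine (congrArg (MonW.sec χ (op V)) h).trans ?_
  exact (MonW.sec χ (op V)).map_smul _ _

theorem ev_rs {V W : C} (g : W ⟶ V) (m : ModSite.sect M V) : ev φ χ W (rs M g m) = rs F g (ev φ χ V m) := by
  have e := MonW.sec_res χ g.op (tm φ.hom M.val (1 : O'.obj.obj (op V)) m)
  refine Eq.trans ?_ e
  have e2 := map_tm φ.hom M.val g.op (1 : O'.obj.obj (op V)) m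
  have e3 : (O'.obj.map g.op).hom (1 : O'.obj.obj (op V)) = (1 : O'.obj.obj (op W)) := map_one _
  rw [e3] at e2
  exact congrArg (MonW.sec χ (op W)) e2.symm

/-- The induced morphism to the restriction of scalars. -/
noncomputable def toRs : M ⟶ (rsc φ).obj F :=
  ⟨PresheafOfModules.homMk (M₁ := M.val) (M₂ := ((rsc φ).obj F).val)
    { app := fun V => AddCommGrpCat.ofHom (ev φ χ V.unop)
      naturality := fun V V' g => by
        ext m
        exact ev_rs φ χ g.unop m }
    (fun V r m => ev_smul φ χ V.unop r m)⟩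

theorem toRs_sc (V : C) (m : ModSite.sect M V) : rS φ F V (sc (toRs φ χ) V m) = ev φ χ V m := rfl

theorem ev_comp (f : L.obj M ⟶ F) (V : C) (m : ModSite.sect M V) :
    ev φ (κ φ adj M ≫ (toP O').map f) V m = sc f V (pR φ adj m) := by
  rw [ev_def]
  have h : (show ModSite.sect (L.obj M) V from
      MonW.sec (κ φ adj M) (op V) (tm φ.hom M.val (1 : O'.obj.obj (op V)) m)) = pR φ adj m :=
    (κ_tm φ adj M 1 m).trans (one_smul (Rg O' V) (pR φ adj m : ModSite.sect (L.obj M) V))
  exact congrArg (sc f V) h

variable (M F) in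
theorem κ_bijective : Function.Bijective (fun f : L.obj M ⟶ F => κ φ adj M ≫ (toP O').map f) := by
  constructor
  · intro f g h
    refine L_hom_ext φ adj fun V m => ?_
    have h1 := ev_comp φ adj f V m
    have h2 := ev_comp φ adj g V m
    have h3 : κ φ adj M ≫ (toP O').map f = κ φ adj M ≫ (toP O').map g := h
    rw [h3, h2] at h1
    exact h1.symm
  · intro χ
    refine ⟨(adj.homEquiv M F).symm (toRs φ χ), K295.ExtSc.hom_ext φ.hom M.val fun X m => ?_⟩
    have h1 := ev_comp φ adj ((adj.homEquiv M F).symm (toRs φ χ)) X.unop m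
    refine h1.trans ?_
    rw [homEquiv_symm_pR, toRs_sc]
    rfl

variable (M) in
/-- The comparison morphism is a local isomorphism. -/
theorem κ_WO : WO O' (κ φ adj M) := by
  refine K295.PullLoc.WO_of_bijective _ fun F => ?_
  have h1 : Function.Bijective (fun f : L.obj M ⟶ F => (toP O').map f) :=
    (Functor.FullyFaithful.ofFullyFaithful (toP O')).map_bijective _ _
  exact (Function.Bijective.of_comp_iff _ h1).1 (κ_bijective φ adj M F)

end Univ

end K779.ExtT
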