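import Groth.Agent.DerComp.K779.ExtT

/-!
# Restriction of the extension of scalars is the tensor product, II: the isomorphism
-/

set_option autoImplicit false

universe u

open CategoryTheory CategoryTheory.Limits Opposite MonoidalCategory TensorProduct

attribute [local instance] HasDerivedCategory.standard

namespace K779.ExtT

open K291.Mon K291.FreeOn RScal IdQuot K295.ExtSc K295.FlatCrit Groth.Agent.Dcoh K291.Tens

variable {C : Type u} [SmallCategory C] {J : GrothendieckTopology C} {O O' : Sheaf J CommRingCat.{u}} (φ : O ⟶ O')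

variable {L : ModSite.Mod O ⥤ ModSite.Mod O'} (adj : L ⊣ rsc φ) (M : ModSite.Mod O)

/-- `O'` as an `O`-module. -/
noncomputable abbrev NN : ModSite.Mod O := (rsc φ).obj (ModSite.unit O')

/-- the bilinear map `(m, b) ↦ b m` -/
noncomputable def bil : Bil M (NN φ) ((rsc φ).obj (L.obj M)) where
  b {V} m n := (rS φ _ V).symm ((show Rg O' V from n) • pR φ adj m)
  add_left {V} m m' n := by
    rw [pR_add, smul_add, map_add]
  add_right {V} m n n' := by
    refine Eq.trans ?_ (map_add (rS φ (L.obj M) V).symm _ _)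
    exact congrArg (rS φ (L.obj M) V).symm (add_smul (R := Rg O' V) n n' (pR φ adj m))
  smul_left {V} r m n := by
    rw [pR_smul]
    have h1 := smul_smul (M := Rg O' V) (α := ModSite.sect (L.obj M) V) n (rh φ V r) (pR φ adj m)
    have h2 := smul_smul (M := Rg O' V) (α := ModSite.sect (L.obj M) V) (rh φ V r) n (pR φ adj m)
    have h3 : (show Rg O' V from n) * rh φ V r = rh φ V r * (show Rg O' V from n) :=
      mul_comm (show O'.obj.obj (op V) from n) ((φ.hom.app (op V)).hom r)
    exact h1.trans ((congrArg (fun t : Rg O' V => t • pR φ adj m) h3).trans h2.symm)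
  smul_right {V} r m n := by
    exact mul_smul (α := Rg O' V) (β := ModSite.sect (L.obj M) V) (rh φ V r) n (pR φ adj m)
  res {U V} g m n := by
    apply (rS φ _ V).injective
    rw [pR_rs, rS_rs, AddEquiv.apply_symm_apply, AddEquiv.apply_symm_apply, rs_smul]
    rfl

/-- The comparison morphism `M ⊗ O' ⟶ O' ⊗ M`, restricted to `O`. -/
noncomputable def sig : M ⊗ NN φ ⟶ (rsc φ).obj (L.obj M) := tdesc (bil φ adj M)

theorem sc_sig {U : C} (m : ModSite.sect M U) (n : ModSite.sect (NN φ) U) :
    rS φ _ U (sc (sig φ adj M) U (tm m n)) = (show Rg O' U from n) • pR φ adj m := by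
  rw [sig, sc_tdesc_tm]
  rfl

section Comm

/-- the swap -/
noncomputable def fwd (U : C) : ((toP O).obj M ⊗ (toP O).obj (NN φ)).obj (op U) →+ T φ.hom M.val (op U) :=
  TensorProduct.liftAddHom (R := O.obj.obj (op U)) (M := ((toP O).obj M).obj (op U)) (N := ((toP O).obj (NN φ)).obj (op U))
    { toFun := fun m =>
        { toFun := fun n => toBm φ.hom n ⊗ₜ m
          map_zero' := zero_tmul _ _
          map_add' := fun n n' => add_tmul _ _ _ }
      map_zero' := by
        ext n
        exact tmul_zero _ _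
      map_add' := fun m m' => by
        ext n
        exact tmul_add _ _ _ }
    (fun r m n => by
      have h := TensorProduct.smul_tmul (R := O.obj.obj (op U)) r (toBm φ.hom (X := op U) n : Bm φ.hom (op U))
        (m : M.val.obj (op U))
      exact h.symm)

theorem fwd_ptm {U : C} (m : ((toP O).obj M).obj (op U)) (n : ((toP O).obj (NN φ)).obj (op U)) :
    fwd φ M U (ptm m n) = toBm φ.hom n ⊗ₜ[O.obj.obj (op U)] (m : M.val.obj (op U)) := rfl

/-- the swap back -/
noncomputable def bwd (U : C) : T φ.hom M.val (op U) →+ ((toP O).obj M ⊗ (toP O).obj (NN φ)).obj (op U) :=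
  TensorProduct.liftAddHom
    { toFun := fun (b : Bm φ.hom (op U)) =>
        { toFun := fun m => ptm (A := (toP O).obj M) (B := (toP O).obj (NN φ)) m (un' φ (U := U) b)
          map_zero' := TensorProduct.zero_tmul _ _
          map_add' := fun m m' => add_ptm _ _ _ }
      map_zero' := by
        ext n
        exact TensorProduct.tmul_zero _ _
      map_add' := fun b b' => by
        ext n
        exact ptm_add _ _ _ }
    (fun r b m => by
      have h := TensorProduct.smul_tmul (R := O.obj.obj (op U)) (M := ((toP O).obj M).obj (op U))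
        (N := ((toP O).obj (NN φ)).obj (op U)) r m (un' φ (U := U) b)
      exact h.symm)

theorem bwd_tmul {U : C} (b : Bm φ.hom (op U)) (m : M.val.obj (op U)) :
    bwd φ M U (b ⊗ₜ[O.obj.obj (op U)] m) = ptm (A := (toP O).obj M) (B := (toP O).obj (NN φ)) m (un' φ (U := U) b) := rfl

theorem padd_ext {A B : PM O} {U : C} {G : Type*} [AddCommGroup G] {f g : (A ⊗ B).obj (op U) →+ G}
    (h : ∀ (a : A.obj (op U)) (b : B.obj (op U)), f (ptm a b) = g (ptm a b)) : f = g := by
  ext t
  refine TensorProduct.induction_on t ?_ h ?_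
  · exact (map_zero f).trans (map_zero g).symm
  · intro x y hx hy
    exact (map_add f x y).trans ((congrArg₂ (· + ·) hx hy).trans (map_add g x y).symm)

theorem bwd_fwd (U : C) (x : ((toP O).obj M ⊗ (toP O).obj (NN φ)).obj (op U)) : bwd φ M U (fwd φ M U x) = x := by
  have h : (bwd φ M U).comp (fwd φ M U) = AddMonoidHom.id _ := padd_ext fun a b => rfl
  exact DFunLike.congr_fun h x

theorem fwd_bwd (U : C) (x : T φ.hom M.val (op U)) : fwd φ M U (bwd φ M U x) = x := by
  have h : (fwd φ M U).comp (bwd φ M U) = AddMonoidHom.id _ := add_ext φ.hom M.val fun b m => rfl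
  exact DFunLike.congr_fun h x

theorem fwd_res {U V : C} (g : V ⟶ U) (x : ((toP O).obj M ⊗ (toP O).obj (NN φ)).obj (op U)) :
    fwd φ M V (MonW.res _ g.op x) = tres φ.hom M.val g.op (fwd φ M U x) := by
  have h : (fwd φ M V).comp (MonW.res _ g.op) = (tres φ.hom M.val g.op).comp (fwd φ M U) := padd_ext fun a b => rfl
  exact DFunLike.congr_fun h x

end Comm

/-- the presheaf version of the comparison morphism -/
noncomputable def kp : (toP O).obj M ⊗ (toP O).obj (NN φ) ⟶ (toP O).obj ((rsc φ).obj (L.obj M)) :=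
  (shAdj O).homEquiv _ _ (sig φ adj M)

theorem sec_kp {U : C} (x : ((toP O).obj M ⊗ (toP O).obj (NN φ)).obj (op U)) :
    MonW.sec (kp φ adj M) (op U) x = (show ModSite.sect (L.obj M) U from MonW.sec (κ φ adj M) (op U) (fwd φ M U x)) := by
  let f : ((toP O).obj M ⊗ (toP O).obj (NN φ)).obj (op U) →+ ModSite.sect (L.obj M) U :=
    (MonW.sec (kp φ adj M) (op U)).toAddMonoidHom
  let g : ((toP O).obj M ⊗ (toP O).obj (NN φ)).obj (op U) →+ ModSite.sect (L.obj M) U :=
    (MonW.sec (κ φ adj M) (op U)).toAddMonoidHom.comp (fwd φ M U)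
  have h : f = g := padd_ext fun a b => by
    refine (homEquiv_tm (sig φ adj M) a b).trans ?_
    exact sc_sig φ adj M a b
  exact DFunLike.congr_fun h x

theorem LI_kp : LI (kp φ adj M) := by
  rw [LI_iff]
  intro U s hs
  have h1 := (LI_iff _).1 (WO_LI _ (κ_WO φ adj M)) U (fwd φ M U s) ((sec_kp φ adj M s).symm.trans hs)
  obtain ⟨S, hS, h⟩ := h1
  refine ⟨S, hS, fun V g hg => ?_⟩
  have h2 : fwd φ M V (MonW.res _ g.op s) = 0 := (fwd_res φ M g s).trans (h g hg)
  rw [← bwd_fwd φ M V (MonW.res _ g.op s), h2, map_zero]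

theorem LS_kp : LS (kp φ adj M) := by
  rw [LS_iff]
  intro U s
  obtain ⟨S, hS, h⟩ := (LS_iff _).1 (WO_LS _ (κ_WO φ adj M)) U s
  refine ⟨S, hS, fun V g hg => ?_⟩
  obtain ⟨t, ht⟩ := h g hg
  refine ⟨bwd φ M V t, ?_⟩
  refine (sec_kp φ adj M _).trans ?_
  exact (congrArg (fun t => MonW.sec (κ φ adj M) (op V) t) (fwd_bwd φ M V t)).trans ht

theorem WO_kp : WO O (kp φ adj M) := (WO_iff_LI_LS _).2 ⟨LI_kp φ adj M, LS_kp φ adj M⟩

instance isIso_sig : IsIso (sig φ adj M) := by
  have h1 := (WO_iff O _).1 (WO_kp φ adj M)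
  have h2 : sig φ adj M = (shP O).map (kp φ adj M) ≫ (shAdj O).counit.app _ := by
    apply ((shAdj O).homEquiv _ _).injective
    rw [(shAdj O).homEquiv_naturality_left]
    refine (Category.comp_id _).symm.trans (congrArg (fun t => kp φ adj M ≫ t) ?_)
    rw [Adjunction.homEquiv_unit]
    exact ((shAdj O).right_triangle_components _).symm
  rw [h2]
  infer_instance

end K779.ExtT
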