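import Groth.Agent.DerComp.K779.Away
import Groth.Agent.DerComp.K779.Sec
import Groth.Agent.ModSite.K291.Shriek2
import Groth.Agent.ModSite.K293.Restr
import Groth.Agent.CohtopB.ExactDerAdj
import Groth.Agent.SiteCmp.K578.Der
import Groth.Agent.ModSite.K294.Flat

/-!
# Completeness of the cohomology groups `H^n(U, K)` with respect to sections `f ∈ O(U)`

* `HC K U f n`: the map `(x_k) ↦ (x_k - f x_{k+1})` on sequences in `H^n(U, K) = Hom(j_{U!} O_U, K⟦n⟧)` is bijective;
* `subsingleton_iff`: `Hom(j_{U!} O_{U,f}, K⟦n⟧) = 0` for all `n` iff `HC K U f n` for all `n`;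
* `hc_restr_iff`: `HC (K|_U) W f n ↔ HC K W.left f n`.
-/

set_option autoImplicit false

universe u

open CategoryTheory CategoryTheory.Limits Opposite Pretriangulated

attribute [local instance] HasDerivedCategory.standard

namespace K779.HU

open Sec K230.DCSeq

variable {C : Type u} [SmallCategory C] {J : GrothendieckTopology C} (O : Sheaf J CommRingCat.{u})

/-- The derived restriction `K ↦ K|_U`. -/
noncomputable abbrev restrD (U : C) : DerivedCategory (ModSite.Mod O) ⥤ DerivedCategory (ModSite.Mod (O.over U)) :=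
  (ModSite.restr O U).mapDerivedCategory

/-- Precomposition with multiplication by `f` on `j_{U!} O_U`. -/
noncomputable def opr (U : C) (f : O.obj.obj (op U)) (Y : DerivedCategory (ModSite.Mod O)) :
    (SiteCmp.inD O (ModSite.freeOn O U) ⟶ Y) → (SiteCmp.inD O (ModSite.freeOn O U) ⟶ Y) :=
  fun x => (DerivedCategory.singleFunctor (ModSite.Mod O) 0).map (mul O U f) ≫ x

/-- Completeness of `H^n(U, K)` with respect to `f`. -/
def HC (K : DerivedCategory (ModSite.Mod O)) (U : C) (f : O.obj.obj (op U)) (n : ℤ) : Prop :=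
  Function.Bijective (fun (x : ℕ → (SiteCmp.inD O (ModSite.freeOn O U) ⟶ K⟦n⟧)) (k : ℕ) =>
    x k - opr O U f _ (x (k + 1)))

theorem bijective_congr {M M' : Type*} [AddCommGroup M] [AddCommGroup M'] (e : M ≃+ M') (φ : M → M)
    (φ' : M' → M') (h : ∀ x, e (φ x) = φ' (e x)) :
    Function.Bijective (fun (x : ℕ → M) (k : ℕ) => x k - φ (x (k + 1))) ↔
      Function.Bijective (fun (x : ℕ → M') (k : ℕ) => x k - φ' (x (k + 1))) := by
  let E : (ℕ → M) ≃ (ℕ → M') := Equiv.piCongrRight fun _ => e.toEquiv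
  have h1 : (fun (x : ℕ → M') (k : ℕ) => x k - φ' (x (k + 1))) ∘ E =
      E ∘ (fun (x : ℕ → M) (k : ℕ) => x k - φ (x (k + 1))) := by
    funext x k
    change e (x k) - φ' (e (x (k + 1))) = e (x k - φ (x (k + 1)))
    rw [map_sub, h]
  rw [← Function.Bijective.of_comp_iff' E.bijective, ← h1, Function.Bijective.of_comp_iff _ E.bijective]

/-- the basic equivalence `H^n(U, K) ≃ Hom(O_U, K|_U⟦n⟧)`. -/
noncomputable def eqU (K : DerivedCategory (ModSite.Mod O)) (U : C) (X : ModSite.Mod (O.over U)) (n : ℤ) :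
    (SiteCmp.inD O ((ModSite.extZero O U).obj X) ⟶ K⟦n⟧) ≃+
      (SiteCmp.inD (O.over U) X ⟶ ((restrD O U).obj K)⟦n⟧) :=
  Groth.Agent.CohtopB.ExactDerAdj.homEquivSingle (ModSite.extZeroAdj O U) X K n

theorem eqU_natural (K : DerivedCategory (ModSite.Mod O)) (U : C) {X X' : ModSite.Mod (O.over U)}
    (e : X ⟶ X') (n : ℤ) (x : SiteCmp.inD O ((ModSite.extZero O U).obj X') ⟶ K⟦n⟧) :
    eqU O K U X n ((DerivedCategory.singleFunctor (ModSite.Mod O) 0).map ((ModSite.extZero O U).map e) ≫ x) =
      (DerivedCategory.singleFunctor (ModSite.Mod (O.over U)) 0).map e ≫ eqU O K U X' n x := by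
  change (Groth.Agent.CohtopB.ExactDerAdj.derivedAdj (ModSite.extZeroAdj O U)).homEquiv _ _
      (((ModSite.extZero O U).mapDerivedCategorySingleFunctor 0).hom.app X ≫ _) ≫ _ =
    _ ≫ (Groth.Agent.CohtopB.ExactDerAdj.derivedAdj (ModSite.extZeroAdj O U)).homEquiv _ _
      (((ModSite.extZero O U).mapDerivedCategorySingleFunctor 0).hom.app X' ≫ _) ≫ _
  have h := ((ModSite.extZero O U).mapDerivedCategorySingleFunctor 0).hom.naturality e
  have h2 : ((ModSite.extZero O U).mapDerivedCategorySingleFunctor 0).hom.app X ≫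
      (DerivedCategory.singleFunctor (ModSite.Mod O) 0).map ((ModSite.extZero O U).map e) ≫ x =
      (ModSite.extZero O U).mapDerivedCategory.map
        ((DerivedCategory.singleFunctor (ModSite.Mod (O.over U)) 0).map e) ≫
      ((ModSite.extZero O U).mapDerivedCategorySingleFunctor 0).hom.app X' ≫ x := by
    rw [← Category.assoc, ← Category.assoc]
    congr 1
    exact h.symm
  rw [h2]
  refine (congrArg (fun t => t ≫ _) (Adjunction.homEquiv_naturality_left _ _ _)).trans ?_
  exact Category.assoc _ _ _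

theorem mul_eq (U : C) (f : O.obj.obj (op U)) :
    mul O U f = (ModSite.extZero O U).map (DerComp.GSec.ofSect O U f • 𝟙 (ModSite.unit (O.over U))) := by
  rw [mul, DerComp.smul_def, Category.comp_id]

theorem single_smul_comp {s : DerComp.GSec O} (X : ModSite.Mod O) {Y : DerivedCategory (ModSite.Mod O)}
    (y : SiteCmp.inD O X ⟶ Y) :
    (DerivedCategory.singleFunctor (ModSite.Mod O) 0).map (s • 𝟙 X) ≫ y = s • y := by
  rw [Functor.map_smul, CategoryTheory.Functor.map_id, Linear.smul_comp, Category.id_comp]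

theorem eqU_opr (K : DerivedCategory (ModSite.Mod O)) (U : C) (f : O.obj.obj (op U)) (n : ℤ)
    (x : SiteCmp.inD O (ModSite.freeOn O U) ⟶ K⟦n⟧) :
    eqU O K U (ModSite.unit (O.over U)) n (opr O U f _ x) =
      DerComp.GSec.ofSect O U f • eqU O K U (ModSite.unit (O.over U)) n x := by
  rw [opr, mul_eq]
  exact (eqU_natural O K U (DerComp.GSec.ofSect O U f • 𝟙 (ModSite.unit (O.over U))) n x).trans
    (single_smul_comp (O.over U) _ _)

/-- Completeness in terms of sections of the restriction over the final object. -/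
theorem hc_iff_dc (K : DerivedCategory (ModSite.Mod O)) (U : C) (f : O.obj.obj (op U)) (n : ℤ) :
    HC O K U f n ↔ DC (DerComp.GSec.ofSect O U f)
      (SiteCmp.inD (O.over U) (ModSite.unit (O.over U)) ⟶ ((restrD O U).obj K)⟦n⟧) :=
  bijective_congr (eqU O K U (ModSite.unit (O.over U)) n) (opr O U f _)
    (fun x => DerComp.GSec.ofSect O U f • x) (eqU_opr O K U f n)

section Crit

variable {O}

theorem awayMap_eq (s : DerComp.GSec O) (F : ModSite.Mod O) : DerComp.awayMap s F = Away.aw s F := by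
  rw [DerComp.awayMap, Away.aw]
  congr 1

theorem locAway_eq (s : DerComp.GSec O) (F : ModSite.Mod O) : DerComp.locAway s F = Away.loc s F := by
  have key : ∀ (f g : (∐ fun _ : ℕ => F) ⟶ ∐ fun _ : ℕ => F), f = g → cokernel f = cokernel g := by
    rintro f _ rfl
    rfl
  exact key _ _ (awayMap_eq s F)

/-- The criterion for morphisms out of the localisation at a global section. -/
theorem subsingleton_locAway_iff (s : DerComp.GSec O) (F : ModSite.Mod O)
    (K : DerivedCategory (ModSite.Mod O)) :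
    (∀ n : ℤ, Subsingleton (SiteCmp.inD O (DerComp.locAway s F) ⟶ K⟦n⟧)) ↔
      ∀ n : ℤ, DC s (SiteCmp.inD O F ⟶ K⟦n⟧) := by
  have : HasExactColimitsOfShape (Discrete ℕ) (ModSite.Mod O) := CountableAB4.ofShape ℕ
  rw [locAway_eq]
  exact Away.subsingleton_loc_iff s F K

end Crit

/-- **Criterion**: morphisms out of `j_{U!} O_{U,f}`. -/
theorem subsingleton_iff (K : DerivedCategory (ModSite.Mod O)) (U : C) (f : O.obj.obj (op U)) :
    (∀ n : ℤ, Subsingleton (SiteCmp.inD O ((ModSite.extZero O U).obj (DerComp.awayOver O U f)) ⟶ K⟦n⟧)) ↔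
      ∀ n : ℤ, HC O K U f n := by
  have h1 : (∀ n : ℤ, Subsingleton (SiteCmp.inD O ((ModSite.extZero O U).obj (DerComp.awayOver O U f)) ⟶ K⟦n⟧)) ↔
      ∀ n : ℤ, Subsingleton (SiteCmp.inD (O.over U) (DerComp.awayOver O U f) ⟶ ((restrD O U).obj K)⟦n⟧) :=
    forall_congr' fun n => (eqU O K U (DerComp.awayOver O U f) n).toEquiv.subsingleton_congr
  rw [h1, DerComp.awayOver, subsingleton_locAway_iff]
  exact forall_congr' fun n => (hc_iff_dc O K U f n).symm

end K779.HU
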