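import Groth.Agent.DerComp.K779.LocSeq
import Groth.Agent.DerComp.K779.HU
import Groth.Agent.ModSite.K291.Flat

/-!
# Linearity of the tensor product of modules over the global sections
-/

set_option autoImplicit false

universe u

open CategoryTheory CategoryTheory.Limits Opposite MonoidalCategory

namespace K779.TenLin

open K291.Mon

variable {C : Type u} [SmallCategory C] {J : GrothendieckTopology C} {O : Sheaf J CommRingCat.{u}}

/-- the component of a global section -/
def sv (s : DerComp.GSec O) (X : Cᵒᵖ) : ↑((O.obj ⋙ forget₂ CommRingCat RingCat).obj X) := s.1 X.unop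

theorem sv_comm (s : DerComp.GSec O) (X : Cᵒᵖ) (r : ↑((O.obj ⋙ forget₂ CommRingCat RingCat).obj X)) :
    sv s X * r = r * sv s X := DerComp.GSec.val'_comm s X r

/-- multiplication by a global section on a presheaf of modules -/
noncomputable def smulP (s : DerComp.GSec O) (P : PM O) : P ⟶ P where
  app X := ModuleCat.ofHom
    { toFun := fun x => sv s X • x
      map_add' := fun x y => smul_add _ x y
      map_smul' := fun r x => by
        rw [RingHom.id_apply, smul_smul, smul_smul]
        exact congrArg (fun t => t • x) (sv_comm s X r) }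
  naturality := fun {X Y} g => by
    ext x
    change sv s Y • _ = (P.map g).hom (sv s X • x)
    refine Eq.trans ?_ (PresheafOfModules.map_smul P g (sv s X) x).symm
    exact congrArg (fun t : ↑((O.obj ⋙ forget₂ CommRingCat RingCat).obj Y) => t • (P.map g).hom x) (s.2 g.unop).symm

theorem smulP_apply (s : DerComp.GSec O) (P : PM O) (X : Cᵒᵖ) (x : P.obj X) :
    ((smulP s P).app X).hom x = sv s X • x := rfl

theorem smulP_comm (s : DerComp.GSec O) {P Q : PM O} (f : P ⟶ Q) : smulP s P ≫ f = f ≫ smulP s Q := by
  ext X x
  change (f.app X).hom (sv s X • x) = sv s X • (f.app X).hom x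
  exact (f.app X).hom.map_smul _ _

theorem toP_smulEnd (s : DerComp.GSec O) (F : ModSite.Mod O) :
    (toP O).map (DerComp.smulEnd s F) = smulP s ((toP O).obj F) := by
  ext X x
  rfl

theorem shP_smulP (s : DerComp.GSec O) (P : PM O) :
    (shP O).map (smulP s P) = DerComp.smulEnd s ((shP O).obj P) := by
  apply ((shAdj O).homEquiv _ _).injective
  rw [Adjunction.homEquiv_unit, Adjunction.homEquiv_unit, toP_smulEnd]
  exact ((shAdj O).unit.naturality (smulP s P)).symm.trans (smulP_comm s ((shAdj O).unit.app P))

theorem smulP_whiskerRight (s : DerComp.GSec O) (P Q : PM O) : smulP s P ▷ Q = smulP s (P ⊗ Q) := by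
  ext X x
  refine TensorProduct.induction_on x ?_ ?_ ?_
  · exact (map_zero _).trans (map_zero _).symm
  · intro p q
    rfl
  · intro a b ha hb
    exact (map_add _ _ _).trans ((congrArg₂ (· + ·) ha hb).trans (map_add _ _ _).symm)

theorem smulP_whiskerLeft (s : DerComp.GSec O) (P Q : PM O) : P ◁ smulP s Q = smulP s (P ⊗ Q) := by
  have h := BraidedCategory.braiding_naturality_right P (smulP s Q)
  rw [smulP_whiskerRight, ← smulP_comm] at h
  exact (cancel_mono (β_ P Q).hom).1 h

/-- the tensor product of modules is the sheafification of the tensor product of presheaves -/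
theorem smulEnd_whiskerRight (s : DerComp.GSec O) (F M : ModSite.Mod O) :
    ((ModSite.tensorBi O).map (DerComp.smulEnd s F)).app M = DerComp.smulEnd s (((ModSite.tensorBi O).obj F).obj M) := by
  change (shP O).map ((toP O).map (DerComp.smulEnd s F) ▷ (toP O).obj M) = _
  rw [toP_smulEnd, smulP_whiskerRight, shP_smulP]
  rfl

theorem smulEnd_whiskerLeft (s : DerComp.GSec O) (F M : ModSite.Mod O) :
    ((ModSite.tensorBi O).obj F).map (DerComp.smulEnd s M) = DerComp.smulEnd s (((ModSite.tensorBi O).obj F).obj M) := by
  change (shP O).map ((toP O).obj F ◁ (toP O).map (DerComp.smulEnd s M)) = _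
  rw [toP_smulEnd, smulP_whiskerLeft, shP_smulP]
  rfl

instance linear_flip_obj (M : ModSite.Mod O) : ((ModSite.tensorBi O).flip.obj M).Linear (DerComp.GSec O) where
  map_smul {F F'} φ s := by
    rw [DerComp.smul_def, DerComp.smul_def, Functor.map_comp]
    congr 1
    exact smulEnd_whiskerRight s F M

instance linear_obj (M : ModSite.Mod O) : ((ModSite.tensorBi O).obj M).Linear (DerComp.GSec O) where
  map_smul {F F'} φ s := by
    rw [DerComp.smul_def, DerComp.smul_def, Functor.map_comp]
    congr 1
    exact smulEnd_whiskerLeft s M F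

end K779.TenLin
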