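import Groth.Agent.DerComp.K779.ExTr
import Groth.Agent.DerComp.K779.TenLin
import Groth.Agent.DerComp.K779.Local
import Groth.Agent.ModSite.K294.Flat
import Groth.Agent.Dcoh.TensSingle
import Groth.Prelude.Def_DerComp

/-!
# Derived tensor product with a flat module, and with `O_s`
-/

set_option autoImplicit false

universe u

open CategoryTheory CategoryTheory.Limits Opposite MonoidalCategory

attribute [local instance] HasDerivedCategory.standard

namespace K779.LTen

open K291.Mon K291.Colim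

variable {C : Type u} [SmallCategory C] {J : GrothendieckTopology C} {O : Sheaf J CommRingCat.{u}}

section Flat

variable (M : ModSite.Mod O) [PreservesFiniteLimits ((ModSite.tensorBi O).flip.obj M)]

/-- `- ⊗ M` -/
noncomputable abbrev GM : ModSite.Mod O ⥤ ModSite.Mod O := (ModSite.tensorBi O).flip.obj M

/-- the single complex -/
noncomputable abbrev sg : CochainComplex (ModSite.Mod O) ℤ := (CochainComplex.singleFunctor (ModSite.Mod O) 0).obj M

noncomputable def cxIso : (GM M).mapHomologicalComplex (ComplexShape.up ℤ) ≅ (ModSite.tensorCx O).flip.obj (sg M) :=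
  Groth.Agent.Dcoh.TensSingle.singleRightIso (ModSite.tensorBi O) M

noncomputable def qIso : DerivedCategory.Q ⋙ (GM M).mapDerivedCategory ≅ ModSite.tensorCxQ (sg M) :=
  (GM M).mapDerivedCategoryFactors ≪≫ Functor.isoWhiskerRight (cxIso M) DerivedCategory.Q

/-- The derived tensor product with a flat module. -/
noncomputable def ltIso [ModSite.HasLTensorCx (sg M)] : (GM M).mapDerivedCategory ≅ ModSite.LTensorCx (sg M) :=
  haveI := Functor.isLeftDerivedFunctor_of_inverts (HomologicalComplex.quasiIso (ModSite.Mod O) (ComplexShape.up ℤ))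
    (GM M).mapDerivedCategory (qIso M)
  Functor.leftDerivedUnique (ModSite.LTensorCx (sg M)) (GM M).mapDerivedCategory (qIso M).hom
    ((ModSite.tensorCxQ (sg M)).totalLeftDerivedCounit DerivedCategory.Q
      (HomologicalComplex.quasiIso (ModSite.Mod O) (ComplexShape.up ℤ)))
    (HomologicalComplex.quasiIso (ModSite.Mod O) (ComplexShape.up ℤ))

end Flat

section Loc

variable (s : DerComp.GSec O)

/-- `O_s` -/
noncomputable abbrev Os : ModSite.Mod O := DerComp.locAway s (ModSite.unit O)

theorem Os_eq : Os s = Away.loc s (ModSite.unit O) := HU.locAway_eq s _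

theorem isFlat_Os : ModSite.IsFlat (Os s) := by
  rw [Os_eq]
  have h := K294.Flat.isFlat_of_isColimit (O := O) (LocSeq.isColimitLocCocone s (ModSite.unit O))
    (fun _ => K291.Flat.isFlat_unit O)
  exact h

instance : PreservesFiniteLimits ((ModSite.tensorBi O).flip.obj (Os s)) := (isFlat_Os s).1

/-- `O → O_s` -/
noncomputable def toOs : ModSite.unit O ⟶ Os s := LocSeq.toLoc s (ModSite.unit O) ≫ eqToHom (Os_eq s).symm

/-- `F → F ⊗ O_s` -/
noncomputable def tau : 𝟭 (ModSite.Mod O) ⟶ GM (Os s) where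
  app F := (ρ_ F).inv ≫ F ◁ toOs s
  naturality := fun F F' f => by
    change f ≫ (ρ_ F').inv ≫ F' ◁ toOs s = ((ρ_ F).inv ≫ F ◁ toOs s) ≫ f ▷ Os s
    rw [Category.assoc, whisker_exchange, rightUnitor_inv_naturality_assoc]

theorem isIso_tau_app (F : ModSite.Mod O) (hF : IsIso (s • 𝟙 F)) : IsIso ((tau s).app F) := by
  have h0 : IsIso (((ModSite.tensorBi O).obj F).map (s • 𝟙 (ModSite.unit O))) := by
    rw [Functor.map_smul, CategoryTheory.Functor.map_id]
    exact ExTr.isIso_smul_of_iso s (ρ_ F).symm hF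
  have h1 : IsIso (((ModSite.tensorBi O).obj F).map (LocSeq.toLoc s (ModSite.unit O))) :=
    LocSeq.isIso_map_toLoc _ s _ h0
  have h2 : IsIso (F ◁ toOs s) := by
    change IsIso (((ModSite.tensorBi O).obj F).map (toOs s))
    rw [toOs, Functor.map_comp]
    infer_instance
  change IsIso ((ρ_ F).inv ≫ F ◁ toOs s)
  infer_instance

theorem isIso_smul_GM (F : ModSite.Mod O) : IsIso (s • 𝟙 ((GM (Os s)).obj F)) := by
  have h1 : IsIso (s • 𝟙 (Os s)) := by
    rw [Os_eq]
    exact LocSeq.isIso_smul_loc s _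
  have h2 : s • 𝟙 ((GM (Os s)).obj F) = ((ModSite.tensorBi O).obj F).map (s • 𝟙 (Os s)) := by
    rw [Functor.map_smul, CategoryTheory.Functor.map_id]
    rfl
  rw [h2]
  infer_instance

variable [ModSite.HasLTensorCx (sg (Os s))]

noncomputable abbrev Lam : DerivedCategory (ModSite.Mod O) ⥤ DerivedCategory (ModSite.Mod O) :=
  ModSite.LTensorCx (sg (Os s))

theorem hdiv (X : DerivedCategory (ModSite.Mod O)) : Tri.Div s ((Lam s).obj X) :=
  ExTr.isIso_smul_of_iso s ((ltIso (Os s)).app X) (ExTr.div_mapDerivedCategory s (isIso_smul_GM s) X)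

theorem hlin (X : DerivedCategory (ModSite.Mod O)) : (Lam s).map (s • 𝟙 X) = s • 𝟙 ((Lam s).obj X) := by
  have h := (ltIso (Os s)).hom.naturality (s • 𝟙 X)
  rw [Functor.map_smul, CategoryTheory.Functor.map_id, Linear.smul_comp, Category.id_comp] at h
  rw [← cancel_epi ((ltIso (Os s)).hom.app X), ← h, Linear.comp_smul, Category.comp_id]

/-- the natural transformation `𝟭 ⟶ - ⊗^L O_s` -/
noncomputable def tt : 𝟭 (DerivedCategory (ModSite.Mod O)) ⟶ Lam s := ExTr.tD (tau s) ≫ (ltIso (Os s)).hom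

theorem ht (Y : DerivedCategory (ModSite.Mod O)) (hY : Tri.Div s Y) : IsIso ((tt s).app Y) := by
  have h := ExTr.isIso_tD_app (tau s) s (isIso_tau_app s) Y hY
  rw [tt, NatTrans.comp_app]
  infer_instance

variable [DerComp.HasRHom (sg (Os s))] (K : DerivedCategory (ModSite.Mod O)) [HasProduct fun _ : ℕ => K]

theorem nonempty_iso_rhom (c : Tri.Compl K s) : Nonempty ((DerComp.RHom (sg (Os s))).obj K ≅ c.T) :=
  Tri4.nonempty_iso_of_bijective c _ (Tri4.div_right (DerComp.RHomAdj (sg (Os s))) s (hdiv s) (hlin s) K)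
    (Tri4.rho (DerComp.RHomAdj (sg (Os s))) (tt s) K)
    (fun Y hY => Tri4.rho_bijective (DerComp.RHomAdj (sg (Os s))) s (tt s) (ht s) K Y hY)

theorem isT_rhom : DerComp.IsT s K ((DerComp.RHom (sg (Os s))).obj K) := by
  obtain ⟨c⟩ := Tri.nonempty_compl K s
  obtain ⟨e⟩ := nonempty_iso_rhom s K c
  exact Tri4.isRlim_of_iso c e

theorem isZero_iff : IsZero ((DerComp.RHom (sg (Os s))).obj K) ↔
    ∀ L : DerivedCategory (ModSite.Mod O), DerComp.IsT s K L → IsZero L := by
  obtain ⟨c⟩ := Tri.nonempty_compl K s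
  obtain ⟨e⟩ := nonempty_iso_rhom s K c
  constructor
  · intro h L hL
    obtain ⟨e'⟩ := Tri4.iso_of_isRlim c hL
    exact h.of_iso (e' ≪≫ e.symm)
  · intro h
    exact h _ (isT_rhom s K)

end Loc

end K779.LTen
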