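import Groth.Agent.DerComp.K779.ExtT2
import Groth.Agent.DerComp.K779.LTen
import Groth.Agent.ModSite.K291.ResSc

/-!
# Restriction of the extension of scalars is the tensor product, III: naturality, units and exactness
-/

set_option autoImplicit false

universe u

open CategoryTheory CategoryTheory.Limits Opposite MonoidalCategory

attribute [local instance] HasDerivedCategory.standard

namespace K779.ExtT

open K291.Mon K291.FreeOn RScal IdQuot K295.ExtSc K295.FlatCrit Groth.Agent.Dcoh K291.Tens LTen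

variable {C : Type u} [SmallCategory C] {J : GrothendieckTopology C} {O O' : Sheaf J CommRingCat.{u}}

/-- `F → F ⊗ N` for `ψ : O → N` -/
noncomputable def tauN {N : ModSite.Mod O} (ψ : ModSite.unit O ⟶ N) : 𝟭 (ModSite.Mod O) ⟶ GM N where
  app F := (ρ_ F).inv ≫ F ◁ ψ
  naturality := fun F F' f => by
    change f ≫ (ρ_ F').inv ≫ F' ◁ ψ = ((ρ_ F).inv ≫ F ◁ ψ) ≫ f ▷ N
    rw [Category.assoc, whisker_exchange, rightUnitor_inv_naturality_assoc]

theorem tauN_app {N : ModSite.Mod O} (ψ : ModSite.unit O ⟶ N) (F : ModSite.Mod O) :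
    (tauN ψ).app F = (ρ_ F).inv ≫ F ◁ ψ := rfl

variable (φ : O ⟶ O') {L : ModSite.Mod O ⥤ ModSite.Mod O'} (adj : L ⊣ rsc φ)

theorem sig_natural {M M' : ModSite.Mod O} (f : M ⟶ M') :
    f ▷ NN φ ≫ sig φ adj M' = sig φ adj M ≫ (rsc φ).map (L.map f) := by
  refine tens_hom_ext fun U m n => ?_
  apply (rS φ _ U).injective
  rw [sc_comp, sc_comp, sc_whiskerRight_tm, sc_sig, rS_sc, sc_sig, sc_smul]
  congr 1
  have h := adj.unit.naturality f
  exact congrArg (fun t => rS φ _ U (sc t U m)) h

/-- `M ⊗ O' ≅ ` restriction of `O' ⊗ M`. -/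
noncomputable def sigIso : GM (NN φ) ≅ L ⋙ rsc φ :=
  NatIso.ofComponents (fun M => @asIso _ _ _ _ (sig φ adj M) (isIso_sig φ adj M)) (fun f => sig_natural φ adj f)

theorem tau_sig' (M : ModSite.Mod O) : M ◁ str φ ≫ sig φ adj M = (ρ_ M).hom ≫ adj.unit.app M := by
  refine tens_hom_ext fun U m r => ?_
  apply (rS φ _ U).injective
  have h1 : sc (ρ_ M).hom U (tm m r) = (show Rg O U from r) • m := sc_rightUnitor_tm r m
  rw [sc_comp, sc_comp, sc_whiskerLeft_tm, sc_sig, h1, sc_smul, rS_smul]
  rfl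

theorem tau_sig (M : ModSite.Mod O) : (tauN (str φ)).app M ≫ (sigIso φ adj).hom.app M = adj.unit.app M := by
  change ((ρ_ M).inv ≫ M ◁ str φ) ≫ sig φ adj M = adj.unit.app M
  refine (Category.assoc _ _ _).trans ?_
  exact (Iso.inv_comp_eq _).2 (tau_sig' φ adj M)

variable [PreservesFiniteLimits ((ModSite.tensorBi O).flip.obj (NN φ))]

include adj in
/-- Extension of scalars along a flat map is exact. -/
theorem preservesFiniteLimits_L [PreservesFiniteLimits (rsc φ)] : PreservesFiniteLimits L := by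
  have h1 : PreservesFiniteLimits (L ⋙ rsc φ) := preservesFiniteLimits_of_natIso (sigIso φ adj)
  have h0 : (rsc φ).ReflectsIsomorphisms := K291.ResSc.reflectsIso_res _
  refine ⟨fun J' _ _ => ?_⟩
  have h2 : ReflectsLimitsOfShape J' (rsc φ) := reflectsLimitsOfShape_of_reflectsIsomorphisms
  have h3 : PreservesLimitsOfShape J' (L ⋙ rsc φ) := inferInstance
  exact preservesLimitsOfShape_of_reflects_of_preserves L (rsc φ)

end K779.ExtT
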