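import Groth.Agent.DerComp.K779.FlatLoc
import Groth.Agent.AlgSp.K290.DId

/-!
# Restriction of scalars and derived complete objects: the flat case
-/

set_option autoImplicit false

universe u

open CategoryTheory CategoryTheory.Limits Opposite

attribute [local instance] HasDerivedCategory.standard

namespace K779.FlatEq

open RScal ExtT WMor _root_.K779.Compl K578.Der Groth.Agent.CohtopB.ExactDerAdj

variable {C : Type u} [SmallCategory C] {J : GrothendieckTopology C} {O O' : Sheaf J CommRingCat.{u}} (φ : O ⟶ O')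
  [PreservesFiniteLimits (rsc φ)] [PreservesFiniteColimits (rsc φ)]

theorem nonempty_iso [SiteCmp.HasRpushD (mor φ)] (T : DerivedCategory (ModSite.Mod O')) :
    Nonempty ((SiteCmp.RpushD (mor φ)).obj T ≅ (rsc φ).mapDerivedCategory.obj T) := by
  obtain ⟨I, hI, ⟨e⟩⟩ := Groth.Agent.LoccohB.RpushTri.exists_isKInjective_iso (hasKInj O') T
  let c : ((mor φ).push.mapHomologicalComplex (ComplexShape.up ℤ)).obj I ≅
      ((rsc φ).mapHomologicalComplex (ComplexShape.up ℤ)).obj I :=
    HomologicalComplex.Hom.isoOfComponents (fun i => (pushIso φ).app (I.X i))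
      (fun i j _ => ((pushIso φ).hom.naturality (I.d i j)).symm)
  exact ⟨(SiteCmp.RpushD (mor φ)).mapIso e ≪≫ rpushIso (mor φ) I hI ≪≫
    DerivedCategory.Q.mapIso c ≪≫
    ((rsc φ).mapDerivedCategoryFactors.app I).symm ≪≫ (rsc φ).mapDerivedCategory.mapIso e.symm⟩

theorem tors_rsc (I : DerComp.IdealSh O) (hI : I.IsFiniteType) (I' : DerComp.IdealSh O')
    (hI' : DerComp.IsIdealExt φ I I') (T : DerivedCategory (ModSite.Mod O')) (hT : Tors O' I' T) :
    Tors O I ((rsc φ).mapDerivedCategory.obj T) := by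
  have := hasRpushD (mor φ)
  obtain ⟨e⟩ := nonempty_iso φ T
  exact CMap.tors_of_iso I e (RTors.tors_rpush (mor φ) I hI I' hI' T hT)

theorem isIso_of_isIso_map {X Y : DerivedCategory (ModSite.Mod O')} (f : X ⟶ Y)
    (h : IsIso ((rsc φ).mapDerivedCategory.map f)) : IsIso f := by
  have h0 : (rsc φ).ReflectsIsomorphisms := K291.ResSc.reflectsIso_res _
  rw [K290.DId.isIso_map_iff] at h
  rw [DerivedCategory.isIso_iff]
  intro n
  have := h n
  exact isIso_of_reflects_iso _ (rsc φ)

section Main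

variable {L : ModSite.Mod O ⥤ ModSite.Mod O'} (adj : L ⊣ rsc φ) [L.Additive] [PreservesFiniteLimits L]
  [PreservesFiniteColimits L]
  {I : DerComp.IdealSh O} (hI : I.IsFiniteType) {I' : DerComp.IdealSh O'} (hI' : DerComp.IsIdealExt φ I I')
  (hw : ∀ X, W I ((derivedAdj adj).unit.app X))

include hI hI' hw

theorem w_counit (K' : DerivedCategory (ModSite.Mod O')) (hK' : DerComp.IsDerComp O' I' K') :
    W I' ((derivedAdj adj).counit.app K') := by
  obtain ⟨Y, c, hY, hc⟩ := exists_completion I' (L.mapDerivedCategory.obj ((rsc φ).mapDerivedCategory.obj K'))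
  obtain ⟨e, he⟩ := (hc K' hK').2 ((derivedAdj adj).counit.app K')
  have he' : c ≫ e = (derivedAdj adj).counit.app K' := he
  have h1 : W I ((rsc φ).mapDerivedCategory.map c) := w_map I' I (rsc φ).mapDerivedCategory (tors_rsc φ I hI I' hI') c hc
  have h2 : W I ((rsc φ).mapDerivedCategory.map ((derivedAdj adj).counit.app K')) := by
    refine MorphismProperty.of_precomp _ _ _ (hw ((rsc φ).mapDerivedCategory.obj K')) ?_
    rw [(derivedAdj adj).right_triangle_components]
    exact MorphismProperty.id_mem _ _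
  have h3 : W I ((rsc φ).mapDerivedCategory.map e) := by
    refine MorphismProperty.of_precomp _ _ _ h1 ?_
    rwa [← Functor.map_comp, he']
  have h4 : IsIso ((rsc φ).mapDerivedCategory.map e) :=
    ((DC I).isLocal_iff_isIso _ ((isDerComp_iff φ I I' hI' Y).1 hY) ((isDerComp_iff φ I I' hI' K').1 hK')).1 h3
  have h5 : IsIso e := isIso_of_isIso_map φ e h4
  rw [← he']
  exact MorphismProperty.comp_mem _ _ _ hc ((DC I').isLocal_of_isIso e)

theorem bijective_map (K' L' : DerivedCategory (ModSite.Mod O')) (hK' : DerComp.IsDerComp O' I' K')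
    (hL' : DerComp.IsDerComp O' I' L') :
    Function.Bijective (fun ψ : K' ⟶ L' => (rsc φ).mapDerivedCategory.map ψ) := by
  have h1 := w_counit φ adj hI hI' hw K' hK' L' hL'
  have h2 : (fun ψ : K' ⟶ L' => (rsc φ).mapDerivedCategory.map ψ) =
      ((derivedAdj adj).homEquiv ((rsc φ).mapDerivedCategory.obj K') L') ∘
        (fun ψ : K' ⟶ L' => (derivedAdj adj).counit.app K' ≫ ψ) := by
    funext ψ
    rw [Function.comp_apply, Adjunction.homEquiv_naturality_right, Adjunction.homEquiv_unit,
      Adjunction.right_triangle_components, Category.id_comp]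
  rw [h2]
  exact (Equiv.bijective _).comp h1

theorem exists_iso (E : DerivedCategory (ModSite.Mod O)) (hE : DerComp.IsDerComp O I E) :
    ∃ K' : DerivedCategory (ModSite.Mod O'), DerComp.IsDerComp O' I' K' ∧
      Nonempty ((rsc φ).mapDerivedCategory.obj K' ≅ E) := by
  obtain ⟨Y, c, hY, hc⟩ := exists_completion I' (L.mapDerivedCategory.obj E)
  have h1 : W I ((rsc φ).mapDerivedCategory.map c) := w_map I' I (rsc φ).mapDerivedCategory (tors_rsc φ I hI I' hI') c hc
  have h2 : W I ((derivedAdj adj).unit.app E ≫ (rsc φ).mapDerivedCategory.map c) :=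
    MorphismProperty.comp_mem _ _ _ (hw E) h1
  have h3 : IsIso ((derivedAdj adj).unit.app E ≫ (rsc φ).mapDerivedCategory.map c) :=
    ((DC I).isLocal_iff_isIso _ hE ((isDerComp_iff φ I I' hI' Y).1 hY)).1 h2
  exact ⟨Y, hY, ⟨(asIso ((derivedAdj adj).unit.app E ≫ (rsc φ).mapDerivedCategory.map c)).symm⟩⟩

end Main

/-- **Restriction of scalars along a flat map inducing an isomorphism modulo `I`.** -/
theorem main {I : DerComp.IdealSh O} (hI : I.IsFiniteType) {I' : DerComp.IdealSh O'}
    (hI' : DerComp.IsIdealExt φ I I') (hflat : ModSite.IsFlat (NN φ))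
    (hinj : ∀ (U : C) (f : O.obj.obj (op U)), (φ.hom.app (op U)).hom f ∈ I'.ideal U → f ∈ I.ideal U)
    (hsurj : ∀ (U : C) (f' : O'.obj.obj (op U)), ∃ S ∈ J U, ∀ ⦃V : C⦄ (g : V ⟶ U), S g →
      ∃ a : O.obj.obj (op V), (O'.obj.map g.op).hom f' - (φ.hom.app (op V)).hom a ∈ I'.ideal V) :
    (∀ K' L' : DerivedCategory (ModSite.Mod O'), DerComp.IsDerComp O' I' K' → DerComp.IsDerComp O' I' L' →
      Function.Bijective (fun ψ : K' ⟶ L' => (rsc φ).mapDerivedCategory.map ψ)) ∧
    (∀ E : DerivedCategory (ModSite.Mod O), DerComp.IsDerComp O I E →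
      ∃ K' : DerivedCategory (ModSite.Mod O'), DerComp.IsDerComp O' I' K' ∧
        Nonempty ((rsc φ).mapDerivedCategory.obj K' ≅ E)) := by
  have h1 : PreservesFiniteLimits ((ModSite.tensorBi O).flip.obj (NN φ)) := hflat.1
  have h2 : PreservesFiniteLimits (mor φ).pull := preservesFiniteLimits_L φ (adjR φ)
  have h3 : PreservesColimitsOfSize.{0, 0} (mor φ).pull := (adjR φ).leftAdjoint_preservesColimits
  have h4 : PreservesFiniteColimits (mor φ).pull := PreservesColimitsOfSize.preservesFiniteColimits.{0, 0} _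
  have h5 : (mor φ).pull.Additive := (adjR φ).left_adjoint_additive
  have hw := FlatLoc.w_unit φ hI' hinj hsurj (adjR φ) hI hflat
  exact ⟨fun K' L' hK' hL' => bijective_map φ (adjR φ) hI hI' hw K' L' hK' hL',
    fun E hE => exists_iso φ (adjR φ) hI hI' hw E hE⟩

end K779.FlatEq
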