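import Groth.Agent.DerComp.K779.NilD
import Groth.Agent.DerComp.K779.ExTr

/-!
# Natural transformations invertible on objects killed by finitely many scalars

Let `τ : 𝟭 ⟶ G` be a natural transformation to an exact linear endofunctor of an abelian category which is invertible
on objects killed by `a₁, …, a_r`.  Then `Hom(G L, Z) → Hom(L, Z)` is bijective for all objects `L`, `Z` of the
derived category with `Z` complete with respect to `a₁, …, a_r`.
-/

set_option autoImplicit false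

universe t w v u

open CategoryTheory CategoryTheory.Limits

namespace K779.NilA

open NilD ExTr Tri

variable {R : Type t} [CommRing R] {A : Type u} [Category.{v} A] [Abelian A] [Linear R A]

theorem nilp_of_mono {a : R} {X Y : A} (f : X ⟶ Y) [Mono f] (h : Nilp a Y) : Nilp a X := by
  obtain ⟨N, hN⟩ := h
  refine ⟨N, ?_⟩
  rw [← cancel_mono f, Linear.smul_comp, Category.id_comp, zero_comp]
  have h1 : f ≫ (a ^ N • 𝟙 Y) = 0 := by rw [hN, comp_zero]
  rwa [Linear.comp_smul, Category.comp_id] at h1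

theorem nilp_of_epi {a : R} {X Y : A} (f : X ⟶ Y) [Epi f] (h : Nilp a X) : Nilp a Y := by
  obtain ⟨N, hN⟩ := h
  refine ⟨N, ?_⟩
  rw [← cancel_epi f, Linear.comp_smul, Category.comp_id, comp_zero]
  have h1 : (a ^ N • 𝟙 X) ≫ f = 0 := by rw [hN, zero_comp]
  rwa [Linear.smul_comp, Category.id_comp] at h1

theorem smul_of_mono {a : R} {X Y : A} (f : X ⟶ Y) [Mono f] (h : a • 𝟙 Y = 0) : a • 𝟙 X = 0 := by
  rw [← cancel_mono f, Linear.smul_comp, Category.id_comp, zero_comp]
  have h1 : f ≫ (a • 𝟙 Y) = 0 := by rw [h, comp_zero]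
  rwa [Linear.comp_smul, Category.comp_id] at h1

theorem smul_of_epi {a : R} {X Y : A} (f : X ⟶ Y) [Epi f] (h : a • 𝟙 X = 0) : a • 𝟙 Y = 0 := by
  rw [← cancel_epi f, Linear.comp_smul, Category.comp_id, comp_zero]
  have h1 : (a • 𝟙 X) ≫ f = 0 := by rw [h, zero_comp]
  rwa [Linear.smul_comp, Category.id_comp] at h1

section

variable {G : A ⥤ A} [G.Additive] [PreservesFiniteLimits G] [PreservesFiniteColimits G] (τ : 𝟭 A ⟶ G)

theorem isIso_ext {S : ShortComplex A} (hS : S.ShortExact) (h1 : IsIso (τ.app S.X₁)) (h3 : IsIso (τ.app S.X₃)) :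
    IsIso (τ.app S.X₂) :=
  ShortComplex.isIso₂_of_shortExact_of_isIso₁₃' (S.mapNatTrans τ) hS (hS.map_of_exact G) h1 h3

theorem step (b : R) (Q : A → Prop) (hQm : ∀ {X Y : A} (f : X ⟶ Y) [Mono f], Q Y → Q X)
    (hQe : ∀ {X Y : A} (f : X ⟶ Y) [Epi f], Q X → Q Y)
    (h : ∀ F, b • 𝟙 F = 0 → Q F → IsIso (τ.app F)) (N : ℕ) :
    ∀ F, b ^ N • 𝟙 F = 0 → Q F → IsIso (τ.app F) := by
  induction N with
  | zero =>
    intro F hF _
    rw [pow_zero, one_smul] at hF
    have h0 : IsZero F := (IsZero.iff_id_eq_zero F).2 hF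
    have h1 : IsZero (G.obj F) := G.map_isZero h0
    exact ⟨0, h0.eq_of_src _ _, h1.eq_of_src _ _⟩
  | succ N ih =>
    intro F hF hQ
    let S : ShortComplex A := ShortComplex.mk (kernel.ι (b • 𝟙 F)) (cokernel.π (kernel.ι (b • 𝟙 F))) (by simp)
    have hS : S.ShortExact := by
      refine ShortComplex.ShortExact.mk' ?_ inferInstance inferInstance
      exact ShortComplex.exact_of_g_is_cokernel _ (cokernelIsCokernel _)
    refine isIso_ext τ hS (h _ ?_ (hQm S.f hQ)) (ih _ ?_ (hQe S.g hQ))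
    · rw [← cancel_mono S.f, Linear.smul_comp, Category.id_comp, zero_comp]
      have h1 : kernel.ι (b • 𝟙 F) ≫ (b • 𝟙 F) = 0 := kernel.condition _
      rwa [Linear.comp_smul, Category.comp_id] at h1
    · rw [← cancel_epi S.g, Linear.comp_smul, Category.comp_id, comp_zero]
      have h1 : (b ^ N • 𝟙 F) ≫ (b • 𝟙 F) = 0 := by
        rw [Linear.smul_comp, Linear.comp_smul, Category.id_comp, smul_smul, ← pow_succ, hF]
      have h2 : (b ^ N • 𝟙 F) ≫ cokernel.π (kernel.ι (b • 𝟙 F)) = 0 := by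
        rw [← kernel.lift_ι (b • 𝟙 F) _ h1, Category.assoc, cokernel.condition, comp_zero]
      rw [Linear.smul_comp, Category.id_comp] at h2
      exact h2

theorem devissage (l : List R) (Q : A → Prop) (hQm : ∀ {X Y : A} (f : X ⟶ Y) [Mono f], Q Y → Q X)
    (hQe : ∀ {X Y : A} (f : X ⟶ Y) [Epi f], Q X → Q Y)
    (h : ∀ F, (∀ a ∈ l, a • 𝟙 F = 0) → Q F → IsIso (τ.app F)) :
    ∀ F, (∀ a ∈ l, Nilp a F) → Q F → IsIso (τ.app F) := by
  induction l generalizing Q with
  | nil => exact fun F _ hQ => h F (by simp) hQ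
  | cons b l ih =>
    intro F hF hQ
    obtain ⟨N, hN⟩ := hF b (by simp)
    refine step τ b (fun F => Q F ∧ ∀ a ∈ l, Nilp a F) (fun f _ h => ⟨hQm f h.1, fun a ha => nilp_of_mono f (h.2 a ha)⟩)
      (fun f _ h => ⟨hQe f h.1, fun a ha => nilp_of_epi f (h.2 a ha)⟩) (fun F hb hF => ?_) N F hN
      ⟨hQ, fun a ha => hF a (by simp [ha])⟩
    refine ih (fun F => Q F ∧ b • 𝟙 F = 0) (fun f _ h => ⟨hQm f h.1, smul_of_mono f h.2⟩)
      (fun f _ h => ⟨hQe f h.1, smul_of_epi f h.2⟩) (fun F hl hQ' => ?_) F hF.2 ⟨hF.1, hb⟩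
    refine h F (fun a ha => ?_) hQ'.1
    rcases List.mem_cons.1 ha with rfl | ha
    · exact hQ'.2
    · exact hl a ha

theorem isIso_of_nilp (l : List R) (h : ∀ F, (∀ a ∈ l, a • 𝟙 F = 0) → IsIso (τ.app F)) (F : A)
    (hF : ∀ a ∈ l, Nilp a F) : IsIso (τ.app F) :=
  devissage τ l (fun _ => True) (fun _ _ _ => trivial) (fun _ _ _ => trivial) (fun F hF _ => h F hF) F hF trivial

variable [HasDerivedCategory.{w} A]

omit [G.Additive] [PreservesFiniteLimits G] [PreservesFiniteColimits G] in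
theorem nilp_homology (K : CochainComplex A ℤ) (a : R) (h : Nilp a (DerivedCategory.Q.obj K)) (n : ℤ) :
    Nilp a (K.homology n) := by
  obtain ⟨N, hN⟩ := h
  refine ⟨N, ?_⟩
  have h1 : DerivedCategory.Q.map (a ^ N • 𝟙 K) = 0 := by
    rw [Functor.map_smul, CategoryTheory.Functor.map_id, hN]
  have h2 : HomologicalComplex.homologyMap (a ^ N • 𝟙 K) n = 0 := by
    have h3 := (DerivedCategory.homologyFunctorFactors A n).hom.naturality (a ^ N • 𝟙 K)
    have h4 : (DerivedCategory.Q ⋙ DerivedCategory.homologyFunctor A n).map (a ^ N • 𝟙 K) = 0 := by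
      change (DerivedCategory.homologyFunctor A n).map (DerivedCategory.Q.map (a ^ N • 𝟙 K)) = 0
      rw [h1, Functor.map_zero]
    rw [h4, zero_comp] at h3
    exact ((cancel_epi ((DerivedCategory.homologyFunctorFactors A n).hom.app K)).1
      (h3.symm.trans comp_zero.symm))
  rwa [homologyMap_smul] at h2

theorem isIso_tD (l : List R) (h : ∀ F, (∀ a ∈ l, a • 𝟙 F = 0) → IsIso (τ.app F)) (L : DerivedCategory A)
    (hL : ∀ a ∈ l, Nilp a L) : IsIso ((tD τ).app L) := by
  let K := DerivedCategory.Q.objPreimage L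
  have e : DerivedCategory.Q.obj K ≅ L := DerivedCategory.Q.objObjPreimageIso L
  have h1 : IsIso ((tD τ).app (DerivedCategory.Q.obj K)) := by
    rw [tD_app_Q]
    have h2 : IsIso (DerivedCategory.Q.map ((tC τ).app K)) := by
      rw [DerivedCategory.isIso_Q_map_iff_quasiIso]
      exact quasiIso_tC τ K fun n => isIso_of_nilp τ l h _ fun a ha => nilp_homology K a ((hL a ha).of_iso e.symm) n
    infer_instance
  have h3 : (tD τ).app L = e.inv ≫ (tD τ).app (DerivedCategory.Q.obj K) ≫ G.mapDerivedCategory.map e.hom := by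
    rw [Iso.eq_inv_comp]
    exact (tD τ).naturality e.hom
  rw [h3]
  infer_instance

/-- **Main statement**. -/
theorem bijective_tD [G.Linear R] (l : List R) (h : ∀ F, (∀ a ∈ l, a • 𝟙 F = 0) → IsIso (τ.app F))
    (Z : DerivedCategory A) (hZ : ∀ a ∈ l, Cpl a Z) (L : DerivedCategory A) :
    Function.Bijective (fun x : G.mapDerivedCategory.obj L ⟶ Z => (tD τ).app L ≫ x) := by
  refine descent_list (tD τ) Z l hZ (fun _ => True) (fun _ _ _ => trivial) (fun _ _ _ _ => trivial) (fun L _ hL => ?_) L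
    trivial
  have := isIso_tD τ l h L hL
  exact (asIso ((tD τ).app L)).symm.homFromEquiv.bijective

end

end K779.NilA
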