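import Groth.Agent.DerComp.K779.CFOver
import Groth.Prelude.Def_DerComp

/-!
# Preimages and localisation of sheaves of ideals along morphisms of ringed sites
-/

set_option autoImplicit false

universe u

open CategoryTheory CategoryTheory.Limits Opposite

namespace K779.IdLoc

open CFOver K780.CovFlat

variable {C : Type u} [SmallCategory C] {J : GrothendieckTopology C}
  {D : Type u} [SmallCategory D] {K : GrothendieckTopology D}
  {O_C : Sheaf J CommRingCat.{u}} {O_D : Sheaf K CommRingCat.{u}} (f : ModSite.RMor O_C O_D)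

/-- the ring map over `V` -/
noncomputable def shV (V : D) : O_D.obj.obj (op V) →+* O_C.obj.obj (op (f.fn.obj V)) :=
  (f.sharp.hom.app (op V)).hom

theorem shV_map {V V' : D} (g : V' ⟶ V) (b : O_D.obj.obj (op V)) :
    shV f V' ((O_D.obj.map g.op).hom b) = (O_C.obj.map (f.fn.map g).op).hom (shV f V b) := by
  have h := f.sharp.hom.naturality g.op
  exact congrArg (fun t => t.hom b) h

/-- The preimage of a sheaf of ideals. -/
noncomputable def pre (J' : DerComp.IdealSh O_C) : DerComp.IdealSh O_D where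
  ideal V := (J'.ideal (f.fn.obj V)).comap (shV f V)
  map_mem {U V} g b hb := by
    rw [Ideal.mem_comap] at hb ⊢
    rw [shV_map]
    exact J'.map_mem _ hb
  glue {U b} S hS h := by
    rw [Ideal.mem_comap]
    refine J'.glue (S.functorPushforward f.fn)
      ((CoverPreserving.of_isContinuous f.fn K J).cover_preserve hS) fun V g hg => ?_
    obtain ⟨Z, g', h', hg', rfl⟩ := hg
    have h1 := h g' hg'
    rw [Ideal.mem_comap, shV_map] at h1
    have h2 := J'.map_mem h' h1
    rwa [op_comp, Functor.map_comp, CommRingCat.hom_comp, RingHom.comp_apply]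

theorem mem_pre (J' : DerComp.IdealSh O_C) (V : D) (b : O_D.obj.obj (op V)) :
    b ∈ (pre f J').ideal V ↔ shV f V b ∈ J'.ideal (f.fn.obj V) := Iff.rfl

theorem maps_iff (I : DerComp.IdealSh O_D) (J' : DerComp.IdealSh O_C) :
    DerComp.RMapsIdealInto f I J' ↔ I ≤ pre f J' := Iff.rfl

section Push

variable {O : Sheaf J CommRingCat.{u}} {W : C}

/-- restriction to an object over `W` -/
def ovM {X : C} (Y : Over W) (p : Y.left ⟶ X) : O.obj.obj (op X) →+* (O.over W).obj.obj (op Y) := (O.obj.map p.op).hom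

theorem ovM_map {X X' : C} (g : X' ⟶ X) (Y : Over W) (p : Y.left ⟶ X') (h : O.obj.obj (op X)) :
    ovM Y p ((O.obj.map g.op).hom h) = ovM Y (p ≫ g) h :=
  (congrArg (fun t => (CommRingCat.Hom.hom t) h)
    ((congrArg O.obj.map (op_comp (f := p) (g := g))).trans (O.obj.map_comp g.op p.op))).symm

theorem map_ovM {X : C} {Y Z : Over W} (g : Z ⟶ Y) (p : Y.left ⟶ X) (h : O.obj.obj (op X)) :
    ((O.over W).obj.map g.op).hom (ovM Y p h) = ovM Z (g.left ≫ p) h := ovM_map p Z g.left h

theorem ovM_id (Y : Over W) (h : (O.over W).obj.obj (op Y)) : ovM Y (𝟙 Y.left) h = h :=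
  congrArg (fun t => (CommRingCat.Hom.hom t) h) (O.obj.map_id (op Y.left))

/-- Direct image of a sheaf of ideals along localisation. -/
def pushOver (J' : DerComp.IdealSh (O.over W)) : DerComp.IdealSh O where
  ideal X := ⨅ (Y : Over W) (p : Y.left ⟶ X), Ideal.comap (ovM Y p) (J'.ideal Y)
  map_mem {U V} g h hh := by
    simp only [Ideal.mem_iInf, Ideal.mem_comap] at hh ⊢
    intro Y p
    rw [ovM_map]
    exact hh Y (p ≫ g)
  glue {U h} S hS hh := by
    simp only [Ideal.mem_iInf, Ideal.mem_comap] at hh ⊢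
    intro Y p
    refine J'.glue ((Sieve.overEquiv Y).symm (S.pullback p))
      (J.overEquiv_symm_mem_over Y _ (J.pullback_stable p hS)) fun Z g hg => ?_
    rw [Sieve.overEquiv_symm_iff] at hg
    have h1 := hh (g.left ≫ p) hg Z (𝟙 Z.left)
    rw [ovM_map, Category.id_comp] at h1
    rw [map_ovM]
    exact h1

theorem mem_pushOver (J' : DerComp.IdealSh (O.over W)) (X : C) (h : O.obj.obj (op X)) :
    h ∈ (pushOver J').ideal X ↔ ∀ (Y : Over W) (p : Y.left ⟶ X), ovM Y p h ∈ J'.ideal Y := by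
  simp only [pushOver, Ideal.mem_iInf, Ideal.mem_comap]

theorem over_le_of_le_pushOver (I : DerComp.IdealSh O) (J' : DerComp.IdealSh (O.over W))
    (h : I ≤ pushOver J') : I.over W ≤ J' := by
  intro Y b hb
  have h1 := (mem_pushOver J' Y.left b).1 (h Y.left hb) Y (𝟙 Y.left)
  rwa [ovM_id] at h1

end Push

/-- **Localisation of the ideal generated by `f⁻¹ I`.** -/
theorem isIdealExt_over (I : DerComp.IdealSh O_D) (I' : DerComp.IdealSh O_C) (h : DerComp.RIsIdealExt f I I') (V : D) :
    DerComp.RIsIdealExt (overR f V) (I.over V) (I'.over (f.fn.obj V)) := by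
  refine ⟨fun Y g hg => h.1 Y.left g hg, fun J' hJ' => ?_⟩
  refine over_le_of_le_pushOver I' J' (h.2 _ fun V' g hg => ?_)
  rw [mem_pushOver]
  intro Y p
  have hcf := (isCF f).prod Y.left V' V p Y.hom
  obtain ⟨S, hS, hS'⟩ := hcf
  refine J'.glue ((Sieve.overEquiv Y).symm S) (J.overEquiv_symm_mem_over Y _ hS) fun Z k hk => ?_
  rw [Sieve.overEquiv_symm_iff] at hk
  obtain ⟨c, h₁, h₂, y, e₁, e₂⟩ := hS' k.left hk
  have hg1 : (O_D.obj.map h₁.op).hom g ∈ (I.over V).ideal (Over.mk h₂) := I.map_mem h₁ hg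
  have hg2 := hJ' (Over.mk h₂) _ hg1
  have e₂' : y ≫ f.fn.map h₂ = Z.hom := e₂.trans (Over.w k)
  have hg3 := J'.map_mem (Over.homMk y e₂' : Z ⟶ (overR f V).fn.obj (Over.mk h₂)) hg2
  have key : ((O_C.over (f.fn.obj V)).obj.map k.op).hom (ovM Y p (shV f V' g)) =
      ovM Z y (shV f c ((O_D.obj.map h₁.op).hom g)) := by
    rw [shV_map, ovM_map, map_ovM, e₁]
  exact (congrArg (fun t => t ∈ J'.ideal Z) key).mpr hg3

/-- The extended ideal is generated by the images of generators. -/
theorem le_of_gen (I : DerComp.IdealSh O_D) (I' : DerComp.IdealSh O_C) (h : DerComp.RIsIdealExt f I I')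
    {ι : Type*} (a : ι → DerComp.GSec O_D) (hI : ∀ I'' : DerComp.IdealSh O_D, I''.Contains a → I ≤ I'')
    (J' : DerComp.IdealSh O_C) (hJ' : ∀ (i : ι) (V : D), shV f V ((a i).1 V) ∈ J'.ideal (f.fn.obj V)) : I' ≤ J' :=
  h.2 J' ((maps_iff f I J').2 (hI _ fun i V => (mem_pre f J' V _).2 (hJ' i V)))

end K779.IdLoc
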