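import Groth.Agent.DerComp.K779.PushLoc
import Groth.Agent.DerComp.K779.IdLoc

/-!
# `Rf_*` preserves torsion objects (ideals of finite type)
-/

set_option autoImplicit false

universe u

open CategoryTheory CategoryTheory.Limits Opposite Pretriangulated

attribute [local instance] HasDerivedCategory.standard

namespace K779.RTors

open HU Tri Gen CFOver PushLoc IdLoc TorsLoc K578.Der _root_.K779.Compl

section Abs

variable {R : Type*} [CommRing R] {D : Type*} [Category* D] [HasZeroObject D] [HasShift D ℤ] [Preadditive D]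
  [∀ n : ℤ, (shiftFunctor D n).Additive] [Pretriangulated D] [Linear R D]
  {R' : Type*} [CommRing R'] {D' : Type*} [Category* D'] [HasZeroObject D'] [HasShift D' ℤ] [Preadditive D']
  [∀ n : ℤ, (shiftFunctor D' n).Additive] [Pretriangulated D'] [Linear R' D']

/-- The image of a finitely built object under a triangulated functor compatible with scalars. -/
theorem dg_map (Φ : D ⥤ D') [Φ.CommShift ℤ] [Φ.IsTriangulated] {l : Set R} {l' : Set R'}
    (h : ∀ s ∈ l, ∃ s' ∈ l', ∀ X : D, Tri.Div s X → Tri.Div s' (Φ.obj X)) {X : D} (hX : DG l X) :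
    DG l' (Φ.obj X) := by
  induction hX with
  | zero X hX => exact DG.zero _ (Φ.map_isZero hX)
  | div X s hs hX =>
    obtain ⟨s', hs', H⟩ := h s hs
    exact DG.div _ s' hs' (H X hX)
  | ext T hT h1 h3 ih1 ih3 => exact DG.ext _ (Φ.map_distinguished T hT) ih1 ih3

end Abs

variable {C : Type u} [SmallCategory C] {J : GrothendieckTopology C}
  {D : Type u} [SmallCategory D] {K : GrothendieckTopology D}
  {O_C : Sheaf J CommRingCat.{u}} {O_D : Sheaf K CommRingCat.{u}} (f : ModSite.RMor O_C O_D)

/-- A class of objects on which the ideal is generated by finitely many sections. -/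
def FinGen (I : DerComp.IdealSh O_D) (V : D) : Prop :=
  ∃ (r : ℕ) (a : Fin r → O_D.obj.obj (op V)), (I.over V).IsGenBy fun i => DerComp.GSec.ofSect O_D V (a i)

/-- `Rf_*` preserves torsion if the ideal is generated by finitely many global sections. -/
theorem tors_of_gen [SiteCmp.HasRpushD f] (I : DerComp.IdealSh O_D) (I' : DerComp.IdealSh O_C)
    (hI' : DerComp.RIsIdealExt f I I') {r : ℕ} (a : Fin r → DerComp.GSec O_D) (hI : I.IsGenBy a)
    (a' : Fin r → DerComp.GSec O_C) (ha' : ∀ (i : Fin r) (V : D), shV f V ((a i).1 V) = (a' i).1 (f.fn.obj V))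
    (T : DerivedCategory (ModSite.Mod O_C)) (hT : Tors O_C I' T) : Tors O_D I ((SiteCmp.RpushD f).obj T) := by
  have h1 : DG {s | s ∈ List.ofFn a'} T := by
    refine dg_of_tors I' (List.ofFn a') (fun J' hJ' => ?_) T hT
    refine le_of_gen f I I' hI' a hI.2 J' fun i V => ?_
    rw [ha']
    exact hJ' (a' i) (List.mem_ofFn.2 ⟨i, rfl⟩) _
  let := rpushCommShift f
  have := rpush_isTriangulated f
  have h2 : DG {s | s ∈ List.ofFn a} ((SiteCmp.RpushD f).obj T) := by
    refine dg_map (SiteCmp.RpushD f) (fun s hs => ?_) h1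
    obtain ⟨i, rfl⟩ := List.mem_ofFn.1 hs
    exact ⟨a i, List.mem_ofFn.2 ⟨i, rfl⟩, fun X hX => rpush_div (fun V => ha' i V) X hX⟩
  refine tors_of_dg I _ (fun s hs V => ?_) _ h2
  obtain ⟨i, rfl⟩ := List.mem_ofFn.1 hs
  exact hI.1 i V

/-- **`Rf_*` preserves torsion objects**. -/
theorem tors_rpush [SiteCmp.HasRpushD f] (I : DerComp.IdealSh O_D) (hI : I.IsFiniteType)
    (I' : DerComp.IdealSh O_C) (hI' : DerComp.RIsIdealExt f I I') (T : DerivedCategory (ModSite.Mod O_C))
    (hT : Tors O_C I' T) : Tors O_D I ((SiteCmp.RpushD f).obj T) := by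
  refine tors_of_locally I (B := FinGen I) hI _ ?_
  rintro V ⟨r, a, ha⟩
  have := hasRpushD (overR f V)
  obtain ⟨e⟩ := nonempty_iso f V T
  refine CMap.tors_of_iso (I.over V) e.symm ?_
  have h1 := isIdealExt_over f I I' hI' V
  refine tors_of_gen (overR f V) (I.over V) (I'.over (f.fn.obj V)) h1 (fun i => DerComp.GSec.ofSect O_D V (a i)) ha
    (fun i => DerComp.GSec.ofSect O_C (f.fn.obj V) (shV f V (a i))) (fun i Y => ?_) _
    (KL.tors_restr I' (f.fn.obj V) T hT)
  exact shV_map f Y.hom (a i)

end K779.RTors
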