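import Groth.Agent.DerComp.K779.ExTr
import Groth.Agent.CohtopB.ExactDerAdj

/-!
# The unit of a derived adjunction, after an exact functor
-/

set_option autoImplicit false

universe w₁ w₂ w₃ v₁ v₂ v₃ u₁ u₂ u₃

open CategoryTheory CategoryTheory.Limits

namespace K779.UnitD

open ExTr Groth.Agent.CohtopB.ExactDerAdj Groth.Agent

variable {A : Type u₁} [Category.{v₁} A] [Abelian A] [HasDerivedCategory.{w₁} A]
  {A' : Type u₂} [Category.{v₂} A'] [Abelian A'] [HasDerivedCategory.{w₂} A']
  {B : Type u₃} [Category.{v₃} B] [Abelian B] [HasDerivedCategory.{w₃} B]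

section Adj

variable {L : A ⥤ A'} {P : A' ⥤ A} (adj : L ⊣ P) [L.Additive] [P.Additive]
  [PreservesFiniteLimits L] [PreservesFiniteColimits L]
  [PreservesFiniteLimits P] [PreservesFiniteColimits P]

/-- The unit on complexes. -/
noncomputable abbrev uC (K : CochainComplex A ℤ) :
    K ⟶ (P.mapHomologicalComplex (ComplexShape.up ℤ)).obj ((L.mapHomologicalComplex (ComplexShape.up ℤ)).obj K) :=
  (LoccohB.MapAdj.mapComplexAdj adj (ComplexShape.up ℤ)).unit.app K

theorem unit_Q (K : CochainComplex A ℤ) :
    ∃ e : DerivedCategory.Q.obj ((P.mapHomologicalComplex (ComplexShape.up ℤ)).obj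
        ((L.mapHomologicalComplex (ComplexShape.up ℤ)).obj K)) ≅
      P.mapDerivedCategory.obj (L.mapDerivedCategory.obj (DerivedCategory.Q.obj K)),
      (derivedAdj adj).unit.app (DerivedCategory.Q.obj K) = DerivedCategory.Q.map (uC adj K) ≫ e.hom := by
  let _ : CatCommSq (L.mapHomologicalComplex (ComplexShape.up ℤ)) DerivedCategory.Q
    DerivedCategory.Q L.mapDerivedCategory := ⟨L.mapDerivedCategoryFactors.symm⟩
  let _ : CatCommSq (P.mapHomologicalComplex (ComplexShape.up ℤ)) DerivedCategory.Q
    DerivedCategory.Q P.mapDerivedCategory := ⟨P.mapDerivedCategoryFactors.symm⟩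
  refine ⟨(CatCommSq.iso (P.mapHomologicalComplex (ComplexShape.up ℤ)) DerivedCategory.Q DerivedCategory.Q
      P.mapDerivedCategory).app ((L.mapHomologicalComplex (ComplexShape.up ℤ)).obj K) ≪≫
    P.mapDerivedCategory.mapIso ((CatCommSq.iso (L.mapHomologicalComplex (ComplexShape.up ℤ)) DerivedCategory.Q
      DerivedCategory.Q L.mapDerivedCategory).app K), ?_⟩
  exact Adjunction.localization_unit_app (LoccohB.MapAdj.mapComplexAdj adj (ComplexShape.up ℤ))
    DerivedCategory.Q (HomologicalComplex.quasiIso A (ComplexShape.up ℤ))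
    DerivedCategory.Q (HomologicalComplex.quasiIso A' (ComplexShape.up ℤ))
    L.mapDerivedCategory P.mapDerivedCategory K

variable (W : MorphismProperty (DerivedCategory B)) [W.RespectsIso]
  (R : A ⥤ B) [R.Additive] [PreservesFiniteLimits R] [PreservesFiniteColimits R]
  {G : B ⥤ B} [G.Additive] [PreservesFiniteLimits G] [PreservesFiniteColimits G] (τ : 𝟭 B ⟶ G)
  (β : R ⋙ G ≅ (L ⋙ P) ⋙ R) (hβ : ∀ F : A, τ.app (R.obj F) ≫ β.hom.app F = R.map (adj.unit.app F))
  (hW : ∀ X, W ((tD τ).app X))

include hβ hW in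
theorem w_unit_Q (K : CochainComplex A ℤ) :
    W (R.mapDerivedCategory.map ((derivedAdj adj).unit.app (DerivedCategory.Q.obj K))) := by
  obtain ⟨e, he⟩ := unit_Q adj K
  let RK := (R.mapHomologicalComplex (ComplexShape.up ℤ)).obj K
  let b : (G.mapHomologicalComplex (ComplexShape.up ℤ)).obj RK ≅
      (R.mapHomologicalComplex (ComplexShape.up ℤ)).obj ((P.mapHomologicalComplex (ComplexShape.up ℤ)).obj
        ((L.mapHomologicalComplex (ComplexShape.up ℤ)).obj K)) :=
    HomologicalComplex.Hom.isoOfComponents (fun i => β.app (K.X i)) (fun i j _ => (β.hom.naturality (K.d i j)).symm)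
  have h1 : (R.mapHomologicalComplex (ComplexShape.up ℤ)).map (uC adj K) = (tC τ).app RK ≫ b.hom := by
    ext i
    exact (hβ (K.X i)).symm
  have h2 : DerivedCategory.Q.map ((tC τ).app RK) =
      (tD τ).app (DerivedCategory.Q.obj RK) ≫ (G.mapDerivedCategoryFactors.app RK).hom := by
    rw [tD_app_Q, Category.assoc]
    refine (Category.comp_id _).symm.trans (congrArg (fun t => DerivedCategory.Q.map ((tC τ).app RK) ≫ t) ?_)
    exact (G.mapDerivedCategoryFactors.inv_hom_id_app RK).symm
  have h3 : R.mapDerivedCategory.map (DerivedCategory.Q.map (uC adj K)) =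
      (R.mapDerivedCategoryFactors.app K).hom ≫
        DerivedCategory.Q.map ((R.mapHomologicalComplex (ComplexShape.up ℤ)).map (uC adj K)) ≫
        (R.mapDerivedCategoryFactors.app _).inv := by
    rw [← Category.assoc, Iso.eq_comp_inv]
    exact R.mapDerivedCategoryFactors.hom.naturality (uC adj K)
  rw [he, Functor.map_comp, h3, h1, Functor.map_comp, h2]
  have h4 : W (((tD τ).app (DerivedCategory.Q.obj RK) ≫ (G.mapDerivedCategoryFactors.app RK).hom) ≫
      DerivedCategory.Q.map b.hom) := by
    refine (MorphismProperty.cancel_right_of_respectsIso W _ _).2 ?_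
    exact (MorphismProperty.cancel_right_of_respectsIso W _ _).2 (hW _)
  refine (MorphismProperty.cancel_right_of_respectsIso W _ _).2 ?_
  refine (MorphismProperty.cancel_left_of_respectsIso W _ _).2 ?_
  exact (MorphismProperty.cancel_right_of_respectsIso W _ _).2 h4

include hβ hW in
theorem w_unit (X : DerivedCategory A) : W (R.mapDerivedCategory.map ((derivedAdj adj).unit.app X)) := by
  let K := DerivedCategory.Q.objPreimage X
  have e : DerivedCategory.Q.obj K ≅ X := DerivedCategory.Q.objObjPreimageIso X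
  have h1 := w_unit_Q adj W R τ β hβ hW K
  have h2 := (derivedAdj adj).unit.naturality e.hom
  have h3 : R.mapDerivedCategory.map e.hom ≫ R.mapDerivedCategory.map ((derivedAdj adj).unit.app X) =
      R.mapDerivedCategory.map ((derivedAdj adj).unit.app (DerivedCategory.Q.obj K)) ≫
        R.mapDerivedCategory.map (P.mapDerivedCategory.map (L.mapDerivedCategory.map e.hom)) := by
    rw [← Functor.map_comp, ← Functor.map_comp]
    exact congrArg _ h2
  refine (MorphismProperty.cancel_left_of_respectsIso W (R.mapDerivedCategory.map e.hom) _).1 ?_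
  rw [h3]
  exact (MorphismProperty.cancel_right_of_respectsIso W _ _).2 h1

end Adj

end K779.UnitD
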