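import Groth.Agent.DerComp.K779.TorsLoc
import Mathlib.CategoryTheory.Localization.Bousfield

/-!
# Morphisms which become invertible after derived completion
-/

set_option autoImplicit false

universe u

open CategoryTheory CategoryTheory.Limits Opposite Pretriangulated

attribute [local instance] HasDerivedCategory.standard

namespace K779.WMor

open HU _root_.K779.Compl Local

section Abs

variable {D : Type*} [Category* D] [HasZeroObject D] [Preadditive D] [HasShift D ℤ]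
  [∀ n : ℤ, (shiftFunctor D n).Additive] [Pretriangulated D]

/-- the third object of a triangle with first morphism local for all `Z⟦n⟧` is left orthogonal to `Z` -/
theorem subsingleton_of_bijective {T : Triangle D} (hT : T ∈ distTriang D) {Z : D}
    (h : ∀ n : ℤ, Function.Bijective (fun u : T.obj₂ ⟶ Z⟦n⟧ => T.mor₁ ≫ u)) (n : ℤ) :
    Subsingleton (T.obj₃ ⟶ Z⟦n⟧) := by
  refine ⟨fun a b => ?_⟩
  rw [← sub_eq_zero]
  have h1 : T.mor₂ ≫ (a - b) = 0 := by
    apply (h n).1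
    dsimp only
    rw [← Category.assoc, comp_distTriang_mor_zero₁₂ _ hT, zero_comp, comp_zero]
  obtain ⟨c, hc⟩ := Triangle.yoneda_exact₃ _ hT _ h1
  obtain ⟨c', hc'⟩ : ∃ c' : T.obj₁ ⟶ Z⟦n + -1⟧, (shiftFunctorCompIsoId D (1 : ℤ) (-1) (by simp)).inv.app T.obj₁ ≫
      (shiftFunctor D (-1 : ℤ)).map c ≫ (shiftFunctorAdd' D n (-1) (n + -1) rfl).inv.app Z = c' := ⟨_, rfl⟩
  obtain ⟨d, hd⟩ := (h (n + -1)).2 c'
  dsimp only at hd
  -- `c` factors through `T.mor₁⟦1⟧`
  have h3 : ∃ d' : T.obj₂⟦(1 : ℤ)⟧ ⟶ Z⟦n⟧, c = T.mor₁⟦(1 : ℤ)⟧' ≫ d' := by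
    let e1 := (shiftFunctorCompIsoId D (1 : ℤ) (-1) (by simp))
    have hn := e1.inv.naturality T.mor₁
    let w : T.obj₂⟦(1 : ℤ)⟧⟦(-1 : ℤ)⟧ ⟶ Z⟦n⟧⟦(-1 : ℤ)⟧ :=
      e1.hom.app T.obj₂ ≫ d ≫ (shiftFunctorAdd' D n (-1) (n + -1) rfl).hom.app Z
    obtain ⟨d', hd'⟩ := (shiftFunctor D (-1 : ℤ)).map_surjective w
    refine ⟨d', (shiftFunctor D (-1 : ℤ)).map_injective ?_⟩
    rw [Functor.map_comp, hd', ← cancel_epi (e1.inv.app T.obj₁),
      ← cancel_mono ((shiftFunctorAdd' D n (-1) (n + -1) rfl).inv.app Z)]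
    have h4 : e1.inv.app T.obj₁ ≫ (T.mor₁⟦(1 : ℤ)⟧')⟦(-1 : ℤ)⟧' = T.mor₁ ≫ e1.inv.app T.obj₂ := hn.symm
    simp only [Category.assoc, w, Iso.hom_inv_id_app, Category.comp_id]
    rw [reassoc_of% h4, Iso.inv_hom_id_app_assoc]
    exact hc'.trans hd.symm
  obtain ⟨d', rfl⟩ := h3
  rw [hc, ← Category.assoc, comp_distTriang_mor_zero₃₁ _ hT, zero_comp]

theorem subsingleton_shift_neg {X Z : D} (h : ∀ n : ℤ, Subsingleton (X ⟶ Z⟦n⟧)) (n : ℤ) :
    Subsingleton (X⟦(-1 : ℤ)⟧ ⟶ Z⟦n⟧) := by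
  refine ⟨fun a b => (shiftFunctor D (1 : ℤ)).map_injective ?_⟩
  rw [← cancel_epi ((shiftFunctorCompIsoId D (-1 : ℤ) 1 (by simp)).inv.app X),
    ← cancel_mono ((shiftFunctorAdd D n 1).inv.app Z)]
  exact (h (n + 1)).elim _ _

end Abs

variable {C : Type u} [SmallCategory C] {J : GrothendieckTopology C} {O : Sheaf J CommRingCat.{u}}

/-- Derived complete objects, as an object property. -/
def DC (I : DerComp.IdealSh O) : ObjectProperty (DerivedCategory (ModSite.Mod O)) :=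
  fun K => DerComp.IsDerComp O I K

/-- Morphisms inducing bijections on morphisms to derived complete objects. -/
abbrev W (I : DerComp.IdealSh O) : MorphismProperty (DerivedCategory (ModSite.Mod O)) := (DC I).isLocal

theorem dc_shift (I : DerComp.IdealSh O) {Z : DerivedCategory (ModSite.Mod O)} (h : DC I Z) (n : ℤ) : DC I (Z⟦n⟧) :=
  KL.isDerComp_shift I Z h n

/-- A morphism is in `W` iff its cone is a torsion object. -/
theorem w_iff_tors (I : DerComp.IdealSh O) {T : Triangle (DerivedCategory (ModSite.Mod O))} (hT : T ∈ distTriang _) :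
    W I T.mor₁ ↔ Tors O I T.obj₃ := by
  constructor
  · intro h Z hZ n
    exact subsingleton_of_bijective hT (fun m => h _ (dc_shift I hZ m)) n
  · intro h Z hZ
    have h1 := inv_rot_of_distTriang _ hT
    have h2 : ∀ n : ℤ, Subsingleton (T.invRotate.obj₁ ⟶ Z⟦n⟧) := subsingleton_shift_neg (h Z hZ)
    exact Refl.bijective_of_triangle (f := T.invRotate.mor₁) (g := T.mor₁) (h := T.invRotate.mor₃) h1 h2

theorem w_of_iso (I : DerComp.IdealSh O) {X Y X' Y' : DerivedCategory (ModSite.Mod O)} {f : X ⟶ Y} {f' : X' ⟶ Y'}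
    (e : X ≅ X') (e' : Y ≅ Y') (w : f ≫ e'.hom = e.hom ≫ f') (hf : W I f) : W I f' := by
  have h : f' = e.inv ≫ f ≫ e'.hom := by rw [w, Iso.inv_hom_id_assoc]
  rw [h]
  exact MorphismProperty.comp_mem _ _ _ ((DC I).isLocal_of_isIso _)
    (MorphismProperty.comp_mem _ _ _ hf ((DC I).isLocal_of_isIso _))

/-- The completion of an object. -/
theorem exists_completion (I : DerComp.IdealSh O) (X : DerivedCategory (ModSite.Mod O)) :
    ∃ (Y : DerivedCategory (ModSite.Mod O)) (g : X ⟶ Y), DerComp.IsDerComp O I Y ∧ W I g := by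
  obtain ⟨T, Y, f, g, h, hT, hY, hZ⟩ := exists_triangle O I X
  exact ⟨Y, g, hY, fun Z hZ' => Refl.bijective_of_triangle hT (hZ Z hZ')⟩

/-- Triangulated functors preserving torsion objects preserve `W`. -/
theorem w_map {C' : Type u} [SmallCategory C'] {J' : GrothendieckTopology C'} {O' : Sheaf J' CommRingCat.{u}}
    (I : DerComp.IdealSh O) (I' : DerComp.IdealSh O')
    (Φ : DerivedCategory (ModSite.Mod O) ⥤ DerivedCategory (ModSite.Mod O')) [Φ.CommShift ℤ] [Φ.IsTriangulated]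
    (hΦ : ∀ T, Tors O I T → Tors O' I' (Φ.obj T)) {X Y : DerivedCategory (ModSite.Mod O)} (f : X ⟶ Y)
    (hf : W I f) : W I' (Φ.map f) := by
  obtain ⟨Z, g, h, hT⟩ := distinguished_cocone_triangle f
  exact (w_iff_tors I' (Φ.map_distinguished _ hT)).2 (hΦ _ ((w_iff_tors I hT).1 hf))

/-- **Locality** of `W`. -/
theorem w_of_locally (I : DerComp.IdealSh O) {B : C → Prop} (hB : Gen.Covering J B)
    {X Y : DerivedCategory (ModSite.Mod O)} (f : X ⟶ Y)
    (h : ∀ V, B V → W (I.over V) ((restrD O V).map f)) : W I f := by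
  obtain ⟨Z, g, k, hT⟩ := distinguished_cocone_triangle f
  refine (w_iff_tors I hT).2 (TorsLoc.tors_of_locally I hB _ fun V hV => ?_)
  exact (w_iff_tors (I.over V) ((restrD O V).map_distinguished _ hT)).1 (h V hV)

end K779.WMor
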