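import Groth.Agent.DerComp.K779.ExtT3
import Groth.Agent.DerComp.K779.UnitD
import Groth.Agent.DerComp.K779.NilA
import Groth.Agent.DerComp.K779.WMor
import Groth.Agent.DerComp.K779.RTors

/-!
# The unit `K ⟶ (K ⊗_O O')|_O` becomes invertible after derived completion
-/

set_option autoImplicit false

universe u

open CategoryTheory CategoryTheory.Limits Opposite MonoidalCategory

attribute [local instance] HasDerivedCategory.standard Abelian.hasFiniteBiproducts

namespace K779.FlatLoc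

open K291.Mon K291.FreeOn RScal IdQuot ExtT LTen TenQ WMor HU Local IdLoc

variable {C : Type u} [SmallCategory C] {J : GrothendieckTopology C} {O O' : Sheaf J CommRingCat.{u}}

section Tau

variable {r : ℕ} (a : Fin r → DerComp.GSec O) {N : ModSite.Mod O} (ψ : ModSite.unit O ⟶ N)

theorem isIso_tauN (h : IsIso (quoMap a ψ)) (F : ModSite.Mod O) (hF : ∀ i, a i • 𝟙 F = 0) :
    IsIso ((tauN ψ).app F) := by
  have h1 : ∀ (M : ModSite.Mod O) (i : Fin r), a i • 𝟙 (((ModSite.tensorBi O).obj F).obj M) = 0 := by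
    intro M i
    have h2 : ((ModSite.tensorBi O).flip.obj M).map (a i • 𝟙 F) = a i • 𝟙 (((ModSite.tensorBi O).flip.obj M).obj F) := by
      rw [Functor.map_smul, CategoryTheory.Functor.map_id]
    rw [hF, Functor.map_zero] at h2
    exact h2.symm
  have h3 : IsIso (((ModSite.tensorBi O).obj F).map ψ) :=
    isIso_map_of_quo a ((ModSite.tensorBi O).obj F) ψ (h1 _) (h1 _) h
  have h4 : IsIso (F ◁ ψ) := h3
  change IsIso ((ρ_ F).inv ≫ F ◁ ψ)
  infer_instance

variable [PreservesFiniteLimits (GM N)]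

theorem w_tD (I : DerComp.IdealSh O) (hI : I.IsGenBy a) (h : IsIso (quoMap a ψ))
    (X : DerivedCategory (ModSite.Mod O)) : W I ((ExTr.tD (tauN ψ)).app X) := fun Z hZ => by
  refine NilA.bijective_tD (R := DerComp.GSec O) (tauN ψ) (List.ofFn a) (fun F hF => ?_) Z (fun s hs => ?_) X
  · exact isIso_tauN a ψ h F fun i => hF _ (List.mem_ofFn.2 ⟨i, rfl⟩)
  · obtain ⟨i, rfl⟩ := List.mem_ofFn.1 hs
    exact TorsLoc.cpl_of_isDerComp I Z hZ (a i) (hI.1 i)

end Tau

variable (φ : O ⟶ O') (V : C)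

/-- the localisation of `φ` -/
noncomputable def phiV : O.over V ⟶ O'.over V := (J.overPullback CommRingCat.{u} V).map φ

theorem restr_str : (ModSite.restr O V).map (str φ) = str (phiV φ V) := rfl

section Ideals

variable {φ} {I : DerComp.IdealSh O} {I' : DerComp.IdealSh O'}

theorem isIdealExt_phiV (h : DerComp.IsIdealExt φ I I') : DerComp.IsIdealExt (phiV φ V) (I.over V) (I'.over V) := by
  refine ⟨fun Y g hg => h.1 Y.left g hg, fun J' hJ' => over_le_of_le_pushOver I' J' (h.2 _ fun V' g hg => ?_)⟩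
  rw [mem_pushOver]
  intro Y p
  have h1 := hJ' Y (ovM Y p g) (I.map_mem p hg)
  have h2 : ((phiV φ V).hom.app (op Y)).hom (ovM Y p g) = ovM Y p ((φ.hom.app (op V')).hom g) :=
    congrArg (fun t => t.hom g) (φ.hom.naturality p.op)
  rwa [h2] at h1

theorem hinj_phiV (hinj : ∀ (U : C) (f : O.obj.obj (op U)), (φ.hom.app (op U)).hom f ∈ I'.ideal U → f ∈ I.ideal U)
    (Y : Over V) (f : (O.over V).obj.obj (op Y)) (h : ((phiV φ V).hom.app (op Y)).hom f ∈ (I'.over V).ideal Y) :
    f ∈ (I.over V).ideal Y := hinj Y.left f h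

theorem hsurj_phiV (hsurj : ∀ (U : C) (f' : O'.obj.obj (op U)), ∃ S ∈ J U, ∀ ⦃V : C⦄ (g : V ⟶ U), S g →
    ∃ a : O.obj.obj (op V), (O'.obj.map g.op).hom f' - (φ.hom.app (op V)).hom a ∈ I'.ideal V)
    (Y : Over V) (f' : (O'.over V).obj.obj (op Y)) : ∃ S ∈ (J.over V) Y, ∀ ⦃Z : Over V⦄ (g : Z ⟶ Y), S g →
      ∃ a : (O.over V).obj.obj (op Z), ((O'.over V).obj.map g.op).hom f' - ((phiV φ V).hom.app (op Z)).hom a ∈
        (I'.over V).ideal Z := by
  obtain ⟨S, hS, h⟩ := hsurj Y.left f'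
  refine ⟨(Sieve.overEquiv Y).symm S, J.overEquiv_symm_mem_over Y _ hS, fun Z g hg => ?_⟩
  rw [Sieve.overEquiv_symm_iff] at hg
  exact h g.left hg

end Ideals

section Res

attribute [local instance] K291.Restr.restrMonoidal

/-- the unit constraint of the restriction -/
noncomputable def epsV : ModSite.unit (O.over V) ⟶ (ModSite.restr O V).obj (ModSite.unit O) :=
  Functor.LaxMonoidal.ε (ModSite.restr O V)

instance isIso_epsV : IsIso (epsV (O := O) V) := inferInstanceAs (IsIso (Functor.LaxMonoidal.ε (ModSite.restr O V)))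

/-- `O|_V ⟶ O'|_V` -/
noncomputable def psiV : ModSite.unit (O.over V) ⟶ (ModSite.restr O V).obj (NN φ) :=
  epsV V ≫ (ModSite.restr O V).map (str φ)

/-- restriction is monoidal -/
noncomputable def betaV (N : ModSite.Mod O) :
    ModSite.restr O V ⋙ GM ((ModSite.restr O V).obj N) ≅ GM N ⋙ ModSite.restr O V :=
  NatIso.ofComponents (fun F => Functor.Monoidal.μIso (ModSite.restr O V) F N)
    (fun f => Functor.LaxMonoidal.μ_natural_left (ModSite.restr O V) f N)

theorem tau_beta (F : ModSite.Mod O) :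
    (tauN (psiV φ V)).app ((ModSite.restr O V).obj F) ≫ (betaV V (NN φ)).hom.app F =
      (ModSite.restr O V).map ((tauN (str φ)).app F) := by
  change ((ρ_ ((ModSite.restr O V).obj F)).inv ≫ (ModSite.restr O V).obj F ◁ psiV φ V) ≫
    Functor.LaxMonoidal.μ (ModSite.restr O V) F (NN φ) = (ModSite.restr O V).map ((ρ_ F).inv ≫ F ◁ str φ)
  rw [Functor.map_comp, ← Functor.LaxMonoidal.right_unitality_inv, Category.assoc, Category.assoc, Category.assoc,
    ← Functor.LaxMonoidal.μ_natural_right, psiV, MonoidalCategory.whiskerLeft_comp, Category.assoc]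
  rfl

end Res

section Main

variable {I : DerComp.IdealSh O} {I' : DerComp.IdealSh O'} (hI' : DerComp.IsIdealExt φ I I')
  (hinj : ∀ (U : C) (f : O.obj.obj (op U)), (φ.hom.app (op U)).hom f ∈ I'.ideal U → f ∈ I.ideal U)
  (hsurj : ∀ (U : C) (f' : O'.obj.obj (op U)), ∃ S ∈ J U, ∀ ⦃V : C⦄ (g : V ⟶ U), S g →
    ∃ a : O.obj.obj (op V), (O'.obj.map g.op).hom f' - (φ.hom.app (op V)).hom a ∈ I'.ideal V)

include hI' hinj hsurj

theorem isIso_quo_psiV {r : ℕ} (a : Fin r → DerComp.GSec (O.over V)) (ha : (I.over V).IsGenBy a) :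
    IsIso (quoMap a (psiV φ V)) := by
  have h1 : IsIso (quoMap a (str (phiV φ V))) := isIso_quo (phiV φ V) a (I.over V) ha (I'.over V)
    (isIdealExt_phiV V hI') (hinj_phiV V hinj) (hsurj_phiV V hsurj)
  have h2 : IsIso (quoMap a ((ModSite.restr O V).map (str φ))) := h1
  rw [psiV, quoMap_comp]
  infer_instance

variable {L : ModSite.Mod O ⥤ ModSite.Mod O'} (adj : L ⊣ rsc φ) [L.Additive] [PreservesFiniteLimits L]
  [PreservesFiniteColimits L] [PreservesFiniteLimits (rsc φ)] [PreservesFiniteColimits (rsc φ)]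

theorem w_unit (hI : I.IsFiniteType) (hflat : ModSite.IsFlat (NN φ)) (X : DerivedCategory (ModSite.Mod O)) :
    W I ((Groth.Agent.CohtopB.ExactDerAdj.derivedAdj adj).unit.app X) := by
  refine w_of_locally I (B := RTors.FinGen I) hI _ ?_
  rintro V ⟨r, a, ha⟩
  have h1 : ModSite.IsFlat ((ModSite.restr O V).obj (NN φ)) := K291.Shriek.isFlat_restr hflat
  have h2 : PreservesFiniteLimits (GM ((ModSite.restr O V).obj (NN φ))) := h1.1
  refine UnitD.w_unit adj (W (I.over V)) (ModSite.restr O V) (tauN (psiV φ V))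
    (betaV V (NN φ) ≪≫ Functor.isoWhiskerRight (sigIso φ adj) (ModSite.restr O V)) (fun F => ?_) (fun X => ?_) X
  · have h3 := tau_beta φ V F
    have h4 := tau_sig φ adj F
    rw [Iso.trans_hom, NatTrans.comp_app, ← Category.assoc, h3, ← h4, Functor.map_comp]
    rfl
  · exact w_tD _ (psiV φ V) (I.over V) ha (isIso_quo_psiV φ V hI' hinj hsurj _ ha) X

end Main

end K779.FlatLoc
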