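import Groth.Agent.DerComp.K779.TenQ

/-!
# Sheaves of ideals generated by finitely many global sections, locally
-/

set_option autoImplicit false

universe u

open CategoryTheory CategoryTheory.Limits Opposite

attribute [local instance] HasDerivedCategory.standard

namespace K779.IdSpan

open K780.CovFlat K291.FreeOn TenQ K295.PullExact

variable {C : Type u} [SmallCategory C] {J : GrothendieckTopology C} {O O' : Sheaf J CommRingCat.{u}}

section Span

variable {r : ℕ} (a : Fin r → DerComp.GSec O)

/-- the ideal of `O(U)` generated by the `a_i` -/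
def sp (U : C) : Ideal (O.obj.obj (op U)) := Ideal.span (Set.range fun i => (a i).1 U)

theorem map_sp {U V : C} (g : V ⟶ U) {x : O.obj.obj (op U)} (hx : x ∈ sp a U) : (O.obj.map g.op).hom x ∈ sp a V := by
  have h1 : Ideal.map (O.obj.map g.op).hom (sp a U) ≤ sp a V := by
    rw [sp, Ideal.map_span, Ideal.span_le]
    rintro _ ⟨_, ⟨i, rfl⟩, rfl⟩
    refine Ideal.subset_span ⟨i, ?_⟩
    exact (DerComp.GSec.compat (a i) g).symm
  exact h1 (Ideal.mem_map_of_mem _ hx)

/-- The sheaf of ideals generated by finitely many global sections. -/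
def spanSh : DerComp.IdealSh O where
  ideal U :=
    { carrier := {x | Loc J U (fun V g => (O.obj.map g.op).hom x ∈ sp a V)}
      add_mem' := fun {x y} hx hy => (Loc.and hx hy).mono fun V g h => by
        rw [map_add]
        exact (sp a V).add_mem h.1 h.2
      zero_mem' := Loc.of_forall fun V g => by
        rw [map_zero]
        exact (sp a V).zero_mem
      smul_mem' := fun c x hx => hx.mono fun V g h => by
        rw [smul_eq_mul, map_mul]
        exact (sp a V).mul_mem_left _ h }
  map_mem {U V} g {x} hx := (Loc.pullback hx g).mono fun W k h => by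
    rw [← CommRingCat.comp_apply, ← Functor.map_comp, ← op_comp]
    exact h
  glue {U x} S hS h := Loc.bind (φ := fun _ g => S g) ⟨S, hS, fun _ _ hg => hg⟩ fun V g hg =>
    (show Loc J V (fun W k => (O.obj.map k.op).hom ((O.obj.map g.op).hom x) ∈ sp a W) from h g hg).mono
      fun W k hk => by
        rw [← CommRingCat.comp_apply, ← Functor.map_comp, ← op_comp] at hk
        exact hk

theorem mem_spanSh {U : C} (x : O.obj.obj (op U)) :
    x ∈ (spanSh a).ideal U ↔ Loc J U (fun V g => (O.obj.map g.op).hom x ∈ sp a V) := Iff.rfl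

theorem le_spanSh (I : DerComp.IdealSh O) (hI : I.IsGenBy a) : I ≤ spanSh a :=
  hI.2 _ fun i U => (mem_spanSh a _).2 (Loc.of_forall fun V g => by
    rw [DerComp.GSec.compat]
    exact Ideal.subset_span ⟨i, rfl⟩)

theorem mem_sp_iff {U : C} (x : O.obj.obj (op U)) : x ∈ sp a U ↔ ∃ c : Fin r → O.obj.obj (op U), ∑ i, c i * (a i).1 U = x := by
  rw [sp, Ideal.mem_span_range_iff_exists_fun]

end Span

variable (φ : O ⟶ O')

/-- the image of a global section -/
def gmap (s : DerComp.GSec O) : DerComp.GSec O' :=
  ⟨fun V => (φ.hom.app (op V)).hom (s.1 V), fun U V g => by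
    have h := congrArg (fun t => t.hom (s.1 U)) (φ.hom.naturality g.op)
    refine Eq.trans ?_ (h.symm.trans ?_)
    · rfl
    · change (φ.hom.app (op V)).hom ((O.obj.map g.op).hom (s.1 U)) = _
      rw [DerComp.GSec.compat]⟩

theorem le_spanSh_ext {r : ℕ} (a : Fin r → DerComp.GSec O) (I : DerComp.IdealSh O) (hI : I.IsGenBy a)
    (I' : DerComp.IdealSh O') (hI' : DerComp.IsIdealExt φ I I') : I' ≤ spanSh (fun i => gmap φ (a i)) := by
  refine hI'.2 _ fun U x hx => ?_
  refine ((mem_spanSh a x).1 (le_spanSh a I hI U hx)).mono fun V g h => ?_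
  have h1 := congrArg (fun t => t.hom x) (φ.hom.naturality g.op)
  have h2 : (O'.obj.map g.op).hom ((φ.hom.app (op U)).hom x) = (φ.hom.app (op V)).hom ((O.obj.map g.op).hom x) := h1.symm
  rw [h2]
  obtain ⟨c, hc⟩ := (mem_sp_iff a _).1 h
  rw [← hc, map_sum]
  refine Ideal.sum_mem _ fun i _ => ?_
  rw [map_mul]
  exact Ideal.mul_mem_left _ _ (Ideal.subset_span ⟨i, rfl⟩)

end K779.IdSpan
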