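import Groth.Agent.DerComp.K779.Spans
import Groth.Agent.DerComp.K779.Compl

/-!
# Restriction to a localised site preserves torsion objects

`subsingleton_restr`: `Hom((j_{U!} O_{U,f})|_V, Z⟦n⟧) = 0` for `f ∈ I(U)` and `Z ∈ D_comp(O_V, I|_V)`;
`tors_restr`: the left orthogonal of `D_comp(O, I)` is mapped by restriction to the left orthogonal of
`D_comp(O_V, I|_V)`; the right adjoint of restriction preserves derived complete objects.
-/

set_option autoImplicit false

universe u

open CategoryTheory CategoryTheory.Limits Opposite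

attribute [local instance] HasDerivedCategory.standard

namespace K779.KL

open Elt ElMod Sec HU Tri Gen K230.DCSeq Spans

variable {C : Type u} [SmallCategory C] {J : GrothendieckTopology C} {O : Sheaf J CommRingCat.{u}}
  {U V : C}

theorem subsingleton_of_iso {A : Type*} [Category* A] {X Y Y' : A} (e : Y ≅ Y') (h : Subsingleton (X ⟶ Y)) :
    Subsingleton (X ⟶ Y') :=
  ⟨fun a b => by
    have h1 := h.elim (a ≫ e.inv) (b ≫ e.inv)
    rwa [cancel_mono] at h1⟩

theorem isDerComp_shift (I : DerComp.IdealSh O) (Z : DerivedCategory (ModSite.Mod O))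
    (hZ : DerComp.IsDerComp O I Z) (n : ℤ) : DerComp.IsDerComp O I (Z⟦n⟧) := fun U f hf m =>
  subsingleton_of_iso ((shiftFunctorAdd _ n m).app Z) (hZ U f hf (n + m))

/-- Completeness for the spans module. -/
theorem bij_pi (I : DerComp.IdealSh O) (f : O.obj.obj (op U)) (hf : f ∈ I.ideal U)
    (Z : DerivedCategory (ModSite.Mod (O.over V))) (hZ : DerComp.IsDerComp (O.over V) (I.over V) Z) (n : ℤ) :
    Function.Bijective (fun (x : ℕ → (SiteCmp.inD (O.over V) ((pi (O.over V) (SUV U V)).obj
        (ModSite.unit (oS O U V))) ⟶ Z⟦n⟧)) (k : ℕ) =>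
      x k - (DerivedCategory.singleFunctor (ModSite.Mod (O.over V)) 0).map
        ((pi (O.over V) (SUV U V)).map (spS O U V f • 𝟙 (ModSite.unit (oS O U V)))) ≫ x (k + 1)) := by
  rw [Local.isDerComp_iff_hc] at hZ
  refine ElKL.dc_pi Z (spS O U V f) (fun W m => hZ W.pt _ ?_ m) (ModSite.unit (oS O U V)) n
  exact I.map_mem (show W.pt.left ⟶ U from W.x) hf

variable (O U V) in
/-- transport along `lam` -/
noncomputable def lamEq (Z : DerivedCategory (ModSite.Mod (O.over V))) (n : ℤ) :
    (SiteCmp.inD (O.over V) ((ModSite.restr O V).obj (ModSite.freeOn O U)) ⟶ Z⟦n⟧) ≃+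
      (SiteCmp.inD (O.over V) ((pi (O.over V) (SUV U V)).obj (ModSite.unit (oS O U V))) ⟶ Z⟦n⟧) where
  toFun x := (DerivedCategory.singleFunctor (ModSite.Mod (O.over V)) 0).map (lam O U V).inv ≫ x
  invFun x := (DerivedCategory.singleFunctor (ModSite.Mod (O.over V)) 0).map (lam O U V).hom ≫ x
  left_inv x := by
    simp only []
    rw [← Functor.map_comp_assoc, Iso.hom_inv_id, CategoryTheory.Functor.map_id, Category.id_comp]
  right_inv x := by
    simp only []
    rw [← Functor.map_comp_assoc, Iso.inv_hom_id, CategoryTheory.Functor.map_id, Category.id_comp]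
  map_add' x y := Preadditive.comp_add _ _ _ _ _ _

theorem lamEq_mul (f : O.obj.obj (op U)) (Z : DerivedCategory (ModSite.Mod (O.over V))) (n : ℤ)
    (x : SiteCmp.inD (O.over V) ((ModSite.restr O V).obj (ModSite.freeOn O U)) ⟶ Z⟦n⟧) :
    lamEq O U V Z n ((DerivedCategory.singleFunctor (ModSite.Mod (O.over V)) 0).map
        ((ModSite.restr O V).map (mul O U f)) ≫ x) =
      (DerivedCategory.singleFunctor (ModSite.Mod (O.over V)) 0).map
        ((pi (O.over V) (SUV U V)).map (spS O U V f • 𝟙 (ModSite.unit (oS O U V)))) ≫ lamEq O U V Z n x := by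
  have h : (lam O U V).inv ≫ (ModSite.restr O V).map (mul O U f) =
      (pi (O.over V) (SUV U V)).map (spS O U V f • 𝟙 (ModSite.unit (oS O U V))) ≫ (lam O U V).inv := by
    rw [Iso.inv_comp_eq, ← Category.assoc, DerComp.smul_def, Category.comp_id, ← lam_comp, Category.assoc,
      Iso.hom_inv_id, Category.comp_id]
  change (DerivedCategory.singleFunctor (ModSite.Mod (O.over V)) 0).map (lam O U V).inv ≫ _ ≫ x =
    _ ≫ (DerivedCategory.singleFunctor (ModSite.Mod (O.over V)) 0).map (lam O U V).inv ≫ x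
  rw [← Functor.map_comp_assoc, h, Functor.map_comp_assoc]

theorem bij_restr (I : DerComp.IdealSh O) (f : O.obj.obj (op U)) (hf : f ∈ I.ideal U)
    (Z : DerivedCategory (ModSite.Mod (O.over V))) (hZ : DerComp.IsDerComp (O.over V) (I.over V) Z) (n : ℤ) :
    Function.Bijective (fun (x : ℕ → (SiteCmp.inD (O.over V) ((ModSite.restr O V).obj
        (ModSite.freeOn O U)) ⟶ Z⟦n⟧)) (k : ℕ) =>
      x k - (DerivedCategory.singleFunctor (ModSite.Mod (O.over V)) 0).map
        ((ModSite.restr O V).map (mul O U f)) ≫ x (k + 1)) :=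
  (bijective_congr (lamEq O U V Z n)
    (fun x => (DerivedCategory.singleFunctor (ModSite.Mod (O.over V)) 0).map
        ((ModSite.restr O V).map (mul O U f)) ≫ x)
    (fun x => (DerivedCategory.singleFunctor (ModSite.Mod (O.over V)) 0).map
        ((pi (O.over V) (SUV U V)).map (spS O U V f • 𝟙 (ModSite.unit (oS O U V)))) ≫ x)
    (lamEq_mul f Z n)).2 (bij_pi I f hf Z hZ n)

instance isLeftAdjoint_restr : (ModSite.restr O V).IsLeftAdjoint :=
  K291.Colim.isLeftAdjoint_of_preservesColimits _

variable (O V) in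
theorem isLeftAdjoint_restrD : (restrD O V).IsLeftAdjoint :=
  RAdj.isLeftAdjoint (ModSite.restr O V) (K578.Der.hasKInj (O.over V)) isLeftAdjoint_restr

section Adj

variable {G : DerivedCategory (ModSite.Mod (O.over V)) ⥤ DerivedCategory (ModSite.Mod O)}
  (dadj : restrD O V ⊣ G)

theorem eqR_opr (f : O.obj.obj (op U)) (Z : DerivedCategory (ModSite.Mod (O.over V))) (n : ℤ)
    (x : SiteCmp.inD (O.over V) ((ModSite.restr O V).obj (ModSite.freeOn O U)) ⟶ Z⟦n⟧) :
    RAdj.eqR dadj (ModSite.freeOn O U) Z n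
      ((DerivedCategory.singleFunctor (ModSite.Mod (O.over V)) 0).map ((ModSite.restr O V).map (mul O U f)) ≫ x) =
      opr O U f _ (RAdj.eqR dadj (ModSite.freeOn O U) Z n x) :=
  RAdj.eqR_natural dadj (mul O U f) Z n x

include dadj in
theorem hc_right (I : DerComp.IdealSh O) (f : O.obj.obj (op U)) (hf : f ∈ I.ideal U)
    (Z : DerivedCategory (ModSite.Mod (O.over V))) (hZ : DerComp.IsDerComp (O.over V) (I.over V) Z) (n : ℤ) :
    HC O (G.obj Z) U f n :=
  (bijective_congr (RAdj.eqR dadj (ModSite.freeOn O U) Z n)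
    (fun x => (DerivedCategory.singleFunctor (ModSite.Mod (O.over V)) 0).map
        ((ModSite.restr O V).map (mul O U f)) ≫ x) (opr O U f _) (eqR_opr dadj f Z n)).1
    (bij_restr I f hf Z hZ n)

include dadj in
/-- The right adjoint of restriction preserves derived complete objects. -/
theorem isDerComp_right (I : DerComp.IdealSh O) (Z : DerivedCategory (ModSite.Mod (O.over V)))
    (hZ : DerComp.IsDerComp (O.over V) (I.over V) Z) : DerComp.IsDerComp O I (G.obj Z) := by
  rw [Local.isDerComp_iff_hc]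
  exact fun U f hf n => hc_right dadj I f hf Z hZ n

include dadj in
theorem tors_restr' (I : DerComp.IdealSh O) (T : DerivedCategory (ModSite.Mod O)) (hT : Compl.Tors O I T) :
    Compl.Tors (O.over V) (I.over V) ((restrD O V).obj T) := by
  intro Z hZ n
  have h1 := isDerComp_shift (I.over V) Z hZ n
  have h2 := hT (G.obj (Z⟦n⟧)) (isDerComp_right dadj I _ h1) 0
  have h3 : Subsingleton (T ⟶ G.obj (Z⟦n⟧)) :=
    subsingleton_of_iso ((shiftFunctorZero _ ℤ).app (G.obj (Z⟦n⟧))) h2
  exact (dadj.homEquiv T (Z⟦n⟧)).subsingleton_congr.2 h3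

end Adj

/-- **Restriction preserves torsion objects**. -/
theorem tors_restr (I : DerComp.IdealSh O) (V : C) (T : DerivedCategory (ModSite.Mod O))
    (hT : Compl.Tors O I T) : Compl.Tors (O.over V) (I.over V) ((restrD O V).obj T) := by
  have h0 := isLeftAdjoint_restrD O V
  exact tors_restr' (Adjunction.ofIsLeftAdjoint (restrD O V)) I T hT

end K779.KL
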