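import Groth.Agent.Dcoh.CellRes
import Groth.Agent.CohtopA.DerProd
import Groth.Agent.S0985

/-!
# The derived category of a Grothendieck abelian category is generated as a localizing subcategory

`loc_induction`: a class of objects of `D(A)` closed under isomorphisms, shifts, countable coproducts and cones which
contains `X[0]` for all `X` in a class `P` such that every object of `A` is a quotient of an object of `P` contains
every object.
-/

set_option autoImplicit false

universe w' w v u

open CategoryTheory CategoryTheory.Limits Pretriangulated ZeroObject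

namespace K779.Loc

open Groth.Agent.Dcoh.CellStep Groth.Agent.Dcoh.CellRes HomologicalComplex

variable {A : Type u} [Category.{v} A] [Abelian A] [HasDerivedCategory.{w'} A] [IsGrothendieckAbelian.{w} A]

theorem loc_induction (P : ObjectProperty A) (hP : Enough P) (𝒞 : ObjectProperty (DerivedCategory A))
    [𝒞.IsClosedUnderIsomorphisms] (h0 : ∀ Z : DerivedCategory A, IsZero Z → 𝒞 Z)
    (hsh : ∀ (X : DerivedCategory A) (n : ℤ), 𝒞 X → 𝒞 (X⟦n⟧))
    (hcop : ∀ {ι : Type} (_ : Countable ι) (X : ι → DerivedCategory A) (c : Cofan X) (_ : IsColimit c),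
      (∀ i, 𝒞 (X i)) → 𝒞 c.pt)
    (hcone : ∀ T ∈ distTriang (DerivedCategory A), 𝒞 T.obj₁ → 𝒞 T.obj₂ → 𝒞 T.obj₃)
    (hsingle : ∀ X, P X → 𝒞 ((DerivedCategory.singleFunctor A 0).obj X)) (X : DerivedCategory A) : 𝒞 X := by
  have hall : HasColimitsOfSize.{w, w} A := inferInstance
  have hall0 : HasColimitsOfSize.{0, 0} A := hasColimitsOfSizeShrink.{0, 0, w, w} A
  have hN : HasColimitsOfShape (Discrete ℕ) A :=
    hasColimitsOfShape_of_equivalence (Discrete.equivalence (Equiv.ulift.{w, 0} (α := ℕ)))
  have hZ : HasColimitsOfShape (Discrete ℤ) A :=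
    hasColimitsOfShape_of_equivalence (Discrete.equivalence (Equiv.ulift.{w, 0} (α := ℤ)))
  have hNN : HasColimitsOfShape ℕ A := inferInstance
  have h5 : AB5OfSize.{0, 0} A := AB5OfSize_of_univLE.{0, 0, w, w} A
  have hex : HasExactColimitsOfShape ℕ A := AB5OfSize.ofShape ℕ
  have hpn := Groth.Agent.CohtopA.DerProd.preservesColimitsOfShape_discrete_Q.{w', w} A ℕ
  have hpz := Groth.Agent.CohtopA.DerProd.preservesColimitsOfShape_discrete_Q.{w', w} A ℤ
  obtain ⟨N, b, c, -, hc, hQ⟩ := exists_factorization hP (0 : (0 : CochainComplex A ℤ) ⟶ DerivedCategory.Q.objPreimage X)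
  have hiso := (DerivedCategory.isIso_Q_map_iff_quasiIso A c).2 hc
  refine 𝒞.prop_of_iso (asIso (DerivedCategory.Q.map c) ≪≫ DerivedCategory.Q.objObjPreimageIso X) ?_
  refine hQ (fun N => 𝒞 (DerivedCategory.Q.obj N)) ?_ ?_ ?_
  · exact h0 _ (DerivedCategory.Q.map_isZero (isZero_zero _))
  · intro F hF K' φ hK'
    have hzd : 𝒞 (DerivedCategory.Q.obj (zd F)) := by
      let hcol := isColimitCofanMkObjOfIsColimit DerivedCategory.Q _ (zdι F) (isColimitZd F)
      refine hcop inferInstance _ _ hcol fun n => ?_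
      refine 𝒞.prop_of_iso (X := ((DerivedCategory.singleFunctor A 0).obj (F n))⟦-n⟧) ?_ (hsh _ _ (hsingle _ (hF n)))
      exact (((DerivedCategory.singleFunctors A).shiftIso (-n) n 0 (by simp)).app (F n))
    exact hcone _ (DerivedCategory.mappingCone_triangle_distinguished φ) hzd hK'
  · intro S cc hcc hS
    have hcp : HasColimitsOfShape (Discrete ℕ) (DerivedCategory A) :=
      Groth.Agent.CohtopA.DerProd.hasColimitsOfShape_discrete.{w', w} A ℕ
    obtain ⟨c', hT⟩ := Groth.Agent.S0985.result S
    refine 𝒞.prop_of_iso (DerivedCategory.Q.mapIso ((colimit.isColimit S).coconePointUniqueUpToIso hcc)) ?_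
    have h1 : 𝒞 (∐ fun n => DerivedCategory.Q.obj (S.obj n)) :=
      hcop inferInstance _ _ (colimit.isColimit _) hS
    exact hcone _ hT h1 h1

end K779.Loc
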