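import Groth.Agent.DerComp.K779.Away
import Mathlib.CategoryTheory.Limits.Constructions.EventuallyConstant

/-!
# The localisation of an object at a scalar as a sequential colimit
-/

set_option autoImplicit false

universe w v u t v' u'

open CategoryTheory CategoryTheory.Limits Pretriangulated

namespace K779.LocSeq

open Away

variable {R : Type t} [CommRing R] {A : Type u} [Category.{v} A] [Abelian A] [Linear R A]
  [HasCoproductsOfShape ℕ A]

omit [HasCoproductsOfShape ℕ A] in
theorem smul_id_comp (s : R) {F Z : A} (g : F ⟶ Z) : (s • 𝟙 F) ≫ g = s • g := by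
  rw [Linear.smul_comp, Category.id_comp]

/-- `x ↦ x / s^n` -/
noncomputable def locι (s : R) (F : A) (n : ℕ) : F ⟶ loc s F := Sigma.ι (fun _ : ℕ => F) n ≫ cokernel.π (aw s F)

/-- the localisation map -/
noncomputable abbrev toLoc (s : R) (F : A) : F ⟶ loc s F := locι s F 0

theorem locι_eq (s : R) (F : A) (n : ℕ) : locι s F n = s • locι s F (n + 1) := by
  have h : Sigma.ι (fun _ : ℕ => F) n ≫ aw s F ≫ cokernel.π (aw s F) = Sigma.ι (fun _ : ℕ => F) n ≫ 0 := by
    rw [cokernel.condition]
  rw [← Category.assoc, aw, Sigma.ι_desc, Preadditive.sub_comp, comp_zero, sub_eq_zero] at h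
  rw [locι, locι]
  refine Eq.trans h ?_
  rw [Linear.smul_comp, Category.id_comp, Linear.smul_comp]
  rfl

theorem hom_ext_loc (s : R) (F : A) {Z : A} {g g' : loc s F ⟶ Z}
    (h : ∀ n, locι s F n ≫ g = locι s F n ≫ g') : g = g' := by
  rw [← cancel_epi (cokernel.π (aw s F))]
  apply Sigma.hom_ext
  intro n
  rw [← Category.assoc, ← Category.assoc]
  exact h n

/-- morphisms out of the localisation -/
noncomputable def locDesc (s : R) (F : A) {Z : A} (x : ℕ → (F ⟶ Z)) (hx : ∀ n, x n = s • x (n + 1)) : loc s F ⟶ Z :=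
  cokernel.desc _ (Sigma.desc x) (by
    apply Sigma.hom_ext
    intro n
    rw [comp_zero, aw, Sigma.ι_desc_assoc, Preadditive.sub_comp, sub_eq_zero, Sigma.ι_desc,
      Category.assoc, Sigma.ι_desc, hx, Linear.smul_comp, Category.id_comp])

theorem locι_desc (s : R) (F : A) {Z : A} (x : ℕ → (F ⟶ Z)) (hx : ∀ n, x n = s • x (n + 1)) (n : ℕ) :
    locι s F n ≫ locDesc s F x hx = x n := by
  rw [locι, locDesc, Category.assoc, cokernel.π_desc, Sigma.ι_desc]

/-- `s` is invertible on the localisation at `s` -/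
theorem isIso_smul_loc (s : R) (F : A) : IsIso (s • 𝟙 (loc s F)) := by
  rw [isIso_iff_coyoneda_map_bijective]
  intro Z
  have hs : ∀ g : loc s F ⟶ Z, (s • 𝟙 (loc s F)) ≫ g = s • g := by
    intro g
    rw [Linear.smul_comp, Category.id_comp]
  have hx : ∀ (g : loc s F ⟶ Z) (n : ℕ), locι s F n ≫ g = locι s F (n + 1) ≫ (s • g) := by
    intro g n
    rw [locι_eq, Linear.smul_comp, Linear.comp_smul]
  constructor
  · intro g g' hg
    have hg' : s • g = s • g' := by
      rw [← hs g, ← hs g']
      exact hg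
    apply hom_ext_loc
    intro n
    rw [hx g, hx g', hg']
  · intro g
    refine ⟨locDesc s F (fun n => locι s F (n + 1) ≫ g) (fun n => ?_), ?_⟩
    · rw [locι_eq s F (n + 1), Linear.smul_comp]
    · change (s • 𝟙 (loc s F)) ≫ _ = g
      rw [hs]
      apply hom_ext_loc
      intro n
      rw [Linear.comp_smul, locι_desc, ← Linear.smul_comp, ← locι_eq]

omit [HasCoproductsOfShape ℕ A] in
/-- The system `F → F → F → …`. -/
noncomputable def seq (s : R) (F : A) : ℕ ⥤ A := Functor.ofSequence (X := fun _ => F) (fun _ => s • 𝟙 F)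

omit [HasCoproductsOfShape ℕ A] in
theorem seq_map_succ (s : R) (F : A) (n : ℕ) :
    (seq s F).map (homOfLE (Nat.le_succ n)) = s • 𝟙 F :=
  Functor.ofSequence_map_homOfLE_succ _ n

/-- The cocone with point the localisation. -/
noncomputable def locCocone (s : R) (F : A) : Cocone (seq s F) where
  pt := loc s F
  ι := NatTrans.ofSequence (fun n => locι s F n) (by
    intro n
    rw [Functor.const_obj_map]
    have h := seq_map_succ s F n
    exact (congrArg (fun t => t ≫ locι s F (n + 1)) h).trans
      ((smul_id_comp s (locι s F (n + 1))).trans ((locι_eq s F n).symm.trans (Category.comp_id _).symm)))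

/-- the legs of a cocone -/
def leg {s : R} {F : A} (c : Cocone (seq s F)) (n : ℕ) : F ⟶ c.pt := c.ι.app n

omit [HasCoproductsOfShape ℕ A] in
theorem leg_eq {s : R} {F : A} (c : Cocone (seq s F)) (n : ℕ) : leg c n = s • leg c (n + 1) := by
  have h := c.w (homOfLE (Nat.le_succ n))
  have h2 := seq_map_succ s F n
  exact h.symm.trans ((congrArg (fun t => t ≫ leg c (n + 1)) h2).trans (smul_id_comp s (leg c (n + 1))))

/-- The localisation is the sequential colimit. -/
noncomputable def isColimitLocCocone (s : R) (F : A) : IsColimit (locCocone s F) where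
  desc c := locDesc s F (leg c) (leg_eq c)
  fac c n := locι_desc s F (leg c) (leg_eq c) n
  uniq c m hm := by
    apply hom_ext_loc
    intro n
    rw [locι_desc]
    exact hm n

omit [HasCoproductsOfShape ℕ A] in
theorem isIso_seq_map {B : Type u'} [Category.{v'} B] (H : A ⥤ B) (s : R) (F : A) (h : IsIso (H.map (s • 𝟙 F)))
    {i j : ℕ} (f : i ⟶ j) : IsIso ((seq s F ⋙ H).map f) := by
  obtain ⟨k, hk⟩ := Nat.exists_eq_add_of_le (leOfHom f)
  subst hk
  induction k with
  | zero =>
    have : f = 𝟙 i := Subsingleton.elim _ _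
    rw [this]
    exact inferInstanceAs (IsIso ((seq s F ⋙ H).map (𝟙 i)))
  | succ k ih =>
    have h1 : f = homOfLE (Nat.le_add_right i k) ≫ homOfLE (Nat.le_succ (i + k)) := Subsingleton.elim _ _
    have h2 := ih (homOfLE (Nat.le_add_right i k))
    have h3 : IsIso ((seq s F ⋙ H).map (homOfLE (Nat.le_succ (i + k)))) := by
      rw [Functor.comp_map, seq_map_succ]
      exact h
    rw [h1, Functor.map_comp]
    exact IsIso.comp_isIso' h2 h3

/-- if `H(s)` is an isomorphism, then `H(F → F_s)` is an isomorphism. -/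
theorem isIso_map_toLoc {B : Type u'} [Category.{v'} B] (H : A ⥤ B) [PreservesColimitsOfShape ℕ H] (s : R) (F : A)
    (h : IsIso (H.map (s • 𝟙 F))) : IsIso (H.map (toLoc s F)) := by
  have hc : (seq s F ⋙ H).IsEventuallyConstantFrom 0 := fun j f => isIso_seq_map H s F h f
  exact hc.isIso_ι_of_isColimit (isColimitOfPreserves H (isColimitLocCocone s F))

end K779.LocSeq
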