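import Groth.Agent.DerComp.K779.Tri2
import Mathlib.CategoryTheory.Triangulated.Functor

/-!
# Reduction to nilpotent objects

For a natural transformation `u : 𝟭 ⟶ G` of triangulated functors and an object `Z` complete with respect to
`a`, if `Hom(G L, Z) → Hom(L, Z)` is bijective for all `a`-nilpotent `L`, it is bijective for all `L`.
-/

set_option autoImplicit false
set_option linter.unusedSectionVars false

universe t v u

open CategoryTheory CategoryTheory.Limits Pretriangulated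

namespace K779.NilD

open K230.DCSeq Tri

section Alg

variable {R : Type*} [CommRing R] {A B : Type*} [AddCommGroup A] [AddCommGroup B] [Module R A] [Module R B]

theorem injective_of {a : R} (hA : DC a A) (u : A →ₗ[R] B) (h : ∀ x, u x = 0 → ∃ y, x = a • y ∧ u y = 0) :
    Function.Injective u := by
  rw [injective_iff_map_eq_zero]
  intro x hx
  choose! g hg using h
  let s : ℕ → A := fun n => g^[n] x
  have hs : ∀ n, u (s n) = 0 := by
    intro n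
    induction n with
    | zero => exact hx
    | succ n ih =>
      change u (g^[n + 1] x) = 0
      rw [Function.iterate_succ_apply']
      exact (hg _ ih).2
  have hs2 : ∀ n, s n = a • s (n + 1) := by
    intro n
    change g^[n] x = a • g^[n + 1] x
    rw [Function.iterate_succ_apply']
    exact (hg _ (hs n)).1
  exact hA.eq_zero hs2 0

theorem surjective_of {a : R} (hA : DC a A) (hB : DC a B) (u : A →ₗ[R] B) (h : ∀ y, ∃ x y', y = u x + a • y') :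
    Function.Surjective u := by
  intro y
  choose f g hfg using h
  let s : ℕ → B := fun n => g^[n] y
  have hs : ∀ n, s n = u (f (s n)) + a • s (n + 1) := by
    intro n
    change s n = u (f (s n)) + a • g^[n + 1] y
    rw [Function.iterate_succ_apply']
    exact hfg _
  obtain ⟨X, hX⟩ := hA.2 (fun n => f (s n))
  have hX' : ∀ n, X n - a • X (n + 1) = f (s n) := fun n => congrFun hX n
  have h2 : ∀ n, (s n - u (X n)) = a • (s (n + 1) - u (X (n + 1))) := by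
    intro n
    have h3 : u (X n) = u (f (s n)) + a • u (X (n + 1)) := by
      rw [← hX' n, map_sub, map_smul]
      abel
    rw [smul_sub, h3]
    nth_rw 1 [hs n]
    abel
  have h4 := hB.eq_zero h2 0
  exact ⟨X 0, (sub_eq_zero.1 h4).symm⟩

end Alg

variable {R : Type t} [CommRing R] {D : Type u} [Category.{v} D]

section Nilp

variable [Preadditive D] [Linear R D]

/-- A power of `a` kills the object. -/
def Nilp (a : R) (L : D) : Prop := ∃ N : ℕ, a ^ N • 𝟙 L = 0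

theorem Nilp.of_iso {a : R} {L L' : D} (h : Nilp a L) (e : L ≅ L') : Nilp a L' := by
  obtain ⟨N, hN⟩ := h
  refine ⟨N, ?_⟩
  have h2 : a ^ N • 𝟙 L' = e.inv ≫ (a ^ N • 𝟙 L) ≫ e.hom := by
    rw [Linear.smul_comp, Linear.comp_smul, Category.id_comp, e.inv_hom_id]
  rw [h2, hN, zero_comp, comp_zero]

theorem Nilp.map {D' : Type*} [Category* D'] [Preadditive D'] [Linear R D'] (F : D ⥤ D') [F.Additive] [F.Linear R]
    {a : R} {L : D} (h : Nilp a L) : Nilp a (F.obj L) := by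
  obtain ⟨N, hN⟩ := h
  refine ⟨N, ?_⟩
  rw [← F.map_id, ← F.map_smul, hN, F.map_zero]

end Nilp

variable [HasZeroObject D] [HasShift D ℤ] [Preadditive D]
  [∀ n : ℤ, (shiftFunctor D n).Additive] [Pretriangulated D] [Linear R D] [∀ n : ℤ, (shiftFunctor D n).Linear R]

theorem nilp_obj₃ {a : R} {T : Triangle D} (hT : T ∈ distTriang D) (h1 : Nilp a T.obj₁) (h2 : Nilp a T.obj₂) :
    Nilp a T.obj₃ := by
  obtain ⟨N, hN⟩ := h1
  obtain ⟨M, hM⟩ := h2
  have h3 : (a ^ N • 𝟙 T.obj₃) ≫ T.mor₃ = 0 := by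
    have h4 : (a ^ N • 𝟙 T.obj₃) ≫ T.mor₃ = T.mor₃ ≫ (a ^ N • 𝟙 T.obj₁)⟦(1 : ℤ)⟧' := by
      rw [Functor.map_smul, CategoryTheory.Functor.map_id, Linear.smul_comp, Linear.comp_smul, Category.id_comp,
        Category.comp_id]
    rw [h4, hN, Functor.map_zero, comp_zero]
  obtain ⟨g, hg⟩ := Triangle.coyoneda_exact₃ _ hT _ h3
  refine ⟨M + N, ?_⟩
  have h5 : a ^ (M + N) • 𝟙 T.obj₃ = (a ^ N • 𝟙 T.obj₃) ≫ (a ^ M • 𝟙 T.obj₃) := by
    rw [Linear.smul_comp, Linear.comp_smul, Category.id_comp, smul_smul, ← pow_add, add_comm]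
  have h6 : T.mor₂ ≫ (a ^ M • 𝟙 T.obj₃) = (a ^ M • 𝟙 T.obj₂) ≫ T.mor₂ := by
    rw [Linear.smul_comp, Linear.comp_smul, Category.id_comp, Category.comp_id]
  rw [h5, hg, Category.assoc, h6, hM, zero_comp, comp_zero]

theorem nilp_cone {a : R} {L C : D} {i : L ⟶ C} {δ : C ⟶ L⟦(1 : ℤ)⟧}
    (hT : Triangle.mk (a • 𝟙 L) i δ ∈ distTriang D) : Nilp a C := by
  have h3 : (a • 𝟙 C) ≫ δ = 0 := by
    have h4 : (a • 𝟙 C) ≫ δ = δ ≫ (a • 𝟙 L)⟦(1 : ℤ)⟧' := by
      rw [Functor.map_smul, CategoryTheory.Functor.map_id, Linear.smul_comp, Linear.comp_smul, Category.id_comp,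
        Category.comp_id]
    rw [h4]
    exact comp_distTriang_mor_zero₃₁ _ hT
  obtain ⟨g, hg⟩ : ∃ g : C ⟶ L, a • 𝟙 C = g ≫ i := Triangle.coyoneda_exact₃ _ hT _ h3
  refine ⟨2, ?_⟩
  have h5 : a ^ 2 • 𝟙 C = (a • 𝟙 C) ≫ (a • 𝟙 C) := by
    rw [Linear.smul_comp, Linear.comp_smul, Category.id_comp, smul_smul, sq]
  have h6 : i ≫ (a • 𝟙 C) = (a • 𝟙 L) ≫ i := by
    rw [Linear.smul_comp, Linear.comp_smul, Category.id_comp, Category.comp_id]
  have h7 : (a • 𝟙 L) ≫ i = 0 := comp_distTriang_mor_zero₁₂ _ hT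
  have h8 : (a • 𝟙 C) ≫ (a • 𝟙 C) = g ≫ i ≫ (a • 𝟙 C) := by
    nth_rw 1 [hg]
    rw [Category.assoc]
  rw [h5, h8, h6, h7, comp_zero]

section Seq

variable {D' : Type*} [Category* D'] [HasZeroObject D'] [HasShift D' ℤ] [Preadditive D']
  [∀ n : ℤ, (shiftFunctor D' n).Additive] [Pretriangulated D'] [Linear R D']
  (F : D ⥤ D') [F.CommShift ℤ] [F.IsTriangulated] [F.Linear R]
  {a : R} {L C : D} {i : L ⟶ C} {δ : C ⟶ L⟦(1 : ℤ)⟧} (hT : Triangle.mk (a • 𝟙 L) i δ ∈ distTriang D)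

include hT

theorem seq₁ {X : D'} (x : F.obj (L⟦(1 : ℤ)⟧) ⟶ X) (h : F.map δ ≫ x = 0) : ∃ y : F.obj (L⟦(1 : ℤ)⟧) ⟶ X, x = a • y := by
  have hT1 := rot_of_distTriang _ hT
  obtain ⟨y, hy⟩ := Triangle.yoneda_exact₃ _ (F.map_distinguished _ hT1) x h
  have hy' : x = F.map (-((a • 𝟙 L)⟦(1 : ℤ)⟧')) ≫ (F.commShiftIso (1 : ℤ)).hom.app L ≫ y :=
    hy.trans (Category.assoc _ _ _)
  refine ⟨-((F.commShiftIso (1 : ℤ)).hom.app L ≫ y), ?_⟩
  rw [hy', Functor.map_smul, CategoryTheory.Functor.map_id, Functor.map_neg, Functor.map_smul,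
    CategoryTheory.Functor.map_id, Preadditive.neg_comp, Linear.smul_comp, Category.id_comp, smul_neg]

theorem seq₂ {X : D} (x : L⟦(1 : ℤ)⟧ ⟶ X) (h : a • x = 0) : ∃ z : C⟦(1 : ℤ)⟧ ⟶ X, x = i⟦(1 : ℤ)⟧' ≫ z := by
  have hT2 := rot_of_distTriang _ (rot_of_distTriang _ hT)
  have h1 : (-((a • 𝟙 L)⟦(1 : ℤ)⟧')) ≫ x = 0 := by
    rw [Functor.map_smul, CategoryTheory.Functor.map_id, Preadditive.neg_comp, Linear.smul_comp, Category.id_comp, h,
      neg_zero]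
  obtain ⟨y, hy⟩ : ∃ y : C⟦(1 : ℤ)⟧ ⟶ X, x = (-(i⟦(1 : ℤ)⟧')) ≫ y := Triangle.yoneda_exact₃ _ hT2 x h1
  refine ⟨-y, ?_⟩
  rw [hy, Preadditive.neg_comp, Preadditive.comp_neg]

theorem seq₃ {X : D'} (x : F.obj C ⟶ X) (h : F.map i ≫ x = 0) : ∃ y : F.obj (L⟦(1 : ℤ)⟧) ⟶ X, x = F.map δ ≫ y := by
  obtain ⟨y, hy⟩ := Triangle.yoneda_exact₃ _ (F.map_distinguished _ hT) x h
  exact ⟨(F.commShiftIso (1 : ℤ)).hom.app L ≫ y, hy.trans (Category.assoc _ _ _)⟩

theorem comp_i : a • i = 0 := by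
  have h : (a • 𝟙 L) ≫ i = 0 := comp_distTriang_mor_zero₁₂ _ hT
  rwa [Linear.smul_comp, Category.id_comp] at h

theorem comp_iδ : i ≫ δ = 0 := comp_distTriang_mor_zero₂₃ _ hT

end Seq

section Descent

variable {G : D ⥤ D} [G.CommShift ℤ] [G.IsTriangulated] [G.Linear R] (u : 𝟭 D ⟶ G) (Z : D)

/-- precomposition with `u` -/
noncomputable def us (L : D) : (G.obj L ⟶ Z) →ₗ[R] (L ⟶ Z) := Linear.leftComp R Z (u.app L)

theorem us_apply (L : D) (x : G.obj L ⟶ Z) : us (R := R) u Z L x = u.app L ≫ x := rfl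

theorem us_map {L L' : D} (f : L ⟶ L') (x : G.obj L' ⟶ Z) :
    us (R := R) u Z L (G.map f ≫ x) = f ≫ us (R := R) u Z L' x := by
  rw [us_apply, us_apply, ← Category.assoc, ← Category.assoc]
  congr 1
  exact (u.naturality f).symm

/-- The property to be proved. -/
def P (L : D) : Prop := Function.Bijective (fun x : G.obj L ⟶ Z => u.app L ≫ x)

theorem P_of_iso {L L' : D} (e : L ≅ L') (h : P u Z L) : P u Z L' := by
  have h1 : (fun x : G.obj L' ⟶ Z => u.app L' ≫ x) =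
      (fun y : L ⟶ Z => e.inv ≫ y) ∘ (fun x : G.obj L ⟶ Z => u.app L ≫ x) ∘
        (fun x : G.obj L' ⟶ Z => G.map e.hom ≫ x) := by
    funext x
    change u.app L' ≫ x = e.inv ≫ u.app L ≫ G.map e.hom ≫ x
    have h2 := u.naturality e.hom
    have h3 : u.app L ≫ G.map e.hom ≫ x = e.hom ≫ u.app L' ≫ x := by
      rw [← Category.assoc, ← Category.assoc]
      congr 1
      exact h2.symm
    rw [h3, e.inv_hom_id_assoc]
  rw [P, h1]
  exact e.symm.homFromEquiv.symm.bijective.comp (h.comp (G.mapIso e).symm.homFromEquiv.bijective)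

variable {a : R} (hZ : Cpl a Z) (Q : D → Prop)
  (hQs : ∀ (L : D) (m : ℤ), Q L → Q (L⟦m⟧)) (hQc : ∀ T ∈ distTriang D, Q T.obj₁ → Q T.obj₂ → Q T.obj₃)
  (hP : ∀ L, Q L → Nilp a L → P u Z L)

include hZ hQs hQc hP

theorem inj_shift (L : D) (hL : Q L) : Function.Injective (us (R := R) u Z (L⟦(1 : ℤ)⟧)) := by
  obtain ⟨C, i, δ, hT⟩ := distinguished_cocone_triangle (a • 𝟙 L)
  have hC : Q C := hQc _ hT hL hL
  have hC1 : Nilp a C := nilp_cone hT
  refine injective_of (hZ _) _ fun x hx => ?_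
  have h1 : G.map δ ≫ x = 0 := by
    apply (hP C hC hC1).1
    change us (R := R) u Z C (G.map δ ≫ x) = us (R := R) u Z C 0
    rw [us_map, hx, comp_zero, map_zero]
  obtain ⟨y, hy⟩ := seq₁ G hT x h1
  obtain ⟨z, hz⟩ := seq₂ hT (us (R := R) u Z (L⟦(1 : ℤ)⟧) y) (by rw [← map_smul, ← hy, hx])
  obtain ⟨z', hz'⟩ := (hP (C⟦(1 : ℤ)⟧) (hQs C 1 hC) (hC1.map (shiftFunctor D (1 : ℤ)))).2 z
  refine ⟨y - G.map (i⟦(1 : ℤ)⟧') ≫ z', ?_, ?_⟩
  · have h2 : a • (G.map (i⟦(1 : ℤ)⟧') ≫ z') = 0 := by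
      rw [← Linear.smul_comp, ← Functor.map_smul, ← Functor.map_smul, comp_i hT, Functor.map_zero, Functor.map_zero,
        zero_comp]
    rw [smul_sub, h2, sub_zero, hy]
  · have h3 : us (R := R) u Z (C⟦(1 : ℤ)⟧) z' = z := hz'
    rw [map_sub, us_map, h3, hz, sub_self]

theorem inj (L : D) (hL : Q L) : Function.Injective (us (R := R) u Z L) := by
  have h1 := inj_shift u Z hZ Q hQs hQc hP (L⟦(-1 : ℤ)⟧) (hQs L (-1) hL)
  let e : L ≅ L⟦(-1 : ℤ)⟧⟦(1 : ℤ)⟧ := ((shiftFunctorCompIsoId D (-1 : ℤ) 1 (by simp)).app L).symm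
  rw [injective_iff_map_eq_zero] at h1 ⊢
  intro x hx
  have h2 := h1 (G.map e.inv ≫ x) (by rw [us_map, hx, comp_zero])
  rw [← cancel_epi (G.map e.inv), h2, comp_zero]

theorem surj_shift (L : D) (hL : Q L) : Function.Surjective (us (R := R) u Z (L⟦(1 : ℤ)⟧)) := by
  obtain ⟨C, i, δ, hT⟩ := distinguished_cocone_triangle (a • 𝟙 L)
  have hC : Q C := hQc _ hT hL hL
  have hC1 : Nilp a C := nilp_cone hT
  refine surjective_of (hZ _) (hZ _) _ fun y => ?_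
  obtain ⟨z, hz⟩ := (hP C hC hC1).2 (δ ≫ y)
  have hz' : us (R := R) u Z C z = δ ≫ y := hz
  have h1 : G.map i ≫ z = 0 := by
    apply inj u Z hZ Q hQs hQc hP L hL
    rw [us_map, hz', ← Category.assoc, comp_iδ hT, zero_comp, map_zero]
  obtain ⟨x, hx⟩ := seq₃ G hT z h1
  have h2 : δ ≫ (y - us (R := R) u Z (L⟦(1 : ℤ)⟧) x) = 0 := by
    rw [Preadditive.comp_sub, ← us_map, ← hx, hz', sub_self]
  obtain ⟨y', hy'⟩ := seq₁ (𝟭 D) hT (y - us (R := R) u Z (L⟦(1 : ℤ)⟧) x) h2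
  refine ⟨x, y', ?_⟩
  rw [← sub_eq_iff_eq_add']
  exact hy'

/-- **Reduction to nilpotent objects**. -/
theorem descent (L : D) (hL : Q L) : P u Z L := by
  refine P_of_iso u Z ((shiftFunctorCompIsoId D (-1 : ℤ) 1 (by simp)).app L) ?_
  have h1 : Q (L⟦(-1 : ℤ)⟧) := hQs L (-1) hL
  exact ⟨inj u Z hZ Q hQs hQc hP _ (hQs _ 1 h1), surj_shift u Z hZ Q hQs hQc hP _ h1⟩

end Descent

/-- The inductive statement. -/
theorem descent_list {G : D ⥤ D} [G.CommShift ℤ] [G.IsTriangulated] [G.Linear R] (u : 𝟭 D ⟶ G) (Z : D)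
    (l : List R) (hZ : ∀ a ∈ l, Cpl a Z) (Q : D → Prop) (hQs : ∀ (L : D) (m : ℤ), Q L → Q (L⟦m⟧))
    (hQc : ∀ T ∈ distTriang D, Q T.obj₁ → Q T.obj₂ → Q T.obj₃)
    (hP : ∀ L, Q L → (∀ a ∈ l, Nilp a L) → P u Z L) : ∀ L, Q L → P u Z L := by
  induction l generalizing Q with
  | nil => exact fun L hL => hP L hL (by simp)
  | cons a l ih =>
    refine descent u Z (hZ a (by simp)) Q hQs hQc fun L hL ha => ?_
    refine ih (fun b hb => hZ b (by simp [hb])) (fun L => Q L ∧ Nilp a L)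
      (fun L m h => ⟨hQs L m h.1, h.2.map (shiftFunctor D m)⟩)
      (fun T hT h1 h2 => ⟨hQc T hT h1.1 h2.1, nilp_obj₃ hT h1.2 h2.2⟩) (fun L hL hl => ?_) L ⟨hL, ha⟩
    refine hP L hL.1 fun b hb => ?_
    rcases List.mem_cons.1 hb with rfl | hb
    · exact hL.2
    · exact hl b hb

end K779.NilD
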