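import Groth.Agent.Dcoh.DerComp
import Groth.Agent.Dcoh.LeftRes
import Groth.Agent.PerfC.AcyclicBdd
import Mathlib.Algebra.Homology.DerivedCategory.SingleTriangle
import Mathlib.Algebra.Homology.DerivedCategory.FullyFaithful

/-!
# Objects acyclic for a right adjoint functor

`L ⊣ F` an adjunction between abelian categories.  `Acyc F` is the class of objects `X` with
`Ext^{n+1}(X, F I) = 0` for all injective `I`.  It is adapted to `L`.
-/

set_option autoImplicit false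

universe w₁ w₂ v₁ v₂ u₁ u₂

open CategoryTheory CategoryTheory.Limits Pretriangulated

namespace K779.PL

open Groth.Agent.Dcoh.DerAbs Groth.Agent.Dcoh.DerHo Groth.Agent.Dcoh.DerAdj
  Groth.Agent.Dcoh.DerComp Groth.Agent.PerfC.AcyclicBdd

section Tri

variable {D : Type*} [Category* D] [HasZeroObject D] [HasShift D ℤ] [Preadditive D]
  [∀ n : ℤ, (shiftFunctor D n).Additive] [Pretriangulated D]

theorem subsingleton_obj₁ {T : Triangle D} (hT : T ∈ distTriang D) {Z : D} (h2 : Subsingleton (T.obj₂ ⟶ Z))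
    (h3 : Subsingleton (T.obj₃ ⟶ Z⟦(1 : ℤ)⟧)) : Subsingleton (T.obj₁ ⟶ Z) := by
  have key : ∀ g : T.obj₁ ⟶ Z, g = 0 := by
    intro g
    have h : ∃ k : T.obj₂⟦(1 : ℤ)⟧ ⟶ Z⟦(1 : ℤ)⟧, g⟦(1 : ℤ)⟧' = (-T.mor₁⟦(1 : ℤ)⟧') ≫ k :=
      Triangle.yoneda_exact₃ _ (rot_of_distTriang _ hT) (g⟦(1 : ℤ)⟧') (h3.elim _ _)
    obtain ⟨k, hk⟩ := h
    obtain ⟨k', rfl⟩ := (shiftFunctor D (1 : ℤ)).map_surjective k
    apply (shiftFunctor D (1 : ℤ)).map_injective
    rw [hk, h2.elim k' 0, Functor.map_zero, Functor.map_zero, comp_zero]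
  exact ⟨fun a b => by rw [key a, key b]⟩

/-- extension of a morphism along the first morphism of a triangle -/
theorem exists_ext {T : Triangle D} (hT : T ∈ distTriang D) {Z : D} (h3 : Subsingleton (T.obj₃ ⟶ Z⟦(1 : ℤ)⟧))
    (g : T.obj₁ ⟶ Z) : ∃ k : T.obj₂ ⟶ Z, g = T.mor₁ ≫ k := by
  have h : ∃ k : T.obj₂⟦(1 : ℤ)⟧ ⟶ Z⟦(1 : ℤ)⟧, g⟦(1 : ℤ)⟧' = (-T.mor₁⟦(1 : ℤ)⟧') ≫ k :=
    Triangle.yoneda_exact₃ _ (rot_of_distTriang _ hT) (g⟦(1 : ℤ)⟧') (h3.elim _ _)
  obtain ⟨k, hk⟩ := h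
  obtain ⟨k', rfl⟩ := (shiftFunctor D (1 : ℤ)).map_surjective k
  refine ⟨-k', (shiftFunctor D (1 : ℤ)).map_injective ?_⟩
  rw [hk]
  simp

end Tri

variable {A₁ : Type u₁} [Category.{v₁} A₁] [Abelian A₁]
  {A₂ : Type u₂} [Category.{v₂} A₂] [Abelian A₂] [HasDerivedCategory.{w₂} A₂]
  {L : A₂ ⥤ A₁} {F : A₁ ⥤ A₂}

variable (F) in
/-- The class of objects `X` with `Ext^{n+1}(X, F I) = 0` for all injective `I`. -/
def Acyc : ObjectProperty A₂ := fun X => ∀ (I : A₁) [Injective I] (n : ℕ),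
  Subsingleton ((DerivedCategory.singleFunctor A₂ 0).obj X ⟶
    ((DerivedCategory.singleFunctor A₂ 0).obj (F.obj I))⟦((n : ℤ) + 1)⟧)

theorem Acyc.zero (X : A₂) (hX : IsZero X) : Acyc F X := fun _ _ _ =>
  ⟨fun _ _ => ((DerivedCategory.singleFunctor A₂ 0).map_isZero hX).eq_of_src _ _⟩

theorem Acyc.of_iso {X Y : A₂} (e : X ≅ Y) (hX : Acyc F X) : Acyc F Y := fun I _ n =>
  ⟨fun a b => by
    rw [← cancel_epi ((DerivedCategory.singleFunctor A₂ 0).map e.hom)]
    exact (hX I n).elim _ _⟩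

theorem Acyc.biprod {X Y : A₂} (hX : Acyc F X) (hY : Acyc F Y) : Acyc F (X ⊞ Y) := by
  intro I _ n
  have h1 := hX I n
  have h2 := hY I n
  have key : ∀ g : (DerivedCategory.singleFunctor A₂ 0).obj (X ⊞ Y) ⟶
      ((DerivedCategory.singleFunctor A₂ 0).obj (F.obj I))⟦((n : ℤ) + 1)⟧, g = 0 := by
    intro g
    have h3 : (DerivedCategory.singleFunctor A₂ 0).map (𝟙 (X ⊞ Y)) ≫ g = g := by
      rw [CategoryTheory.Functor.map_id, Category.id_comp]
    rw [← h3, ← biprod.total, Functor.map_add, Functor.map_comp, Functor.map_comp, Preadditive.add_comp,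
      Category.assoc, Category.assoc,
      h1.elim ((DerivedCategory.singleFunctor A₂ 0).map biprod.inl ≫ g) 0,
      h2.elim ((DerivedCategory.singleFunctor A₂ 0).map biprod.inr ≫ g) 0, comp_zero, comp_zero, add_zero]
  exact ⟨fun a b => by rw [key a, key b]⟩

theorem Acyc.ker (S : ShortComplex A₂) (hS : S.ShortExact) (h2 : Acyc F S.X₂) (h3 : Acyc F S.X₃) :
    Acyc F S.X₁ := by
  intro I _ n
  refine subsingleton_obj₁ hS.singleTriangle_distinguished (h2 I n) ?_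
  have := h3 I (n + 1)
  have e := (shiftFunctorAdd' (DerivedCategory A₂) ((n : ℤ) + 1) 1 (((n + 1 : ℕ) : ℤ) + 1) (by push_cast; ring)).app
    ((DerivedCategory.singleFunctor A₂ 0).obj (F.obj I))
  exact ⟨fun a b => by
    rw [← cancel_mono e.inv]
    exact this.elim _ _⟩

theorem Acyc.mono [EnoughInjectives A₁] (adj : L ⊣ F) (S : ShortComplex A₂) (hS : S.ShortExact)
    (h3 : Acyc F S.X₃) : Mono (L.map S.f) := by
  let i := Injective.ι (L.obj S.X₁)
  let φ := adj.homEquiv _ _ i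
  have h0 : Subsingleton ((DerivedCategory.singleFunctor A₂ 0).obj S.X₃ ⟶
      ((DerivedCategory.singleFunctor A₂ 0).obj (F.obj (Injective.under (L.obj S.X₁))))⟦(1 : ℤ)⟧) := by
    have := h3 (Injective.under (L.obj S.X₁)) 0
    simpa using this
  obtain ⟨k, hk⟩ := exists_ext hS.singleTriangle_distinguished h0 ((DerivedCategory.singleFunctor A₂ 0).map φ)
  obtain ⟨k', rfl⟩ := (DerivedCategory.singleFunctor A₂ 0).map_surjective k
  have h1 : φ = S.f ≫ k' := by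
    apply (DerivedCategory.singleFunctor A₂ 0).map_injective
    rw [hk, Functor.map_comp]
    rfl
  have h2 : i = L.map S.f ≫ (adj.homEquiv _ _).symm k' := by
    rw [← Adjunction.homEquiv_naturality_left_symm, ← h1, Equiv.symm_apply_apply]
  have h4 : Mono (L.map S.f ≫ (adj.homEquiv _ _).symm k') := by
    rw [← h2]
    infer_instance
  exact mono_of_mono (L.map S.f) ((adj.homEquiv S.X₂ (Injective.under (L.obj S.X₁))).symm k')

theorem Acyc.adapted [L.Additive] [EnoughInjectives A₁] (adj : L ⊣ F) : Adapted L (Acyc F) where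
  zero := Acyc.zero
  ker := Acyc.ker
  mono := Acyc.mono adj

theorem Acyc.goodClass (hen : ∀ X : A₂, ∃ (Y : A₂) (c : Y ⟶ X), Acyc F Y ∧ Epi c) :
    Groth.Agent.Dcoh.LeftRes.GoodClass (Acyc F) where
  enough := hen
  zero := Acyc.zero
  biprod := fun _ _ => Acyc.biprod
  iso := Acyc.of_iso

end K779.PL
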