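import Groth.Agent.DerComp.K779.PL1

/-!
# Bounded above complexes of acyclic objects and morphisms in the derived category

`L ⊣ F` an adjunction.  For `N` a bounded above complex with `F`-acyclic terms (`Acyc F`) and `J` a K-injective
complex, morphisms `N ⟶ F J` in the derived category are computed in the homotopy category.
-/

set_option autoImplicit false

universe w₁ w₂ v₁ v₂ u₁ u₂

open CategoryTheory CategoryTheory.Limits Pretriangulated

namespace K779.PL

open Groth.Agent.Dcoh.DerAbs Groth.Agent.Dcoh.DerHo Groth.Agent.Dcoh.DerAdj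
  Groth.Agent.Dcoh.DerComp Groth.Agent.PerfC.AcyclicBdd

section BP

variable {A : Type u₂} [Category.{v₂} A] [Abelian A] (P : ObjectProperty A)

/-- Bounded above complexes with terms in `P`, up to homotopy. -/
def BP : ObjectProperty (HomotopyCategory A (ComplexShape.up ℤ)) := fun X =>
  ∃ (b : ℤ) (N : CochainComplex A ℤ), (∀ i, b < i → IsZero (N.X i)) ∧ (∀ i, P (N.X i)) ∧
    Nonempty ((HomotopyCategory.quotient _ _).obj N ≅ X)

variable {P}

theorem BP.of_iso {X Y : HomotopyCategory A (ComplexShape.up ℤ)} (hX : BP P X) (e : X ≅ Y) : BP P Y := by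
  obtain ⟨b, N, h1, h2, ⟨i⟩⟩ := hX
  exact ⟨b, N, h1, h2, ⟨i ≪≫ e⟩⟩

theorem BP.shift {X : HomotopyCategory A (ComplexShape.up ℤ)} (hX : BP P X) (n : ℤ) : BP P (X⟦n⟧) := by
  obtain ⟨b, N, h1, h2, ⟨i⟩⟩ := hX
  exact ⟨b - n, N⟦n⟧, fun j hj => h1 (j + n) (by lia), fun j => h2 (j + n),
    ⟨((HomotopyCategory.quotient A (ComplexShape.up ℤ)).commShiftIso n).app N ≪≫
      (CategoryTheory.shiftFunctor _ n).mapIso i⟩⟩

theorem BP.cone (hi : ∀ {X Y : A} (_ : X ≅ Y), P X → P Y) (hb : ∀ X Y : A, P X → P Y → P (X ⊞ Y))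
    (T : Triangle (HomotopyCategory A (ComplexShape.up ℤ))) (hT : T ∈ distTriang _)
    (h₁ : BP P T.obj₁) (h₂ : BP P T.obj₂) : BP P T.obj₃ := by
  obtain ⟨b₁, N₁, h1, h2, ⟨i₁⟩⟩ := h₁
  obtain ⟨b₂, N₂, h3, h4, ⟨i₂⟩⟩ := h₂
  obtain ⟨φ, hφ⟩ := (HomotopyCategory.quotient A (ComplexShape.up ℤ)).map_surjective (i₁.hom ≫ T.mor₁ ≫ i₂.inv)
  have hT' := HomotopyCategory.mappingCone_triangleh_distinguished φ
  let e := Pretriangulated.isoTriangleOfIso₁₂ _ _ hT' hT i₁ i₂ (by
    change (HomotopyCategory.quotient A (ComplexShape.up ℤ)).map φ ≫ i₂.hom = i₁.hom ≫ T.mor₁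
    rw [hφ, Category.assoc, Category.assoc, Iso.inv_hom_id, Category.comp_id])
  have e' : ∀ i : ℤ, (CochainComplex.mappingCone φ).X i ≅ N₁.X (i + 1) ⊞ N₂.X i := fun i =>
    HomologicalComplex.homotopyCofiber.XIsoBiprod φ i (i + 1) (by simp)
  refine ⟨max b₁ b₂, CochainComplex.mappingCone φ, fun i hi' => ?_, fun i => hi (e' i).symm (hb _ _ (h2 _) (h4 _)),
    ⟨Triangle.π₃.mapIso e⟩⟩
  refine IsZero.of_iso ?_ (e' i)
  rw [biprod_isZero_iff]
  exact ⟨h1 _ (by have := le_max_left b₁ b₂; lia), h3 _ (by have := le_max_right b₁ b₂; lia)⟩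

theorem BP.res (hP : Groth.Agent.Dcoh.LeftRes.GoodClass P) {X K : HomotopyCategory A (ComplexShape.up ℤ)}
    (hK : BP P K) (s : X ⟶ K) (hs : qis A s) :
    ∃ (Y : HomotopyCategory A (ComplexShape.up ℤ)) (t : Y ⟶ X), BP P Y ∧ qis A t := by
  obtain ⟨b, N, h1, h2, ⟨i⟩⟩ := hK
  have h3 : CochainComplex.IsLE X.as b := by
    rw [CochainComplex.isLE_iff]
    intro j hj
    rw [HomologicalComplex.exactAt_iff_isZero_homology]
    have h4 : IsZero (N.homology j) := by
      rw [← HomologicalComplex.exactAt_iff_isZero_homology]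
      exact ShortComplex.exact_of_isZero_X₂ _ (h1 j hj)
    have h5 : IsIso ((HomotopyCategory.homologyFunctor A (ComplexShape.up ℤ) j).map s) := hs j
    have e := asIso ((HomotopyCategory.homologyFunctor A (ComplexShape.up ℤ) j).map s) ≪≫
      (HomotopyCategory.homologyFunctor A (ComplexShape.up ℤ) j).mapIso i.symm ≪≫
      (HomotopyCategory.homologyFunctorFactors A (ComplexShape.up ℤ) j).app N
    have e' := (HomotopyCategory.homologyFunctorFactors A (ComplexShape.up ℤ) j).app X.as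
    exact h4.of_iso (e'.symm ≪≫ e)
  obtain ⟨Y, p, h6, h7, h8⟩ := Groth.Agent.Dcoh.LeftRes.exists_resolution_of_isLE hP X.as b
  refine ⟨(HomotopyCategory.quotient _ _).obj Y, (HomotopyCategory.quotient _ _).map p,
    ⟨b, Y, fun j hj => ?_, h7, ⟨Iso.refl _⟩⟩, ?_⟩
  · exact CochainComplex.isZero_of_isStrictlyLE Y b j hj
  · exact (HomotopyCategory.quotient_map_mem_quasiIso_iff _).2 h8

/-- no morphism from acyclic complexes in `BP P` -/
def WInj (P : ObjectProperty A) (J : HomotopyCategory A (ComplexShape.up ℤ)) : Prop :=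
  ∀ (E : HomotopyCategory A (ComplexShape.up ℤ)), BP P E → HomotopyCategory.subcategoryAcyclic A E →
    ∀ f : E ⟶ J, f = 0

theorem qis_iff_of_distTriang {X Y Z : HomotopyCategory A (ComplexShape.up ℤ)} {f : X ⟶ Y}
    {g : Y ⟶ Z} {h : Z ⟶ X⟦(1 : ℤ)⟧} (hT : Triangle.mk f g h ∈ distTriang _) :
    qis A f ↔ HomotopyCategory.subcategoryAcyclic A Z := by
  change HomotopyCategory.quasiIso A (ComplexShape.up ℤ) f ↔ _
  rw [HomotopyCategory.quasiIso_eq_trW_subcategoryAcyclic]
  exact ObjectProperty.trW_iff_of_distinguished _ _ hT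

/-- Precomposition with quasi-isomorphisms in `BP P` is bijective on `Hom(-, J)`. -/
theorem precomp_bijective (hP : Groth.Agent.Dcoh.LeftRes.GoodClass P)
    {J : HomotopyCategory A (ComplexShape.up ℤ)}
    (hJ : WInj P J) {K' K : HomotopyCategory A (ComplexShape.up ℤ)} (s : K' ⟶ K) (hs : qis A s)
    (hK' : BP P K') (hK : BP P K) : Function.Bijective (fun (f : K ⟶ J) ↦ s ≫ f) := by
  obtain ⟨C, g, k, hT⟩ := Pretriangulated.distinguished_cocone_triangle s
  have hC : BP P C := BP.cone hP.iso hP.biprod _ hT hK' hK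
  have hC' : HomotopyCategory.subcategoryAcyclic A C := (qis_iff_of_distTriang hT).1 hs
  have hC1 : ∀ (a : C ⟶ J), a = 0 := hJ _ hC hC'
  have hC2 : ∀ (a : C⟦(-1 : ℤ)⟧ ⟶ J), a = 0 :=
    hJ _ (hC.shift _) ((HomotopyCategory.subcategoryAcyclic A).le_shift (-1) _ hC')
  constructor
  · intro f₁ f₂ hf
    dsimp at hf
    rw [← sub_eq_zero]
    obtain ⟨a, ha⟩ := Triangle.yoneda_exact₂ _ hT (f₁ - f₂) (by
      change s ≫ (f₁ - f₂) = 0
      rw [Preadditive.comp_sub, hf, sub_self])
    change C ⟶ J at a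
    change f₁ - f₂ = g ≫ a at ha
    rw [ha, hC1 a, comp_zero]
  · intro f
    obtain ⟨a, ha⟩ := Triangle.yoneda_exact₂ _ (inv_rot_of_distTriang _ hT) f (hC2 _)
    exact ⟨a, ha.symm⟩

/-- Morphisms in the derived category from bounded above complexes with terms in `P` to weakly injective complexes. -/
theorem map_bijective [HasDerivedCategory.{w₂} A] (hP : Groth.Agent.Dcoh.LeftRes.GoodClass P)
    {J : HomotopyCategory A (ComplexShape.up ℤ)}
    (hJ : WInj P J) {K : HomotopyCategory A (ComplexShape.up ℤ)} (hK : BP P K) :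
    Function.Bijective (DerivedCategory.Qh.map : (K ⟶ J) → _) := by
  constructor
  · intro f₁ f₂ hf
    rw [MorphismProperty.map_eq_iff_precomp DerivedCategory.Qh (qis A)] at hf
    obtain ⟨Z, s, hs, eq⟩ := hf
    obtain ⟨Z', t, hZ', ht⟩ := hK.res hP s hs
    apply (precomp_bijective hP hJ (t ≫ s) ((qis A).comp_mem _ _ ht hs) hZ' hK).1
    dsimp
    rw [Category.assoc, Category.assoc, eq]
  · intro g
    obtain ⟨φ, hφ⟩ := Localization.exists_rightFraction DerivedCategory.Qh (qis A) g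
    obtain ⟨Z', t, hZ', ht⟩ := hK.res hP φ.s φ.hs
    obtain ⟨a, ha⟩ := (precomp_bijective hP hJ (t ≫ φ.s) ((qis A).comp_mem _ _ ht φ.hs) hZ' hK).2
      (t ≫ φ.f)
    refine ⟨a, ?_⟩
    dsimp at ha
    have h1 : IsIso (DerivedCategory.Qh.map t) := Localization.inverts DerivedCategory.Qh (qis A) _ ht
    have h2 : IsIso (DerivedCategory.Qh.map φ.s) :=
      Localization.inverts DerivedCategory.Qh (qis A) _ φ.hs
    rw [hφ, ← cancel_epi (DerivedCategory.Qh.map φ.s), MorphismProperty.RightFraction.map_s_comp_map,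
      ← cancel_epi (DerivedCategory.Qh.map t), ← Functor.map_comp, ← Functor.map_comp,
      ← Category.assoc, ha, Functor.map_comp]

end BP

section Main

variable {A₁ : Type u₁} [Category.{v₁} A₁] [Abelian A₁] [HasDerivedCategory.{w₁} A₁]
  {A₂ : Type u₂} [Category.{v₂} A₂] [Abelian A₂] [HasDerivedCategory.{w₂} A₂]
  {L : A₂ ⥤ A₁} {F : A₁ ⥤ A₂} [L.Additive] [F.Additive] (adj : L ⊣ F)

omit [HasDerivedCategory.{w₁} A₁] in
include adj in
theorem wInj_map [EnoughInjectives A₁] (J : HomotopyCategory A₁ (ComplexShape.up ℤ)) (hJ : kInj A₁ J) :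
    WInj (Acyc F) ((F.mapHomotopyCategory (ComplexShape.up ℤ)).obj J) := by
  have hL : PreservesFiniteColimits L := by
    have := adj.leftAdjoint_preservesColimits
    infer_instance
  rintro E ⟨b, N, h1, h2, ⟨i⟩⟩ hE f
  have hN : N.Acyclic := by
    rw [← HomotopyCategory.quotient_obj_mem_subcategoryAcyclic_iff_acyclic]
    exact ObjectProperty.prop_of_iso _ i.symm hE
  have h3 := (Acyc.adapted adj).acyclic_map N b h1 h2 hN
  rw [← HomotopyCategory.quotient_obj_mem_subcategoryAcyclic_iff_acyclic] at h3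
  let a := adjHo adj (ComplexShape.up ℤ)
  rw [← cancel_epi i.hom, comp_zero]
  have h4 : (a.homEquiv _ _).symm (i.hom ≫ f) = 0 := hJ _ h3
  have h5 : i.hom ≫ f = (a.homEquiv _ _) 0 := by
    rw [← h4, Equiv.apply_symm_apply]
  rw [h5, Adjunction.homEquiv_unit, Functor.map_zero, comp_zero]

variable (RF : DerivedCategory A₁ ⥤ DerivedCategory A₂)
  (β : F.mapHomotopyCategory (ComplexShape.up ℤ) ⋙ DerivedCategory.Qh ⟶ DerivedCategory.Qh ⋙ RF)

/-- The comparison morphism `K ⟶ RF (L K)`. -/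
noncomputable def eta (K : HomotopyCategory A₂ (ComplexShape.up ℤ)) :
    DerivedCategory.Qh.obj K ⟶
      RF.obj (DerivedCategory.Qh.obj ((L.mapHomotopyCategory (ComplexShape.up ℤ)).obj K)) :=
  DerivedCategory.Qh.map ((adjHo adj (ComplexShape.up ℤ)).unit.app K) ≫
    β.app ((L.mapHomotopyCategory (ComplexShape.up ℤ)).obj K)

theorem eta_naturality {K K' : HomotopyCategory A₂ (ComplexShape.up ℤ)} (g : K ⟶ K') :
    DerivedCategory.Qh.map g ≫ eta adj RF β K' =
      eta adj RF β K ≫ RF.map (DerivedCategory.Qh.map ((L.mapHomotopyCategory (ComplexShape.up ℤ)).map g)) := by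
  have h1 := (adjHo adj (ComplexShape.up ℤ)).unit.naturality g
  have h2 := β.naturality ((L.mapHomotopyCategory (ComplexShape.up ℤ)).map g)
  dsimp only [Functor.comp_map, Functor.id_map] at h1 h2
  rw [eta, eta, Category.assoc, ← h2, ← Functor.map_comp_assoc, h1, Functor.map_comp_assoc]

theorem eta_map {K : HomotopyCategory A₂ (ComplexShape.up ℤ)} {J : HomotopyCategory A₁ (ComplexShape.up ℤ)}
    (g : (L.mapHomotopyCategory (ComplexShape.up ℤ)).obj K ⟶ J) :
    eta adj RF β K ≫ RF.map (DerivedCategory.Qh.map g) =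
      DerivedCategory.Qh.map (((adjHo adj (ComplexShape.up ℤ)).homEquiv K J) g) ≫ β.app J := by
  have h2 := β.naturality g
  dsimp only [Functor.comp_map] at h2
  rw [eta, Category.assoc, ← h2, Adjunction.homEquiv_unit, Functor.map_comp_assoc]

theorem eta_bijective [EnoughInjectives A₁] (hA : HasKInj A₁)
    (hP : Groth.Agent.Dcoh.LeftRes.GoodClass (Acyc F))
    (hβ : ∀ J : CochainComplex A₁ ℤ, J.IsKInjective → IsIso (β.app ((HomotopyCategory.quotient _ _).obj J)))
    (K : HomotopyCategory A₂ (ComplexShape.up ℤ)) (hK : BP (Acyc F) K) (X : DerivedCategory A₁) :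
    Function.Bijective (fun x : DerivedCategory.Qh.obj ((L.mapHomotopyCategory (ComplexShape.up ℤ)).obj K) ⟶ X =>
      eta adj RF β K ≫ RF.map x) := by
  obtain ⟨J, hJ, ⟨e⟩⟩ : ∃ J : CochainComplex A₁ ℤ, J.IsKInjective ∧
      Nonempty (X ≅ DerivedCategory.Qh.obj ((HomotopyCategory.quotient _ _).obj J)) := by
    obtain ⟨J, i, h1, h2⟩ := hA (DerivedCategory.Q.objPreimage X)
    have := (DerivedCategory.isIso_Q_map_iff_quasiIso A₁ i).2 h2
    exact ⟨J, h1, ⟨(DerivedCategory.Q.objObjPreimageIso X).symm ≪≫ asIso (DerivedCategory.Q.map i) ≪≫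
      ((DerivedCategory.quotientCompQhIso A₁).app J).symm⟩⟩
  have hb := hβ J hJ
  have h3 : Function.Bijective (fun g : (L.mapHomotopyCategory (ComplexShape.up ℤ)).obj K ⟶
      (HomotopyCategory.quotient _ _).obj J => (DerivedCategory.Qh.map g : _ ⟶ _)) :=
    CochainComplex.IsKInjective.Qh_map_bijective _ J
  have h4 := map_bijective hP (wInj_map adj _ (kInj_quotient_obj J hJ)) hK
  have h5 : (fun x => eta adj RF β K ≫ RF.map x) ∘ (fun g : (L.mapHomotopyCategory (ComplexShape.up ℤ)).obj K ⟶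
      (HomotopyCategory.quotient _ _).obj J => DerivedCategory.Qh.map g) =
      (fun y => y ≫ β.app ((HomotopyCategory.quotient _ _).obj J)) ∘ (fun g => DerivedCategory.Qh.map g) ∘
        ((adjHo adj (ComplexShape.up ℤ)).homEquiv K ((HomotopyCategory.quotient _ _).obj J)) := by
    funext g
    exact eta_map adj RF β g
  have h6 : Function.Bijective (fun y : DerivedCategory.Qh.obj K ⟶ DerivedCategory.Qh.obj
      ((F.mapHomotopyCategory (ComplexShape.up ℤ)).obj ((HomotopyCategory.quotient _ _).obj J)) =>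
      y ≫ β.app ((HomotopyCategory.quotient _ _).obj J)) := by
    constructor
    · intro a b hab
      exact (cancel_mono (β.app ((HomotopyCategory.quotient _ _).obj J))).1 hab
    · intro y
      refine ⟨y ≫ inv (β.app ((HomotopyCategory.quotient _ _).obj J)), ?_⟩
      simp
  have h7 : Function.Bijective (fun x : DerivedCategory.Qh.obj
      ((L.mapHomotopyCategory (ComplexShape.up ℤ)).obj K) ⟶
      DerivedCategory.Qh.obj ((HomotopyCategory.quotient _ _).obj J) => eta adj RF β K ≫ RF.map x) := by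
    rw [← Function.Bijective.of_comp_iff _ h3, h5]
    exact h6.comp (h4.comp ((adjHo adj (ComplexShape.up ℤ)).homEquiv K _).bijective)
  have h8 : (fun y : DerivedCategory.Qh.obj K ⟶ RF.obj X => y ≫ RF.map e.hom) ∘
      (fun x : DerivedCategory.Qh.obj ((L.mapHomotopyCategory (ComplexShape.up ℤ)).obj K) ⟶ X =>
        eta adj RF β K ≫ RF.map x) =
      (fun x => eta adj RF β K ≫ RF.map x) ∘ (fun x => x ≫ e.hom) := by
    funext x
    simp
  have h9 : Function.Bijective (fun y : DerivedCategory.Qh.obj K ⟶ RF.obj X => y ≫ RF.map e.hom) := by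
    constructor
    · intro a b hab
      exact (cancel_mono (RF.map e.hom)).1 hab
    · intro y
      refine ⟨y ≫ RF.map e.inv, ?_⟩
      simp [← Functor.map_comp]
  have h10 : Function.Bijective (fun x : DerivedCategory.Qh.obj
      ((L.mapHomotopyCategory (ComplexShape.up ℤ)).obj K) ⟶ X => x ≫ e.hom) := by
    constructor
    · intro a b hab
      exact (cancel_mono e.hom).1 hab
    · intro y
      refine ⟨y ≫ e.inv, ?_⟩
      simp
  rw [← Function.Bijective.of_comp_iff' h9, h8]
  exact h7.comp h10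

end Main

end K779.PL
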