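import Groth.Agent.DerComp.K779.PL2

/-!
# Values of the partial left adjoint of `RF` on acyclic objects

`eta1 : X[0] ⟶ RF ((L X)[0])` and `eqN : Hom((L X)[0], K⟦n⟧) ≃+ Hom(X[0], (RF K)⟦n⟧)` for `X` in `Acyc F`.
-/

set_option autoImplicit false

universe w₁ w₂ v₁ v₂ u₁ u₂

open CategoryTheory CategoryTheory.Limits Pretriangulated

namespace K779.PL

open Groth.Agent.Dcoh.DerAbs Groth.Agent.Dcoh.DerHo Groth.Agent.Dcoh.DerAdj
  Groth.Agent.Dcoh.DerComp Groth.Agent.PerfC.AcyclicBdd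

variable {A₁ : Type u₁} [Category.{v₁} A₁] [Abelian A₁] [HasDerivedCategory.{w₁} A₁]
  {A₂ : Type u₂} [Category.{v₂} A₂] [Abelian A₂] [HasDerivedCategory.{w₂} A₂]
  {L : A₂ ⥤ A₁} {F : A₁ ⥤ A₂} [L.Additive] [F.Additive] (adj : L ⊣ F)
  (RF : DerivedCategory A₁ ⥤ DerivedCategory A₂)
  (β : F.mapHomotopyCategory (ComplexShape.up ℤ) ⋙ DerivedCategory.Qh ⟶ DerivedCategory.Qh ⋙ RF)

omit [HasDerivedCategory.{w₁} A₁] [HasDerivedCategory.{w₂} A₂] in
theorem bp_single {P : ObjectProperty A₂} (h0 : ∀ X : A₂, IsZero X → P X) (hi : ∀ {X Y : A₂} (_ : X ≅ Y), P X → P Y)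
    (X : A₂) (hX : P X) : BP P ((HomotopyCategory.singleFunctor A₂ 0).obj X) := by
  refine ⟨0, (CochainComplex.singleFunctor A₂ 0).obj X, fun i hi' => ?_, fun i => ?_, ⟨Iso.refl _⟩⟩
  · exact HomologicalComplex.isZero_single_obj_X (ComplexShape.up ℤ) 0 X i hi'.ne'
  · by_cases h : i = 0
    · subst h
      exact hi (HomologicalComplex.singleObjXSelf (ComplexShape.up ℤ) 0 X).symm hX
    · exact h0 _ (HomologicalComplex.isZero_single_obj_X (ComplexShape.up ℤ) 0 X i h)

/-- `L (X[0]) ≅ (L X)[0]` in the homotopy category. -/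
noncomputable def sL (L : A₂ ⥤ A₁) [L.Additive] (X : A₂) :
    (L.mapHomotopyCategory (ComplexShape.up ℤ)).obj ((HomotopyCategory.singleFunctor A₂ 0).obj X) ≅
      (HomotopyCategory.singleFunctor A₁ 0).obj (L.obj X) :=
  (HomotopyCategory.quotient A₁ (ComplexShape.up ℤ)).mapIso ((L.mapCochainComplexSingleFunctor 0).app X)

omit [HasDerivedCategory.{w₁} A₁] [HasDerivedCategory.{w₂} A₂] in
theorem sL_naturality {X Y : A₂} (a : X ⟶ Y) :
    (L.mapHomotopyCategory (ComplexShape.up ℤ)).map ((HomotopyCategory.singleFunctor A₂ 0).map a) ≫ (sL L Y).hom =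
      (sL L X).hom ≫ (HomotopyCategory.singleFunctor A₁ 0).map (L.map a) := by
  have h := (L.mapCochainComplexSingleFunctor 0).hom.naturality a
  exact ((HomotopyCategory.quotient A₁ (ComplexShape.up ℤ)).map_comp _ _).symm.trans
    ((congrArg (HomotopyCategory.quotient A₁ (ComplexShape.up ℤ)).map h).trans
      ((HomotopyCategory.quotient A₁ (ComplexShape.up ℤ)).map_comp _ _))

/-- `Qh (L (X[0])) ≅ (L X)[0]`. -/
noncomputable def qsL (L : A₂ ⥤ A₁) [L.Additive] (X : A₂) :
    DerivedCategory.Qh.obj ((L.mapHomotopyCategory (ComplexShape.up ℤ)).obj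
      ((HomotopyCategory.singleFunctor A₂ 0).obj X)) ≅ (DerivedCategory.singleFunctor A₁ 0).obj (L.obj X) :=
  DerivedCategory.Qh.mapIso (sL L X)

omit [HasDerivedCategory.{w₂} A₂] in
theorem qsL_naturality {X Y : A₂} (a : X ⟶ Y) :
    DerivedCategory.Qh.map ((L.mapHomotopyCategory (ComplexShape.up ℤ)).map
      ((HomotopyCategory.singleFunctor A₂ 0).map a)) ≫ (qsL L Y).hom =
      (qsL L X).hom ≫ (DerivedCategory.singleFunctor A₁ 0).map (L.map a) :=
  (DerivedCategory.Qh.map_comp _ _).symm.trans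
    ((congrArg DerivedCategory.Qh.map (sL_naturality (L := L) a)).trans (DerivedCategory.Qh.map_comp _ _))

/-- `eta` on single complexes. -/
noncomputable def etaS (X : A₂) : (DerivedCategory.singleFunctor A₂ 0).obj X ⟶
    RF.obj (DerivedCategory.Qh.obj ((L.mapHomotopyCategory (ComplexShape.up ℤ)).obj
      ((HomotopyCategory.singleFunctor A₂ 0).obj X))) :=
  eta adj RF β ((HomotopyCategory.singleFunctor A₂ 0).obj X)

theorem etaS_naturality {X Y : A₂} (a : X ⟶ Y) :
    (DerivedCategory.singleFunctor A₂ 0).map a ≫ etaS adj RF β Y =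
      etaS adj RF β X ≫ RF.map (DerivedCategory.Qh.map ((L.mapHomotopyCategory (ComplexShape.up ℤ)).map
      ((HomotopyCategory.singleFunctor A₂ 0).map a))) :=
  eta_naturality adj RF β ((HomotopyCategory.singleFunctor A₂ 0).map a)

/-- The comparison morphism `X[0] ⟶ RF ((L X)[0])`. -/
noncomputable def eta1 (X : A₂) : (DerivedCategory.singleFunctor A₂ 0).obj X ⟶
    RF.obj ((DerivedCategory.singleFunctor A₁ 0).obj (L.obj X)) :=
  etaS adj RF β X ≫ RF.map (qsL L X).hom

theorem eta1_naturality {X Y : A₂} (a : X ⟶ Y) :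
    (DerivedCategory.singleFunctor A₂ 0).map a ≫ eta1 adj RF β Y =
      eta1 adj RF β X ≫ RF.map ((DerivedCategory.singleFunctor A₁ 0).map (L.map a)) := by
  rw [eta1, eta1, ← Category.assoc, etaS_naturality, Category.assoc, Category.assoc, ← RF.map_comp,
    ← RF.map_comp, qsL_naturality]

variable [EnoughInjectives A₁] (hA : HasKInj A₁)
    (hen : ∀ X : A₂, ∃ (Y : A₂) (c : Y ⟶ X), Acyc F Y ∧ Epi c)
    (hβ : ∀ J : CochainComplex A₁ ℤ, J.IsKInjective → IsIso (β.app ((HomotopyCategory.quotient _ _).obj J)))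

include hA hen hβ

theorem eta1_bijective (X : A₂) (hX : Acyc F X) (K : DerivedCategory A₁) :
    Function.Bijective (fun x : (DerivedCategory.singleFunctor A₁ 0).obj (L.obj X) ⟶ K =>
      eta1 adj RF β X ≫ RF.map x) := by
  have h1 := eta_bijective adj RF β hA (Acyc.goodClass hen) hβ _ (bp_single Acyc.zero Acyc.of_iso X hX) K
  have h2 : Function.Bijective (fun x : (DerivedCategory.singleFunctor A₁ 0).obj (L.obj X) ⟶ K =>
      (qsL L X).hom ≫ x) := by
    constructor
    · intro a b hab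
      exact (cancel_epi (qsL L X).hom).1 hab
    · intro y
      exact ⟨(qsL L X).inv ≫ y, Iso.hom_inv_id_assoc _ _⟩
  have h3 : (fun x : (DerivedCategory.singleFunctor A₁ 0).obj (L.obj X) ⟶ K => eta1 adj RF β X ≫ RF.map x) =
      (fun x => etaS adj RF β X ≫ RF.map x) ∘ (fun x => (qsL L X).hom ≫ x) := by
    funext x
    change eta1 adj RF β X ≫ RF.map x = etaS adj RF β X ≫ RF.map ((qsL L X).hom ≫ x)
    rw [eta1, Category.assoc, ← RF.map_comp]
  rw [h3]
  exact h1.comp h2

variable [RF.Additive] [RF.CommShift ℤ]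

/-- `Hom((L X)[0], K⟦n⟧) ≃+ Hom(X[0], (RF K)⟦n⟧)`. -/
noncomputable def eqN (X : A₂) (hX : Acyc F X) (K : DerivedCategory A₁) (n : ℤ) :
    ((DerivedCategory.singleFunctor A₁ 0).obj (L.obj X) ⟶ K⟦n⟧) ≃+
      ((DerivedCategory.singleFunctor A₂ 0).obj X ⟶ (RF.obj K)⟦n⟧) :=
  AddEquiv.ofBijective
    ({ toFun := fun x => (eta1 adj RF β X ≫ RF.map x) ≫ (RF.commShiftIso n).hom.app K
       map_zero' := by rw [RF.map_zero, comp_zero, zero_comp]
       map_add' := fun x y => by rw [RF.map_add, Preadditive.comp_add, Preadditive.add_comp] } :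
      ((DerivedCategory.singleFunctor A₁ 0).obj (L.obj X) ⟶ K⟦n⟧) →+
        ((DerivedCategory.singleFunctor A₂ 0).obj X ⟶ (RF.obj K)⟦n⟧))
    (by
      have h1 := eta1_bijective adj RF β hA hen hβ X hX (K⟦n⟧)
      have h2 : Function.Bijective (fun y : (DerivedCategory.singleFunctor A₂ 0).obj X ⟶ RF.obj (K⟦n⟧) =>
          y ≫ (RF.commShiftIso n).hom.app K) := by
        constructor
        · intro a b hab
          exact (cancel_mono ((RF.commShiftIso n).hom.app K)).1 hab
        · intro y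
          refine ⟨y ≫ (RF.commShiftIso n).inv.app K, ?_⟩
          change (y ≫ (RF.commShiftIso n).inv.app K) ≫ (RF.commShiftIso n).hom.app K = y
          rw [Category.assoc, Iso.inv_hom_id_app]
          exact Category.comp_id _
      exact h2.comp h1)

theorem eqN_apply (X : A₂) (hX : Acyc F X) (K : DerivedCategory A₁) (n : ℤ)
    (x : (DerivedCategory.singleFunctor A₁ 0).obj (L.obj X) ⟶ K⟦n⟧) :
    eqN adj RF β hA hen hβ X hX K n x = (eta1 adj RF β X ≫ RF.map x) ≫ (RF.commShiftIso n).hom.app K := rfl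

theorem eqN_naturality {X Y : A₂} (hX : Acyc F X) (hY : Acyc F Y) (a : X ⟶ Y) (K : DerivedCategory A₁) (n : ℤ)
    (x : (DerivedCategory.singleFunctor A₁ 0).obj (L.obj Y) ⟶ K⟦n⟧) :
    eqN adj RF β hA hen hβ X hX K n ((DerivedCategory.singleFunctor A₁ 0).map (L.map a) ≫ x) =
      (DerivedCategory.singleFunctor A₂ 0).map a ≫ eqN adj RF β hA hen hβ Y hY K n x := by
  rw [eqN_apply, eqN_apply, RF.map_comp, ← Category.assoc, ← Category.assoc, ← Category.assoc,
    eta1_naturality]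

theorem eqN_comp (X : A₂) (hX : Acyc F X) {K K' : DerivedCategory A₁} (φ : K ⟶ K') (n : ℤ)
    (x : (DerivedCategory.singleFunctor A₁ 0).obj (L.obj X) ⟶ K⟦n⟧) :
    eqN adj RF β hA hen hβ X hX K' n (x ≫ φ⟦n⟧') =
      eqN adj RF β hA hen hβ X hX K n x ≫ (RF.map φ)⟦n⟧' := by
  have h := (RF.commShiftIso n).hom.naturality φ
  rw [eqN_apply, eqN_apply, RF.map_comp, Category.assoc, Category.assoc, Category.assoc, Category.assoc]
  congr 2

end K779.PL
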