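import Groth.Agent.DerComp.K779.Push
import Groth.Agent.DerComp.K779.Loc
import Groth.Agent.DerComp.K779.Corep
import Groth.Agent.DerComp.K779.Compl
import Mathlib.CategoryTheory.Adjunction.Restrict

/-!
# `Rf_*` has a left adjoint on unbounded derived categories of modules, and on derived complete objects
-/

set_option autoImplicit false

universe u

open CategoryTheory CategoryTheory.Limits Opposite Pretriangulated ZeroObject

attribute [local instance] HasDerivedCategory.standard

namespace K779.PushAdj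

open Push PL Corep

variable {C : Type u} [SmallCategory C] {J : GrothendieckTopology C} {O_C : Sheaf J CommRingCat.{u}}
    {D : Type u} [SmallCategory D] {K : GrothendieckTopology D} {O_D : Sheaf K CommRingCat.{u}}
    (f : ModSite.RMor O_C O_D)

section Gen

variable {F : ModSite.Mod O_C ⥤ ModSite.Mod O_D} [F.Additive] (adj : f.pull ⊣ F)
  (RF : DerivedCategory (ModSite.Mod O_C) ⥤ DerivedCategory (ModSite.Mod O_D))
  (β : F.mapHomotopyCategory (ComplexShape.up ℤ) ⋙ DerivedCategory.Qh ⟶ DerivedCategory.Qh ⋙ RF)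
  (hF : ∀ V : D, Acyc F (ModSite.freeOn O_D V))
  (hβ : ∀ J : CochainComplex (ModSite.Mod O_C) ℤ, J.IsKInjective →
    IsIso (β.app ((HomotopyCategory.quotient _ _).obj J)))
  [RF.CommShift ℤ] [RF.IsTriangulated]

include adj β hF hβ in
theorem isRightAdjoint_gen : RF.IsRightAdjoint := by
  apply isRightAdjoint_of_corep
  have h1 := K578.Der.isGrothendieckAbelian O_D
  have h2 := K578.Der.isGrothendieckAbelian O_C
  have h3 := enoughInj (O_C := O_C)
  have hcc : ∀ {ι : Type} (_ : Countable ι),
      HasColimitsOfShape (Discrete ι) (DerivedCategory (ModSite.Mod O_C)) := by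
    intro ι _
    have : HasColimitsOfShape (Discrete ι) (ModSite.Mod O_C) :=
      hasColimitsOfShape_of_equivalence (Discrete.equivalence (Equiv.ulift.{u, 0} (α := ι)))
    exact Groth.Agent.CohtopA.DerProd.hasColimitsOfShape_discrete.{u + 1, u} (ModSite.Mod O_C) ι
  refine Loc.loc_induction.{u + 1, u} (Acyc F) (exists_epi hF) (Corep RF) ?_ ?_ ?_ ?_ ?_
  · intro Z hZ
    refine ⟨0, 0, fun X => ⟨fun a b _ => (isZero_zero _).eq_of_src _ _, fun y => ⟨0, hZ.eq_of_src _ _⟩⟩⟩
  · intro X n hX
    exact corep_shift RF X n hX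
  · intro ι hι X c hc h
    have := hcc hι
    exact corep_cofan RF X c hc h
  · intro T hT
    exact corep_cone RF T hT
  · intro X hX
    exact ⟨_, eta1 adj RF β X, eta1_bijective adj RF β (K578.Der.hasKInj O_C) (exists_epi hF) hβ X hX⟩

end Gen

variable [SiteCmp.HasRpushD f]

/-- `Rf_*` has a left adjoint. -/
theorem isRightAdjoint_rpush : (SiteCmp.RpushD f).IsRightAdjoint := by
  let _ := K578.Der.rpushCommShift f
  have := K578.Der.rpush_isTriangulated f
  exact isRightAdjoint_gen f f.adj (SiteCmp.RpushD f) (K578.Der.rpushUnit f) (acyc_freeOn f)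
    (K578.Der.isIso_rpushUnit_app f)

/-- `Rf_*` between the categories of derived complete objects has a left adjoint. -/
theorem isRightAdjoint_lift (I : DerComp.IdealSh O_D) (I' : DerComp.IdealSh O_C)
    (h : ∀ M : DerivedCategory (ModSite.Mod O_C), DerComp.IsDerComp O_C I' M →
      DerComp.IsDerComp O_D I ((SiteCmp.RpushD f).obj M)) :
    ((DerComp.IsDerComp O_D I).lift ((DerComp.IsDerComp O_C I').ι ⋙ SiteCmp.RpushD f)
      (fun M => h M.obj M.property)).IsRightAdjoint := by
  have h1 : (DerComp.IsDerComp O_C I').ι.IsRightAdjoint := Compl.hasDerCompletion O_C I'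
  have h2 := isRightAdjoint_rpush f
  have h3 : ((DerComp.IsDerComp O_C I').ι ⋙ SiteCmp.RpushD f).IsRightAdjoint := inferInstance
  let adj := Adjunction.ofIsRightAdjoint ((DerComp.IsDerComp O_C I').ι ⋙ SiteCmp.RpushD f)
  exact (Adjunction.restrictFullyFaithful (iC := (DerComp.IsDerComp O_D I).ι)
    (iD := 𝟭 (DerComp.IsDerComp O_C I').FullSubcategory) adj
    (ObjectProperty.fullyFaithfulι _) (Functor.FullyFaithful.id _)
    (L := (DerComp.IsDerComp O_D I).ι ⋙ ((DerComp.IsDerComp O_C I').ι ⋙ SiteCmp.RpushD f).leftAdjoint)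
    (Iso.refl _) (Iso.refl _)).isRightAdjoint

end K779.PushAdj
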