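import Groth.Agent.DerComp.K779.CMap

/-!
# Locality of torsion objects; torsion objects and objects built from divisible objects
-/

set_option autoImplicit false

universe u

open CategoryTheory CategoryTheory.Limits Opposite Pretriangulated

attribute [local instance] HasDerivedCategory.standard

namespace K779.TorsLoc

open HU Tri Gen Local _root_.K779.Trans _root_.K779.Compl

section Abs

variable {D : Type*} [Category* D] [HasZeroObject D] [Preadditive D] [HasShift D ℤ]
  [∀ n : ℤ, (shiftFunctor D n).Additive] [Pretriangulated D]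

/-- two out of three for vanishing of morphisms to shifts of `Z` -/
theorem orth_obj₃ {T : Triangle D} (hT : T ∈ distTriang D) {Z : D}
    (h1 : ∀ n : ℤ, Subsingleton (T.obj₁ ⟶ Z⟦n⟧)) (h2 : ∀ n : ℤ, Subsingleton (T.obj₂ ⟶ Z⟦n⟧)) (n : ℤ) :
    Subsingleton (T.obj₃ ⟶ Z⟦n⟧) := by
  refine ⟨fun a b => ?_⟩
  rw [← sub_eq_zero]
  obtain ⟨c, hc⟩ := Triangle.yoneda_exact₃ _ hT (a - b) ((h2 n).elim _ _)
  have h3 : ∀ c : T.obj₁⟦(1 : ℤ)⟧ ⟶ Z⟦n⟧, c = 0 := by
    intro c
    apply (shiftFunctor D (-1 : ℤ)).map_injective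
    rw [← cancel_epi ((shiftFunctorCompIsoId D (1 : ℤ) (-1) (by simp)).inv.app T.obj₁),
      ← cancel_mono ((shiftFunctorAdd' D n (-1) (n + -1) rfl).inv.app Z)]
    exact (h1 (n + -1)).elim _ _
  rw [hc, h3 c, comp_zero]

theorem orth_obj₂ {T : Triangle D} (hT : T ∈ distTriang D) {Z : D}
    (h1 : ∀ n : ℤ, Subsingleton (T.obj₁ ⟶ Z⟦n⟧)) (h3 : ∀ n : ℤ, Subsingleton (T.obj₃ ⟶ Z⟦n⟧)) (n : ℤ) :
    Subsingleton (T.obj₂ ⟶ Z⟦n⟧) := by
  refine ⟨fun a b => ?_⟩
  rw [← sub_eq_zero]
  obtain ⟨c, hc⟩ := Triangle.yoneda_exact₂ _ hT (a - b) ((h1 n).elim _ _)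
  rw [hc, (h3 n).elim c 0, comp_zero]

end Abs

variable {C : Type u} [SmallCategory C] {J : GrothendieckTopology C} {O : Sheaf J CommRingCat.{u}}

/-- Restriction preserves derived complete objects. -/
theorem isDerComp_restr (I : DerComp.IdealSh O) (K : DerivedCategory (ModSite.Mod O))
    (hK : DerComp.IsDerComp O I K) (V : C) :
    DerComp.IsDerComp (O.over V) (I.over V) ((restrD O V).obj K) := by
  rw [isDerComp_iff_hc] at hK ⊢
  intro W f hf n
  exact (hc_restr_iff O K V W f n).2 (hK W.left f hf n)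

theorem tors_obj₃ (I : DerComp.IdealSh O) {T : Triangle (DerivedCategory (ModSite.Mod O))} (hT : T ∈ distTriang _)
    (h1 : Tors O I T.obj₁) (h2 : Tors O I T.obj₂) : Tors O I T.obj₃ :=
  fun Z hZ => orth_obj₃ hT (h1 Z hZ) (h2 Z hZ)

theorem tors_obj₂ (I : DerComp.IdealSh O) {T : Triangle (DerivedCategory (ModSite.Mod O))} (hT : T ∈ distTriang _)
    (h1 : Tors O I T.obj₁) (h3 : Tors O I T.obj₃) : Tors O I T.obj₂ :=
  fun Z hZ => orth_obj₂ hT (h1 Z hZ) (h3 Z hZ)

/-- An object which is both torsion and complete vanishes. -/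
theorem isZero_of_tors (I : DerComp.IdealSh O) (K : DerivedCategory (ModSite.Mod O)) (h1 : Tors O I K)
    (h2 : DerComp.IsDerComp O I K) : IsZero K := by
  have h3 : Subsingleton (K ⟶ K) := KL.subsingleton_of_iso ((shiftFunctorZero _ ℤ).app K) (h1 K h2 0)
  exact Tri.isZero_of_subsingleton h3

/-- An object is zero if its restrictions to a covering class are zero. -/
theorem isZero_of_locally {B : C → Prop} (hB : Covering J B) (K : DerivedCategory (ModSite.Mod O))
    (h : ∀ V, B V → IsZero ((restrD O V).obj K)) : IsZero K := by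
  refine Gen.isZero_of_subsingleton O B hB K fun V hV n => ?_
  have h1 : IsZero (((restrD O V).obj K)⟦n⟧) := (shiftFunctor _ n).map_isZero (h V hV)
  refine (eqU O K V (ModSite.unit (O.over V)) n).toEquiv.subsingleton_congr.2 ⟨fun a b => h1.eq_of_tgt a b⟩

/-- **Locality** of torsion objects. -/
theorem tors_of_locally (I : DerComp.IdealSh O) {B : C → Prop} (hB : Covering J B)
    (M : DerivedCategory (ModSite.Mod O))
    (h : ∀ V, B V → Tors (O.over V) (I.over V) ((restrD O V).obj M)) : Tors O I M := by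
  obtain ⟨T, Y, f, g, δ, hT, hY, hTors⟩ := exists_triangle O I M
  have hY0 : IsZero Y := isZero_of_locally hB Y fun V hV => by
    refine isZero_of_tors (I.over V) _ ?_ (isDerComp_restr I Y hY V)
    exact tors_obj₃ (I.over V) ((restrD O V).map_distinguished _ hT) (KL.tors_restr I V T hTors) (h V hV)
  have hf : IsIso f := ((Triangle.mk f g δ).isZero₃_iff_isIso₁ hT).1 hY0
  exact CMap.tors_of_iso I (asIso f) hTors

/-- A scalar-complete object in terms of `hcSh`. -/
theorem mem_hcSh_of_cpl (s : DerComp.GSec O) (Z : DerivedCategory (ModSite.Mod O)) (h : Cpl s Z) (V : C) :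
    s.1 V ∈ (hcSh O Z).ideal V := by
  rw [mem_hcSh]
  intro W g n
  rw [DerComp.GSec.compat s g]
  exact (hc_iff_dc_smul Z W s n).2 (h.shift n _)

/-- Complete objects are complete for all global sections of the ideal. -/
theorem cpl_of_isDerComp (I : DerComp.IdealSh O) (Z : DerivedCategory (ModSite.Mod O))
    (hZ : DerComp.IsDerComp O I Z) (s : DerComp.GSec O) (hs : ∀ V, s.1 V ∈ I.ideal V) : Cpl s Z := by
  rw [isDerComp_iff_hc] at hZ
  exact cpl_of_hc O covering_true s Z fun V _ n => hZ V _ (hs V) n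

/-- Objects built from divisible ones are torsion. -/
theorem tors_of_dg (I : DerComp.IdealSh O) (l : Set (DerComp.GSec O)) (hl : ∀ s ∈ l, ∀ V, s.1 V ∈ I.ideal V)
    (M : DerivedCategory (ModSite.Mod O)) (hM : DG l M) : Tors O I M := fun Z hZ n =>
  hM.subsingleton (fun s hs => cpl_of_isDerComp I Z hZ s (hl s hs)) n

/-- Torsion objects are finitely built from divisible objects if the ideal is generated by finitely many global
sections. -/
theorem dg_of_tors (I : DerComp.IdealSh O) (l : List (DerComp.GSec O))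
    (hI : ∀ I' : DerComp.IdealSh O, (∀ s ∈ l, ∀ V, s.1 V ∈ I'.ideal V) → I ≤ I')
    (M : DerivedCategory (ModSite.Mod O)) (hM : Tors O I M) : DG {s | s ∈ l} M := by
  refine dg_of_orth l M fun Z hZ => ?_
  have h1 : DerComp.IsDerComp O I Z :=
    (isDerComp_iff_le O I Z).2 (hI _ fun s hs V => mem_hcSh_of_cpl s Z (hZ s hs) V)
  exact KL.subsingleton_of_iso ((shiftFunctorZero _ ℤ).app Z) (hM Z h1 0)

end K779.TorsLoc
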