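import Groth.Agent.DerComp.K779.CFOver
import Groth.Agent.DerComp.K779.TorsLoc
import Groth.Agent.LoccohB.RpushTri

/-!
# `Rf_*` and localisation; scalars
-/

set_option autoImplicit false

universe u

open CategoryTheory CategoryTheory.Limits Opposite Pretriangulated

attribute [local instance] HasDerivedCategory.standard

namespace K779.PushLoc

open HU Tri CFOver K578.Der Groth.Agent.Dcoh.DerAbs Groth.Agent.Dcoh.DerHo Groth.Agent.Dcoh.DerAdj
  Groth.Agent.Dcoh.DerComp

variable {C : Type u} [SmallCategory C] {J : GrothendieckTopology C}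
  {D : Type u} [SmallCategory D] {K : GrothendieckTopology D}
  {O_C : Sheaf J CommRingCat.{u}} {O_D : Sheaf K CommRingCat.{u}} (f : ModSite.RMor O_C O_D)

/-- Restriction preserves K-injective complexes. -/
theorem isKInjective_restr (W : C) (I : CochainComplex (ModSite.Mod O_C) ℤ) (hI : I.IsKInjective) :
    CochainComplex.IsKInjective (((ModSite.restr O_C W).mapHomologicalComplex (ComplexShape.up ℤ)).obj I) :=
  isKInjective_map (ModSite.extZeroAdj O_C W) (acyclic_map_exact _) I hI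

/-- Direct image commutes with localisation, on complexes. -/
noncomputable def cxIso (V : D) (I : CochainComplex (ModSite.Mod O_C) ℤ) :
    ((ModSite.restr O_D V).mapHomologicalComplex (ComplexShape.up ℤ)).obj
      ((f.push.mapHomologicalComplex (ComplexShape.up ℤ)).obj I) ≅
    ((overR f V).push.mapHomologicalComplex (ComplexShape.up ℤ)).obj
      (((ModSite.restr O_C (f.fn.obj V)).mapHomologicalComplex (ComplexShape.up ℤ)).obj I) :=
  Iso.refl _

/-- `(Rf_* T)|_V ≅ R(f_V)_* (T|_{f⁻¹V})`. -/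
theorem nonempty_iso [SiteCmp.HasRpushD f] (V : D) [SiteCmp.HasRpushD (overR f V)]
    (T : DerivedCategory (ModSite.Mod O_C)) :
    Nonempty ((restrD O_D V).obj ((SiteCmp.RpushD f).obj T) ≅
      (SiteCmp.RpushD (overR f V)).obj ((restrD O_C (f.fn.obj V)).obj T)) := by
  obtain ⟨I, hI, ⟨e⟩⟩ := Groth.Agent.LoccohB.RpushTri.exists_isKInjective_iso (hasKInj O_C) T
  exact ⟨(restrD O_D V).mapIso ((SiteCmp.RpushD f).mapIso e ≪≫ rpushIso f I hI) ≪≫
    (ModSite.restr O_D V).mapDerivedCategoryFactors.app _ ≪≫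
    DerivedCategory.Q.mapIso (cxIso f V I) ≪≫
    (rpushIso (overR f V) _ (isKInjective_restr (f.fn.obj V) I hI)).symm ≪≫
    (SiteCmp.RpushD (overR f V)).mapIso
      (((ModSite.restr O_C (f.fn.obj V)).mapDerivedCategoryFactors.app I).symm ≪≫
        (restrD O_C (f.fn.obj V)).mapIso e.symm)⟩

section Scalars

variable {f} {a : DerComp.GSec O_D} {a' : DerComp.GSec O_C}

theorem push_smul (h : ∀ V : D, (f.sharp.hom.app (op V)).hom (a.1 V) = a'.1 (f.fn.obj V)) (M : ModSite.Mod O_C) :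
    f.push.map (a' • 𝟙 M) = a • 𝟙 (f.push.obj M) := by
  rw [DerComp.smul_def, DerComp.smul_def, Category.comp_id, Category.comp_id]
  ext X x
  exact congrArg (fun t : (ModSite.ringSh O_C).obj.obj (op (f.fn.obj X.unop)) =>
    t • (show M.val.obj (op (f.fn.obj X.unop)) from x)) (h X.unop).symm

theorem push_cx_smul (h : ∀ V : D, (f.sharp.hom.app (op V)).hom (a.1 V) = a'.1 (f.fn.obj V))
    (I : CochainComplex (ModSite.Mod O_C) ℤ) :
    (f.push.mapHomologicalComplex (ComplexShape.up ℤ)).map (a' • 𝟙 I) =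
      a • 𝟙 ((f.push.mapHomologicalComplex (ComplexShape.up ℤ)).obj I) := by
  ext i : 1
  exact push_smul h (I.X i)

theorem eq_smul_of_comm {B : Type*} [Category* B] [Preadditive B] {R : Type*} [Semiring R] [Linear R B] (a : R)
    {X Y : B} (α : X ⟶ Y) (hα : IsIso α) (φ : Y ⟶ Y) (h : (a • 𝟙 X) ≫ α = α ≫ φ) : φ = a • 𝟙 Y := by
  rw [← cancel_epi α, ← h, Linear.smul_comp, Category.id_comp, Linear.comp_smul, Category.comp_id]

theorem map_eq_of_iso {B B' : Type*} [Category* B] [Preadditive B] [Category* B'] [Preadditive B'] {R R' : Type*}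
    [Semiring R] [Semiring R'] [Linear R B] [Linear R' B'] (F : B ⥤ B') (a : R) (a' : R') {X Y : B} (e : X ≅ Y)
    (h : F.map (a • 𝟙 Y) = a' • 𝟙 (F.obj Y)) : F.map (a • 𝟙 X) = a' • 𝟙 (F.obj X) := by
  have h4 : a • 𝟙 X = e.hom ≫ (a • 𝟙 Y) ≫ e.inv := by
    rw [Linear.smul_comp, Category.id_comp, Linear.comp_smul, e.hom_inv_id]
  rw [h4, Functor.map_comp, Functor.map_comp, h, Linear.smul_comp, Category.id_comp, Linear.comp_smul,
    ← Functor.map_comp, e.hom_inv_id, CategoryTheory.Functor.map_id]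

theorem rpush_smul_Q [SiteCmp.HasRpushD f]
    (h : ∀ V : D, (f.sharp.hom.app (op V)).hom (a.1 V) = a'.1 (f.fn.obj V))
    (I : CochainComplex (ModSite.Mod O_C) ℤ) (hI : I.IsKInjective) :
    (SiteCmp.RpushD f).map (a' • 𝟙 (DerivedCategory.Q.obj I)) =
      a • 𝟙 ((SiteCmp.RpushD f).obj (DerivedCategory.Q.obj I)) := by
  have h2 : DerivedCategory.Q.map ((f.push.mapHomologicalComplex (ComplexShape.up ℤ)).map (a' • 𝟙 I)) ≫
      (rpushUnitQ f).app I = (rpushUnitQ f).app I ≫ (SiteCmp.RpushD f).map (DerivedCategory.Q.map (a' • 𝟙 I)) :=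
    (rpushUnitQ f).naturality (a' • 𝟙 I)
  have h3 : DerivedCategory.Q.map (a' • 𝟙 I) = a' • 𝟙 (DerivedCategory.Q.obj I) := by
    rw [Functor.map_smul, CategoryTheory.Functor.map_id]
  have h4 : DerivedCategory.Q.map ((f.push.mapHomologicalComplex (ComplexShape.up ℤ)).map (a' • 𝟙 I)) =
      a • 𝟙 (DerivedCategory.Q.obj ((f.push.mapHomologicalComplex (ComplexShape.up ℤ)).obj I)) := by
    rw [push_cx_smul h, Functor.map_smul, CategoryTheory.Functor.map_id]
  rw [h3, h4] at h2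
  exact eq_smul_of_comm a _ (isIso_rpushUnitQ_app f I hI) _ h2

theorem rpush_smul [SiteCmp.HasRpushD f]
    (h : ∀ V : D, (f.sharp.hom.app (op V)).hom (a.1 V) = a'.1 (f.fn.obj V))
    (T : DerivedCategory (ModSite.Mod O_C)) :
    (SiteCmp.RpushD f).map (a' • 𝟙 T) = a • 𝟙 ((SiteCmp.RpushD f).obj T) := by
  obtain ⟨I, hI, ⟨e⟩⟩ := Groth.Agent.LoccohB.RpushTri.exists_isKInjective_iso (hasKInj O_C) T
  exact map_eq_of_iso (SiteCmp.RpushD f) a' a e (rpush_smul_Q h I hI)

theorem rpush_div [SiteCmp.HasRpushD f]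
    (h : ∀ V : D, (f.sharp.hom.app (op V)).hom (a.1 V) = a'.1 (f.fn.obj V))
    (T : DerivedCategory (ModSite.Mod O_C)) (hT : Tri.Div a' T) : Tri.Div a ((SiteCmp.RpushD f).obj T) := by
  have : IsIso (a' • 𝟙 T) := hT
  rw [Tri.Div, ← rpush_smul h]
  infer_instance

end Scalars

end K779.PushLoc
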