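import Groth.Agent.DerComp.K779.Push

/-!
# Restriction of scalars along a map of sheaves of rings and derived completeness
-/

set_option autoImplicit false

universe u

open CategoryTheory CategoryTheory.Limits Opposite Pretriangulated

attribute [local instance] HasDerivedCategory.standard

namespace K779.RScal

open Sec HU PL Push Local

variable {C : Type u} [SmallCategory C] {J : GrothendieckTopology C} {O O' : Sheaf J CommRingCat.{u}} (φ : O ⟶ O')

/-- The morphism of ringed sites defined by a map of sheaves of rings. -/
noncomputable def mor : ModSite.RMor O' O where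
  fn := 𝟭 C
  exact := preservesFiniteLimits_of_natIso
    (((𝟭 C).sheafAdjunctionContinuous (Type u) J J).leftAdjointIdIso (Functor.sheafPushforwardContinuousId (Type u) J)).symm
  sharp := { hom := { app := fun X => φ.hom.app X, naturality := fun _ _ g => φ.hom.naturality g } }

/-- Restriction of scalars. -/
noncomputable abbrev rsc : ModSite.Mod O' ⥤ ModSite.Mod O :=
  SheafOfModules.restrictScalars.{u} ((sheafCompose J (forget₂ CommRingCat.{u} RingCat.{u})).map φ)

/-- the identity on sections, from the direct image to the restriction of scalars -/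
noncomputable def toR (M : ModSite.Mod O') : (mor φ).push.obj M ⟶ (rsc φ).obj M :=
  ⟨{ app := fun X => 𝟙 (((rsc φ).obj M).val.obj X)
     naturality := fun {X Y} g => by
       ext x
       rfl }⟩

/-- the identity on sections, from the restriction of scalars to the direct image -/
noncomputable def ofR (M : ModSite.Mod O') : (rsc φ).obj M ⟶ (mor φ).push.obj M :=
  ⟨{ app := fun X => 𝟙 (((rsc φ).obj M).val.obj X)
     naturality := fun {X Y} g => by
       ext x
       rfl }⟩

/-- The direct image along `mor φ` is the restriction of scalars. -/
noncomputable def pushIso : (mor φ).push ≅ rsc φ where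
  hom := { app := toR φ
           naturality := fun M N ψ => by
             ext X x
             rfl }
  inv := { app := ofR φ
           naturality := fun M N ψ => by
             ext X x
             rfl }
  hom_inv_id := by
    ext M X x
    rfl
  inv_hom_id := by
    ext M X x
    rfl

/-- the adjunction for restriction of scalars -/
noncomputable def adjR : (mor φ).pull ⊣ rsc φ := (mor φ).adj.ofNatIsoRight (pushIso φ)

theorem acyc_rsc (V : C) : Acyc (rsc φ) (ModSite.freeOn O V) := by
  intro I _ n
  have h := acyc_freeOn (mor φ) V I n
  let e := (shiftFunctor (DerivedCategory (ModSite.Mod O)) ((n : ℤ) + 1)).mapIso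
    ((DerivedCategory.singleFunctor (ModSite.Mod O) 0).mapIso ((pushIso φ).app I))
  exact ⟨fun a b => (cancel_mono e.inv).1 (h.elim _ _)⟩

variable [PreservesFiniteLimits (rsc φ)] [PreservesFiniteColimits (rsc φ)]

/-- Cohomology of the restriction of scalars. -/
theorem hc_rsc_iff (K' : DerivedCategory (ModSite.Mod O')) (V : C) (g : O.obj.obj (op V)) (n : ℤ) :
    HC O ((rsc φ).mapDerivedCategory.obj K') V g n ↔ HC O' K' V ((φ.hom.app (op V)).hom g) n :=
  hc_iff (mor φ) (adjR φ) (rsc φ).mapDerivedCategory (rsc φ).mapDerivedCategoryFactorsh.inv (acyc_rsc φ)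
    (fun _ _ => inferInstance) K' V g n

/-- Derived completeness and restriction of scalars. -/
theorem isDerComp_iff (I : DerComp.IdealSh O) (I' : DerComp.IdealSh O') (hI' : DerComp.IsIdealExt φ I I')
    (K' : DerivedCategory (ModSite.Mod O')) :
    DerComp.IsDerComp O' I' K' ↔ DerComp.IsDerComp O I ((rsc φ).mapDerivedCategory.obj K') := by
  constructor
  · intro h
    rw [isDerComp_iff_hc] at h ⊢
    intro V g hg n
    exact (hc_rsc_iff φ K' V g n).2 (h V _ (hI'.1 V g hg) n)
  · intro h
    rw [isDerComp_iff_le]
    refine hI'.2 _ fun U g hg => ?_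
    rw [mem_hcSh]
    intro V k n
    rw [isDerComp_iff_hc] at h
    have h1 := (hc_rsc_iff φ K' V _ n).1 (h V _ (I.map_mem k hg) n)
    have h2 : (φ.hom.app (op V)).hom ((O.obj.map k.op).hom g) = (O'.obj.map k.op).hom ((φ.hom.app (op U)).hom g) :=
      congrArg (fun t => t.hom g) (φ.hom.naturality k.op)
    rwa [h2] at h1

end K779.RScal
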