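import Groth.Agent.DRing.K230.DCSeq

/-!
# Elementary algebra of sequences: complete and divisible operators

`OC t`: the map `(x_k) ↦ (x_k - t x_{k+1})` is bijective on sequences.  If `OC t` on `N` and `s` commutes with `t`,
kernel and cokernel of `t - s` are derived complete with respect to `s`.  Kernel and cokernel of `1 - s σ` are
divisible by `s`.
-/

set_option autoImplicit false

namespace K779.SeqAlg

open K230.DCSeq

variable {R : Type*} [CommRing R]

section OC

variable {N P : Type*} [AddCommGroup N] [Module R N] [AddCommGroup P] [Module R P]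

/-- The operator `t` is complete on `N`. -/
def OC (t : N →ₗ[R] N) : Prop := Function.Bijective (fun (x : ℕ → N) (k : ℕ) => x k - t (x (k + 1)))

theorem OC.eq_zero {t : N →ₗ[R] N} (h : OC t) {x : ℕ → N} (hx : ∀ k, x k = t (x (k + 1))) (k : ℕ) : x k = 0 := by
  have : x = 0 := h.1 (by
    funext k
    simp only [Pi.zero_apply, map_zero, sub_zero]
    rw [hx k, sub_self])
  rw [this]; rfl

theorem OC.dc_coker {t : N →ₗ[R] N} (h : OC t) (s : R) (p : N →ₗ[R] P) (hp : Function.Surjective p)
    (hex : ∀ x, p x = 0 ↔ ∃ y, t y - s • y = x) : DC s P := by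
  have hts : ∀ x, p (t x) = s • p x := fun x => by
    have := (hex (t x - s • x)).2 ⟨x, rfl⟩
    rwa [map_sub, map_smul, sub_eq_zero] at this
  constructor
  · intro x y hxy
    have key : ∀ z : ℕ → P, (∀ k, z k = s • z (k + 1)) → ∀ k, z k = 0 := by
      intro z hz
      choose w hw using fun k => hp (z k)
      have h1 : ∀ k, ∃ m, t m - s • m = w k - t (w (k + 1)) := fun k => (hex _).1 (by
        rw [map_sub, hts, hw, hw, ← hz, sub_self])
      choose m hm using h1
      obtain ⟨c, hc⟩ := h.2 m
      have h2 : w = fun k => t (c k) - s • c k := h.1 (by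
        funext k
        have h3 : c k - t (c (k + 1)) = m k := congrFun hc k
        change w k - t (w (k + 1)) = t (c k) - s • c k - t (t (c (k + 1)) - s • c (k + 1))
        rw [← hm, ← h3, map_sub, map_sub, map_smul, smul_sub]
        abel)
      intro k
      rw [← hw, h2]
      exact (hex _).2 ⟨c k, rfl⟩
    funext k
    have := key (fun k => x k - y k) (fun k => by
      have h5 : x k - s • x (k + 1) = y k - s • y (k + 1) := congrFun hxy k
      rw [smul_sub]
      exact sub_eq_sub_iff_sub_eq_sub.1 h5) k
    exact sub_eq_zero.1 this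
  · intro b
    choose c hc using fun k => hp (b k)
    obtain ⟨x, hx⟩ := h.2 c
    refine ⟨fun k => p (x k), ?_⟩
    funext k
    have := congrArg p (congrFun hx k)
    rw [hc] at this
    rw [← this]
    simp [hts]

theorem OC.dc_ker {t : N →ₗ[R] N} (h : OC t) (s : R) (i : P →ₗ[R] N) (hi : Function.Injective i)
    (hex : ∀ x, t x - s • x = 0 ↔ ∃ y, i y = x) : DC s P := by
  have hts : ∀ x, t (i x) = s • i x := fun x => by
    have := (hex (i x)).2 ⟨x, rfl⟩
    rwa [sub_eq_zero] at this
  constructor
  · intro x y hxy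
    have h1 : (fun k => i (x k)) = fun k => i (y k) := h.1 (by
      funext k
      have := congrArg i (congrFun hxy k)
      simpa [hts] using this)
    funext k
    exact hi (congrFun h1 k)
  · intro b
    obtain ⟨x, hx⟩ := h.2 (fun k => i (b k))
    have hx' : ∀ k, i (b k) = x k - t (x (k + 1)) := fun k => (congrFun hx k).symm
    have hux : ∀ k, t (x k) - s • x k = 0 := by
      refine h.eq_zero (x := fun k => t (x k) - s • x k) (fun k => ?_)
      have h3 := congrArg (fun z => t z - s • z) (hx' k)
      rw [hts, sub_self, map_sub, smul_sub] at h3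
      rw [map_sub, map_smul]
      have h4 : t (x k) - s • x k - (t (t (x (k + 1))) - s • t (x (k + 1))) = 0 := by
        rw [h3]; abel
      exact sub_eq_zero.1 h4
    choose y hy using fun k => (hex (x k)).1 (hux k)
    refine ⟨y, ?_⟩
    funext k
    apply hi
    rw [map_sub, map_smul, hy, ← hts, hy, hx']

theorem OC.of_equiv {N' : Type*} [AddCommGroup N'] [Module R N'] {t : N →ₗ[R] N} {t' : N' →ₗ[R] N'}
    (h : OC t) (e : N ≃+ N') (he : ∀ x, e (t x) = t' (e x)) : OC t' := by
  have he' : ∀ x, e.symm (t' x) = t (e.symm x) := fun x => by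
    apply e.injective
    rw [he]; simp
  constructor
  · intro x y hxy
    have h1 : (fun k => e.symm (x k)) = fun k => e.symm (y k) := h.1 (by
      funext k
      have := congrArg e.symm (congrFun hxy k)
      simpa [he'] using this)
    funext k
    exact e.symm.injective (congrFun h1 k)
  · intro b
    obtain ⟨x, hx⟩ := h.2 (fun k => e.symm (b k))
    refine ⟨fun k => e (x k), ?_⟩
    funext k
    have := congrArg e (congrFun hx k)
    simpa [he] using this

end OC

section Shift

variable (M : Type*) [AddCommGroup M] [Module R M]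

/-- the right shift of sequences -/
def rsh : (ℕ → M) →ₗ[R] (ℕ → M) where
  toFun x k := Nat.casesOn k 0 (fun m => x m)
  map_add' x y := by
    funext k
    cases k <;> simp
  map_smul' r x := by
    funext k
    cases k <;> simp

@[simp] theorem rsh_zero (x : ℕ → M) : rsh (R := R) M x 0 = 0 := rfl
@[simp] theorem rsh_succ (x : ℕ → M) (m : ℕ) : rsh (R := R) M x (m + 1) = x m := rfl

theorem oc_rsh : OC (rsh (R := R) M) := by
  constructor
  · intro x y hxy
    have key : ∀ z : ℕ → (ℕ → M), (∀ k, z k = rsh (R := R) M (z (k + 1))) → ∀ m k, z k m = 0 := by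
      intro z hz m
      induction m with
      | zero => intro k; rw [hz k]; rfl
      | succ m ih => intro k; rw [hz k]; exact ih (k + 1)
    funext k m
    have := key (fun k => x k - y k) (fun k => by
      have h5 : x k - rsh (R := R) M (x (k + 1)) = y k - rsh (R := R) M (y (k + 1)) := congrFun hxy k
      rw [map_sub]
      exact sub_eq_sub_iff_sub_eq_sub.1 h5) m k
    exact sub_eq_zero.1 this
  · intro b
    let X : ℕ → ℕ → M := fun m => Nat.rec (fun k => b k 0) (fun m ih k => b k (m + 1) + ih (k + 1)) m
    refine ⟨fun k m => X m k, ?_⟩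
    funext k m
    cases m with
    | zero => simp [X]
    | succ m =>
      change X (m + 1) k - X m (k + 1) = b k (m + 1)
      change b k (m + 1) + X m (k + 1) - X m (k + 1) = _
      abel

end Shift

section Div

variable {N P Q : Type*} [AddCommGroup N] [Module R N] [AddCommGroup P] [Module R P] [AddCommGroup Q] [Module R Q]

/-- multiplication by `s` is bijective on the cokernel of `1 - s σ`. -/
theorem bij_coker (σ : N →ₗ[R] N) (s : R) (p : N →ₗ[R] P) (hp : Function.Surjective p)
    (hex : ∀ x, p x = 0 ↔ ∃ y, y - s • σ y = x) : Function.Bijective (fun x : P => s • x) := by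
  constructor
  · intro x y hxy
    obtain ⟨a, ha⟩ := hp (x - y)
    have h1 : p (s • a) = 0 := by
      rw [map_smul, ha, smul_sub]
      exact sub_eq_zero.2 hxy
    obtain ⟨b, hb⟩ := (hex _).1 h1
    have h2 : p a = 0 := by
      refine (hex _).2 ⟨a + σ b, ?_⟩
      have h3 : b = s • (a + σ b) := by
        rw [smul_add, ← hb]; abel
      have h4 : s • σ (a + σ b) = σ b := by
        rw [← map_smul, ← h3]
      rw [h4]; abel
    rw [ha] at h2
    exact sub_eq_zero.1 h2
  · intro x
    obtain ⟨a, rfl⟩ := hp x
    refine ⟨p (σ a), ?_⟩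
    have h1 := (hex (a - s • σ a)).2 ⟨a, rfl⟩
    rw [map_sub, sub_eq_zero, map_smul] at h1
    exact h1.symm

/-- multiplication by `s` is bijective on the kernel of `1 - s σ`. -/
theorem bij_ker (σ : N →ₗ[R] N) (s : R) (i : P →ₗ[R] N) (hi : Function.Injective i)
    (hex : ∀ x, x - s • σ x = 0 ↔ ∃ y, i y = x) : Function.Bijective (fun x : P => s • x) := by
  constructor
  · intro x y hxy
    have h1 : ∀ z, i z = σ (i (s • z)) := fun z => by
      have := (hex (i z)).2 ⟨z, rfl⟩
      rw [map_smul, map_smul]
      exact sub_eq_zero.1 this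
    apply hi
    rw [h1 x, h1 y]
    exact congrArg (fun t => σ (i t)) hxy
  · intro x
    have h1 := (hex (i x)).2 ⟨x, rfl⟩
    obtain ⟨y, hy⟩ := (hex (σ (i x))).1 (by
      rw [← map_smul σ, ← map_sub, h1, map_zero])
    refine ⟨y, hi ?_⟩
    dsimp only
    rw [map_smul, hy]
    exact (sub_eq_zero.1 h1).symm

/-- extensions -/
theorem bij_middle (s : R) (i : N →ₗ[R] P) (p : P →ₗ[R] Q) (hi : Function.Injective i)
    (hp : Function.Surjective p) (hex : ∀ x, p x = 0 ↔ ∃ y, i y = x)
    (h : Function.Bijective (fun x : N => s • x)) (h' : Function.Bijective (fun x : Q => s • x)) :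
    Function.Bijective (fun x : P => s • x) := by
  constructor
  · intro x y hxy
    have h0 : s • (x - y) = 0 := by rw [smul_sub]; exact sub_eq_zero.2 hxy
    have h1 : p (x - y) = 0 := h'.1 (by
      dsimp only
      rw [← map_smul, h0, map_zero, smul_zero])
    obtain ⟨z, hz⟩ := (hex _).1 h1
    have h2 : z = 0 := h.1 (by
      apply hi
      dsimp only
      rw [map_smul, hz, h0, smul_zero, map_zero])
    rw [h2, map_zero] at hz
    exact sub_eq_zero.1 hz.symm
  · intro x
    obtain ⟨q, hq⟩ := h'.2 (p x)
    obtain ⟨y, rfl⟩ := hp q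
    have h1 : p (x - s • y) = 0 := by
      rw [map_sub, map_smul, sub_eq_zero]; exact hq.symm
    obtain ⟨z, hz⟩ := (hex _).1 h1
    obtain ⟨w, hw⟩ := h.2 z
    refine ⟨i w + y, ?_⟩
    dsimp only at hw ⊢
    rw [smul_add, ← map_smul, hw, hz]
    abel

end Div

end K779.SeqAlg
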