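import Groth.Agent.DerComp.K779.ElKL

/-!
# `(j_{U!} O_U)|_V` in terms of spans `U ← X → V`
-/

set_option autoImplicit false

universe u

open CategoryTheory CategoryTheory.Limits Opposite

namespace K779.Spans

open Elt ElMod Sec K291.Mon K291.Flat K291.Restr K291.Shriek Groth.Agent.Sga4A

variable {C : Type u} [SmallCategory C] {J : GrothendieckTopology C} (O : Sheaf J CommRingCat.{u})
  (U V : C)

/-- the presheaf `(X → V) ↦ Hom(X, U)` -/
abbrev SUV : (Over V)ᵒᵖ ⥤ Type u := (Over.forget V).op ⋙ yoneda.obj U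

/-- the ringed site of spans -/
abbrev oS : Sheaf (⊥ : GrothendieckTopology (El (SUV U V))) CommRingCat.{u} := oE (O.over V) (SUV U V)

/-- `(j_{U!} O_U)|_V` on presheaves -/
noncomputable def P1 : PM (O.over V) := (preR O V).obj ((preS O U).obj ((toP _).obj (ModSite.unit (O.over U))))

/-- the extension by zero of the structure presheaf of the category of spans -/
noncomputable def P2 : PM (O.over V) :=
  (preShriek (O.over V) (SUV U V)).obj ((toP _).obj (ModSite.unit (oS O U V)))

theorem P1_eq_P2 : P1 O U V = P2 O U V := rfl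

/-- a section over `U` as a global section on the category of spans -/
def spS (f : O.obj.obj (op U)) : DerComp.GSec (oS O U V) :=
  ⟨fun W => (O.obj.map (Quiver.Hom.op (show W.pt.left ⟶ U from W.x))).hom f, fun W W' g => by
    change (O.obj.map g.f.left.op).hom ((O.obj.map (Quiver.Hom.op (show W.pt.left ⟶ U from W.x))).hom f) =
      (O.obj.map (Quiver.Hom.op (show W'.pt.left ⟶ U from W'.x))).hom f
    rw [← CommRingCat.comp_apply, ← Functor.map_comp, ← op_comp]
    have h : g.f.left ≫ (show W.pt.left ⟶ U from W.x) = (show W'.pt.left ⟶ U from W'.x) := g.w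
    rw [h]⟩

/-- multiplication by `f` on `P1` -/
noncomputable def m1 (f : O.obj.obj (op U)) :
    (preShriek (O.over V) (SUV U V)).obj ((toP _).obj (ModSite.unit (oS O U V))) ⟶
      (preShriek (O.over V) (SUV U V)).obj ((toP _).obj (ModSite.unit (oS O U V))) :=
  (preR O V).map ((preS O U).map ((toP _).map (DerComp.smulEnd (DerComp.GSec.ofSect O U f)
      (ModSite.unit (O.over U)))))

/-- multiplication by `f` on `P2` -/
noncomputable def m2 (f : O.obj.obj (op U)) :
    (preShriek (O.over V) (SUV U V)).obj ((toP _).obj (ModSite.unit (oS O U V))) ⟶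
      (preShriek (O.over V) (SUV U V)).obj ((toP _).obj (ModSite.unit (oS O U V))) :=
  (preShriek (O.over V) (SUV U V)).map ((toP _).map (DerComp.smulEnd (spS O U V f)
      (ModSite.unit (oS O U V))))

theorem m1_of (f : O.obj.obj (op U)) (X : (Over V)ᵒᵖ) (x : (SUV U V).obj X)
    (m : ((toP _).obj (ModSite.unit (oS O U V))).obj (op (El.mk X.unop x))) :
    ((m1 O U V f).app X).hom (ofE ((toP _).obj (ModSite.unit (oS O U V))) X x m) =
      ofE ((toP _).obj (ModSite.unit (oS O U V))) X x
        ((((toP _).map (DerComp.smulEnd (spS O U V f) (ModSite.unit (oS O U V)))).app (op (El.mk X.unop x))).hom m) :=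
  ModShriek.shMapApp_of (R := O.obj ⋙ forget₂ CommRingCat.{u} RingCat.{u})
    ((toP _).map (DerComp.smulEnd (DerComp.GSec.ofSect O U f) (ModSite.unit (O.over U)))) (op X.unop.left) x m

theorem m1_eq_m2 (f : O.obj.obj (op U)) : m1 O U V f = m2 O U V f := by
  apply preShriek_hom_ext
  intro X x m
  exact (m1_of O U V f X x m).trans (preShriek_map_ofE _ X x m).symm

/-- `(j_{U!} M)|_V` on the level of presheaves. -/
noncomputable def lamN : ModSite.extZero O U ⋙ ModSite.restr O V ≅
    (toP (O.over U) ⋙ preS O U) ⋙ preR O V ⋙ shP (O.over V) :=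
  Functor.isoWhiskerRight (extZeroIso O U) (ModSite.restr O V) ≪≫
    Functor.isoWhiskerRight (Functor.associator (toP (O.over U)) (preS O U) (shP O)).symm (ModSite.restr O V) ≪≫
    Functor.associator (toP (O.over U) ⋙ preS O U) (shP O) (ModSite.restr O V) ≪≫
    Functor.isoWhiskerLeft (toP (O.over U) ⋙ preS O U) (shRestr O V)

/-- `(j_{U!} O_U)|_V ≅ pi O_spans`. -/
noncomputable def lam : (ModSite.restr O V).obj (ModSite.freeOn O U) ≅
    (pi (O.over V) (SUV U V)).obj (ModSite.unit (oS O U V)) :=
  (lamN O U V).app (ModSite.unit (O.over U))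

theorem lam_comp1 (f : O.obj.obj (op U)) :
    (ModSite.restr O V).map (mul O U f) ≫ (lam O U V).hom =
      (lam O U V).hom ≫ (shP (O.over V)).map (m1 O U V f) :=
  (lamN O U V).hom.naturality (DerComp.smulEnd (DerComp.GSec.ofSect O U f) (ModSite.unit (O.over U)))

theorem lam_comp (f : O.obj.obj (op U)) :
    (ModSite.restr O V).map (mul O U f) ≫ (lam O U V).hom =
      (lam O U V).hom ≫ (pi (O.over V) (SUV U V)).map (DerComp.smulEnd (spS O U V f) (ModSite.unit (oS O U V))) := by
  rw [lam_comp1, m1_eq_m2]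
  rfl

end K779.Spans
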