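import Groth.Agent.ModSite.K295.PullExact
import Groth.Agent.DerComp.K779.RScal

/-!
# Quotients of modules by finitely many global sections; sections
-/

set_option autoImplicit false

universe t v u

open CategoryTheory CategoryTheory.Limits Opposite

namespace K779.TenQ

attribute [local instance] Abelian.hasFiniteBiproducts

section Abs

variable {R : Type t} [CommRing R] {A : Type*} [Category* A] [Abelian A] [Linear R A] {r : ℕ} (a : Fin r → R)

/-- the map `M^r ⟶ M`, `(x_i) ↦ ∑ a_i x_i` -/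
noncomputable def cm (M : A) : (⨁ fun _ : Fin r => M) ⟶ M := biproduct.desc fun i => a i • 𝟙 M

theorem cm_eq (M : A) : cm a M = ∑ i, a i • biproduct.π (fun _ : Fin r => M) i := by
  rw [cm, biproduct.desc_eq]
  refine Finset.sum_congr rfl fun i _ => ?_
  rw [Linear.comp_smul, Category.comp_id]

theorem cm_natural {M N : A} (ψ : M ⟶ N) : cm a M ≫ ψ = biproduct.map (fun _ => ψ) ≫ cm a N := by
  refine biproduct.hom_ext' _ _ fun i => ?_
  rw [cm, cm, biproduct.ι_desc_assoc, biproduct.ι_map_assoc, biproduct.ι_desc, Linear.smul_comp, Linear.comp_smul,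
    Category.id_comp, Category.comp_id]

/-- `M / (a_1, …, a_r) M` -/
noncomputable abbrev quo (M : A) : A := cokernel (cm a M)

noncomputable def quoMap {M N : A} (ψ : M ⟶ N) : quo a M ⟶ quo a N :=
  cokernel.map (cm a M) (cm a N) (biproduct.map fun _ => ψ) ψ (cm_natural a ψ)

theorem π_quoMap {M N : A} (ψ : M ⟶ N) : cokernel.π (cm a M) ≫ quoMap a ψ = ψ ≫ cokernel.π (cm a N) :=
  cokernel.π_desc _ _ _

theorem quoMap_comp {M N P : A} (ψ : M ⟶ N) (χ : N ⟶ P) : quoMap a (ψ ≫ χ) = quoMap a ψ ≫ quoMap a χ := by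
  rw [← cancel_epi (cokernel.π (cm a M)), π_quoMap, reassoc_of% (π_quoMap a ψ), π_quoMap, Category.assoc]

theorem quoMap_id (M : A) : quoMap a (𝟙 M) = 𝟙 _ := by
  rw [← cancel_epi (cokernel.π (cm a M)), π_quoMap, Category.comp_id, Category.id_comp]

instance isIso_quoMap {M N : A} (ψ : M ⟶ N) [IsIso ψ] : IsIso (quoMap a ψ) :=
  ⟨quoMap a (inv ψ), by rw [← quoMap_comp, IsIso.hom_inv_id, quoMap_id], by
    rw [← quoMap_comp, IsIso.inv_hom_id, quoMap_id]⟩

variable {B : Type*} [Category* B] [Abelian B] [Linear R B] (H : A ⥤ B) [H.Additive] [H.Linear R] [PreservesFiniteColimits H]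

omit [Linear R B] in
theorem isIso_cokernel_π {X Y : B} (f : X ⟶ Y) [HasCokernel f] (h : f = 0) : IsIso (cokernel.π f) := by
  subst h
  infer_instance

theorem isIso_map_π (M : A) (hH : ∀ i, a i • 𝟙 (H.obj M) = 0) : IsIso (H.map (cokernel.π (cm a M))) := by
  have h0 : H.map (cm a M) = 0 := by
    rw [cm_eq, Functor.map_sum]
    refine Finset.sum_eq_zero fun i _ => ?_
    rw [Functor.map_smul]
    have h1 : a i • H.map (biproduct.π (fun _ : Fin r => M) i) =
        H.map (biproduct.π (fun _ : Fin r => M) i) ≫ (a i • 𝟙 (H.obj M)) := by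
      rw [Linear.comp_smul, Category.comp_id]
    rw [h1, hH, comp_zero]
  have h2 : IsIso (cokernel.π (H.map (cm a M))) := isIso_cokernel_π _ h0
  have h3 : H.map (cokernel.π (cm a M)) ≫ (PreservesCokernel.iso H (cm a M)).hom = cokernel.π (H.map (cm a M)) :=
    PreservesCokernel.π_iso_hom H (cm a M)
  rw [← h3] at h2
  exact (isIso_comp_right_iff _ _).1 h2

theorem isIso_map_of_quo {M N : A} (ψ : M ⟶ N) (hM : ∀ i, a i • 𝟙 (H.obj M) = 0) (hN : ∀ i, a i • 𝟙 (H.obj N) = 0)
    (h : IsIso (quoMap a ψ)) : IsIso (H.map ψ) := by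
  have h1 := isIso_map_π a H M hM
  have h2 := isIso_map_π a H N hN
  have h3 : H.map ψ ≫ H.map (cokernel.π (cm a N)) = H.map (cokernel.π (cm a M)) ≫ H.map (quoMap a ψ) := by
    rw [← Functor.map_comp, ← Functor.map_comp, π_quoMap]
  have h4 : IsIso (H.map ψ ≫ H.map (cokernel.π (cm a N))) := by
    rw [h3]
    infer_instance
  exact (isIso_comp_right_iff _ _).1 h4

end Abs

end K779.TenQ
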