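import Groth.Agent.DerComp.K779.SeqAlg
import Mathlib.CategoryTheory.Triangulated.Triangulated
import Mathlib.CategoryTheory.Triangulated.Yoneda
import Mathlib.CategoryTheory.Linear.LinearFunctor
import Mathlib.CategoryTheory.Limits.Shapes.Countable

/-!
# Completion of objects of linear triangulated categories with respect to one scalar

* `Cpl s K`: all modules `Hom(Y, K)` are derived complete with respect to `s`;
* `Div s X`: multiplication by `s` is invertible on `X`; `hom_eq_zero`: no nonzero morphisms from `Div` to `Cpl`;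
* `exists_completion`: a triangle `T ⟶ K ⟶ Λ ⟶ T⟦1⟧` with `Div s T`, `Cpl s Λ`, where
  `∏ K ⟶ ∏ K ⟶ Λ` (`t - s`) and `T ⟶ ∏ K ⟶ ∏ K` (`1 - s σ`) are triangles.
-/

set_option autoImplicit false
set_option linter.unusedSectionVars false

universe t v u

open CategoryTheory CategoryTheory.Limits Pretriangulated

namespace K779.Tri

open K230.DCSeq SeqAlg

variable {R : Type t} [CommRing R] {D : Type u} [Category.{v} D] [HasZeroObject D] [HasShift D ℤ] [Preadditive D]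
  [∀ n : ℤ, (shiftFunctor D n).Additive] [Pretriangulated D] [Linear R D]

/-- `K` is complete with respect to the scalar `s`. -/
def Cpl (s : R) (K : D) : Prop := ∀ Y : D, DC s (Y ⟶ K)

/-- `s` is invertible on `X`. -/
def Div (s : R) (X : D) : Prop := IsIso (s • 𝟙 X)

theorem Div.hom_eq_zero {s : R} {X K : D} (hX : Div s X) (hK : Cpl s K) (g : X ⟶ K) : g = 0 := by
  have : IsIso (s • 𝟙 X) := hX
  let x : ℕ → (X ⟶ K) := fun n => Nat.rec g (fun _ y => inv (s • 𝟙 X) ≫ y) n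
  have hx : ∀ n, x n = s • x (n + 1) := by
    intro n
    change x n = s • (inv (s • 𝟙 X) ≫ x n)
    have h1 : s • (inv (s • 𝟙 X) ≫ x n) = (s • 𝟙 X) ≫ (inv (s • 𝟙 X) ≫ x n) := by
      rw [Linear.smul_comp, Category.id_comp]
    rw [h1, IsIso.hom_inv_id_assoc]
  exact (hK X).eq_zero hx 0

theorem Cpl.of_iso {s : R} {K K' : D} (h : Cpl s K) (e : K ≅ K') : Cpl s K' := fun Y =>
  (h Y).of_equiv (Linear.homCongr R (Iso.refl Y) e)

theorem Div.of_iso {s : R} {X X' : D} (h : Div s X) (e : X ≅ X') : Div s X' := by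
  have : IsIso (s • 𝟙 X) := h
  have h2 : s • 𝟙 X' = e.inv ≫ (s • 𝟙 X) ≫ e.hom := by
    rw [Linear.smul_comp, Linear.comp_smul, Category.id_comp, e.inv_hom_id]
  rw [Div, h2]
  infer_instance

theorem div_iff (s : R) (X : D) : Div s X ↔ ∀ Y : D, Function.Bijective (fun x : Y ⟶ X => s • x) := by
  rw [Div, isIso_iff_yoneda_map_bijective]
  refine forall_congr' fun Y => ?_
  have h : (fun x : Y ⟶ X => x ≫ (s • 𝟙 X)) = fun x => s • x := by
    funext x
    rw [Linear.comp_smul, Category.comp_id]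
  rw [h]

variable [∀ n : ℤ, (shiftFunctor D n).Linear R]

section ShiftEquiv

/-- the shift adjunction -/
noncomputable def shAdj (n : ℤ) : shiftFunctor D (-n) ⊣ shiftFunctor D n :=
  (shiftEquiv' D (-n) n (by simp)).toAdjunction

variable (R) in
/-- `Hom(Y⟦-n⟧, X) ≃ Hom(Y, X⟦n⟧)`. -/
noncomputable def shEq (Y X : D) (n : ℤ) : (Y⟦-n⟧ ⟶ X) ≃ₗ[R] (Y ⟶ X⟦n⟧) where
  toEquiv := (shAdj n).homEquiv Y X
  map_add' f g := by
    change (shAdj n).homEquiv Y X (f + g) = (shAdj n).homEquiv Y X f + (shAdj n).homEquiv Y X g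
    simp only [Adjunction.homEquiv_unit, Functor.map_add, Preadditive.comp_add]
  map_smul' r f := by
    change (shAdj n).homEquiv Y X (r • f) = r • (shAdj n).homEquiv Y X f
    simp only [Adjunction.homEquiv_unit, Functor.map_smul, Linear.comp_smul]

theorem shEq_comp (Y : D) {X X' : D} (n : ℤ) (f : Y⟦-n⟧ ⟶ X) (g : X ⟶ X') :
    shEq R Y X' n (f ≫ g) = shEq R Y X n f ≫ g⟦n⟧' :=
  Adjunction.homEquiv_naturality_right _ _ _

end ShiftEquiv

theorem Cpl.shift {s : R} {K : D} (h : Cpl s K) (n : ℤ) : Cpl s (K⟦n⟧) := fun Y =>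
  (h (Y⟦-n⟧)).of_equiv (shEq R Y K n)

theorem Div.shift {s : R} {K : D} (h : Div s K) (n : ℤ) : Div s (K⟦n⟧) := by
  have : IsIso (s • 𝟙 K) := h
  have h2 : s • 𝟙 (K⟦n⟧) = (s • 𝟙 K)⟦n⟧' := by
    rw [Functor.map_smul, CategoryTheory.Functor.map_id]
  rw [Div, h2]
  infer_instance

/-- If `u = t - s` with `t` a complete operator, the (co)fibre of `u` is complete with respect to `s`. -/
theorem cpl_of_triangle {F P : D} {v : F ⟶ P} {u : P ⟶ P} {w : P ⟶ F⟦(1 : ℤ)⟧}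
    (hT : Triangle.mk v u w ∈ distTriang D) (s : R) (t : P ⟶ P) (hu : u = t - s • 𝟙 P)
    (ht : ∀ Y : D, OC (Linear.rightComp R Y t)) : Cpl s (F⟦(1 : ℤ)⟧) := by
  intro Y
  have ht1 : OC (Linear.rightComp R Y (t⟦(1 : ℤ)⟧')) :=
    (ht (Y⟦(-1 : ℤ)⟧)).of_equiv (shEq R Y P 1).toAddEquiv (fun x => shEq_comp (R := R) Y 1 x t)
  let p : (Y ⟶ P) →ₗ[R] (Y ⟶ F⟦(1 : ℤ)⟧) := Linear.rightComp R Y w
  let q : (Y ⟶ F⟦(1 : ℤ)⟧) →ₗ[R] (Y ⟶ P⟦(1 : ℤ)⟧) := Linear.rightComp R Y (v⟦(1 : ℤ)⟧')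
  have hpq : ∀ x, q x = 0 ↔ ∃ y, p y = x := by
    intro x
    constructor
    · intro h
      obtain ⟨g, hg⟩ := Triangle.coyoneda_exact₁ _ hT x h
      exact ⟨g, hg.symm⟩
    · rintro ⟨y, rfl⟩
      change (y ≫ w) ≫ v⟦(1 : ℤ)⟧' = 0
      rw [Category.assoc]
      have : w ≫ v⟦(1 : ℤ)⟧' = 0 := comp_distTriang_mor_zero₃₁ _ hT
      rw [this, comp_zero]
  have h1 : DC s (LinearMap.range p) := by
    refine (ht Y).dc_coker s p.rangeRestrict p.surjective_rangeRestrict (fun x => ?_)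
    have h2 : p.rangeRestrict x = 0 ↔ x ≫ w = 0 := by
      rw [← Subtype.coe_inj]
      rfl
    rw [h2]
    have h3 : ∀ y : Y ⟶ P, Linear.rightComp R Y t y - s • y = y ≫ u := by
      intro y
      rw [hu, Preadditive.comp_sub, Linear.comp_smul, Category.comp_id]
      rfl
    simp only [h3]
    constructor
    · intro h
      obtain ⟨g, hg⟩ := Triangle.coyoneda_exact₃ _ hT x h
      exact ⟨g, hg.symm⟩
    · rintro ⟨y, rfl⟩
      rw [Category.assoc]
      have : u ≫ w = 0 := comp_distTriang_mor_zero₂₃ _ hT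
      rw [this, comp_zero]
  have h2 : DC s (LinearMap.range q) := by
    refine ht1.dc_ker s (LinearMap.range q).subtype (Submodule.injective_subtype _) (fun x => ?_)
    have h3 : ∀ y : Y ⟶ P⟦(1 : ℤ)⟧, Linear.rightComp R Y (t⟦(1 : ℤ)⟧') y - s • y = y ≫ u⟦(1 : ℤ)⟧' := by
      intro y
      rw [hu, Functor.map_sub, Functor.map_smul, CategoryTheory.Functor.map_id, Preadditive.comp_sub,
        Linear.comp_smul, Category.comp_id]
      rfl
    rw [h3]
    constructor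
    · intro h
      have h4 : x ≫ (-(u⟦(1 : ℤ)⟧')) = 0 := by rw [Preadditive.comp_neg, h, neg_zero]
      obtain ⟨g, hg⟩ : ∃ g : Y ⟶ F⟦(1 : ℤ)⟧, x = g ≫ (-(v⟦(1 : ℤ)⟧')) := Triangle.coyoneda_exact₂ _
        (rot_of_distTriang _ (rot_of_distTriang _ (rot_of_distTriang _ hT))) x h4
      refine ⟨⟨x, -g, ?_⟩, rfl⟩
      rw [hg]
      change (-g) ≫ v⟦(1 : ℤ)⟧' = g ≫ (-(v⟦(1 : ℤ)⟧'))
      rw [Preadditive.neg_comp, Preadditive.comp_neg]
    · rintro ⟨⟨_, y, rfl⟩, rfl⟩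
      change (y ≫ v⟦(1 : ℤ)⟧') ≫ u⟦(1 : ℤ)⟧' = 0
      rw [Category.assoc, ← Functor.map_comp]
      have : v ≫ u = 0 := comp_distTriang_mor_zero₁₂ _ hT
      rw [this, Functor.map_zero, comp_zero]
  refine h1.of_exact_middle h2 (LinearMap.range p).subtype q.rangeRestrict (Submodule.injective_subtype _)
    q.surjective_rangeRestrict ?_
  intro x
  have h2 : q.rangeRestrict x = 0 ↔ q x = 0 := by
    rw [← Subtype.coe_inj]
    rfl
  rw [h2, hpq]
  constructor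
  · rintro ⟨y, rfl⟩
    exact ⟨⟨_, y, rfl⟩, rfl⟩
  · rintro ⟨⟨_, y, rfl⟩, rfl⟩
    exact ⟨y, rfl⟩

/-- If `u = 1 - s σ`, then `s` is invertible on the (co)fibre of `u`. -/
theorem div_of_triangle {F P : D} {v : F ⟶ P} {u : P ⟶ P} {w : P ⟶ F⟦(1 : ℤ)⟧}
    (hT : Triangle.mk v u w ∈ distTriang D) (s : R) (σ : P ⟶ P) (hu : u = 𝟙 P - s • σ) :
    Div s (F⟦(1 : ℤ)⟧) := by
  rw [div_iff]
  intro Y
  let p : (Y ⟶ P) →ₗ[R] (Y ⟶ F⟦(1 : ℤ)⟧) := Linear.rightComp R Y w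
  let q : (Y ⟶ F⟦(1 : ℤ)⟧) →ₗ[R] (Y ⟶ P⟦(1 : ℤ)⟧) := Linear.rightComp R Y (v⟦(1 : ℤ)⟧')
  have hpq : ∀ x, q x = 0 ↔ ∃ y, p y = x := by
    intro x
    constructor
    · intro h
      obtain ⟨g, hg⟩ := Triangle.coyoneda_exact₁ _ hT x h
      exact ⟨g, hg.symm⟩
    · rintro ⟨y, rfl⟩
      change (y ≫ w) ≫ v⟦(1 : ℤ)⟧' = 0
      rw [Category.assoc]
      have : w ≫ v⟦(1 : ℤ)⟧' = 0 := comp_distTriang_mor_zero₃₁ _ hT
      rw [this, comp_zero]
  have h1 : Function.Bijective (fun x : LinearMap.range p => s • x) := by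
    refine bij_coker (Linear.rightComp R Y σ) s p.rangeRestrict p.surjective_rangeRestrict (fun x => ?_)
    have h2 : p.rangeRestrict x = 0 ↔ x ≫ w = 0 := by
      rw [← Subtype.coe_inj]
      rfl
    rw [h2]
    have h3 : ∀ y : Y ⟶ P, y - s • Linear.rightComp R Y σ y = y ≫ u := by
      intro y
      rw [hu, Preadditive.comp_sub, Linear.comp_smul, Category.comp_id]
      rfl
    simp only [h3]
    constructor
    · intro h
      obtain ⟨g, hg⟩ := Triangle.coyoneda_exact₃ _ hT x h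
      exact ⟨g, hg.symm⟩
    · rintro ⟨y, rfl⟩
      rw [Category.assoc]
      have : u ≫ w = 0 := comp_distTriang_mor_zero₂₃ _ hT
      rw [this, comp_zero]
  have h2 : Function.Bijective (fun x : LinearMap.range q => s • x) := by
    refine bij_ker (Linear.rightComp R Y (σ⟦(1 : ℤ)⟧')) s (LinearMap.range q).subtype
      (Submodule.injective_subtype _) (fun x => ?_)
    have h3 : ∀ y : Y ⟶ P⟦(1 : ℤ)⟧, y - s • Linear.rightComp R Y (σ⟦(1 : ℤ)⟧') y = y ≫ u⟦(1 : ℤ)⟧' := by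
      intro y
      rw [hu, Functor.map_sub, Functor.map_smul, CategoryTheory.Functor.map_id, Preadditive.comp_sub,
        Linear.comp_smul, Category.comp_id]
      rfl
    rw [h3]
    constructor
    · intro h
      have h4 : x ≫ (-(u⟦(1 : ℤ)⟧')) = 0 := by rw [Preadditive.comp_neg, h, neg_zero]
      obtain ⟨g, hg⟩ : ∃ g : Y ⟶ F⟦(1 : ℤ)⟧, x = g ≫ (-(v⟦(1 : ℤ)⟧')) := Triangle.coyoneda_exact₂ _
        (rot_of_distTriang _ (rot_of_distTriang _ (rot_of_distTriang _ hT))) x h4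
      refine ⟨⟨x, -g, ?_⟩, rfl⟩
      rw [hg]
      change (-g) ≫ v⟦(1 : ℤ)⟧' = g ≫ (-(v⟦(1 : ℤ)⟧'))
      rw [Preadditive.neg_comp, Preadditive.comp_neg]
    · rintro ⟨⟨_, y, rfl⟩, rfl⟩
      change (y ≫ v⟦(1 : ℤ)⟧') ≫ u⟦(1 : ℤ)⟧' = 0
      rw [Category.assoc, ← Functor.map_comp]
      have : v ≫ u = 0 := comp_distTriang_mor_zero₁₂ _ hT
      rw [this, Functor.map_zero, comp_zero]
  refine bij_middle s (LinearMap.range p).subtype q.rangeRestrict (Submodule.injective_subtype _)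
    q.surjective_rangeRestrict ?_ h1 h2
  intro x
  have h2 : q.rangeRestrict x = 0 ↔ q x = 0 := by
    rw [← Subtype.coe_inj]
    rfl
  rw [h2, hpq]
  constructor
  · rintro ⟨y, rfl⟩
    exact ⟨⟨_, y, rfl⟩, rfl⟩
  · rintro ⟨⟨_, y, rfl⟩, rfl⟩
    exact ⟨y, rfl⟩

end K779.Tri
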