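import Groth.Agent.DerComp.K779.Tri2
import Groth.Prelude.Def_DCoh2

/-!
# The divisible part of an object as the value of a right adjoint

`Λ ⊣ G` on a linear triangulated category, `t : 𝟭 ⟶ Λ`, `Λ X` is `s`-divisible for all `X` and `t` is an isomorphism on
`s`-divisible objects.  Then `G K` is the derived limit of the tower on `K` with transition maps `s`.
-/

set_option autoImplicit false

universe t v u

open CategoryTheory CategoryTheory.Limits Pretriangulated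

namespace K779.Tri4

open Tri K230.DCSeq

variable {R : Type t} [CommRing R] {D : Type u} [Category.{v} D] [HasZeroObject D] [HasShift D ℤ] [Preadditive D]
  [∀ n : ℤ, (shiftFunctor D n).Additive] [Pretriangulated D] [Linear R D] [∀ n : ℤ, (shiftFunctor D n).Linear R]

section Adj

variable {Λ G : D ⥤ D} (adj : Λ ⊣ G) (s : R) (hdiv : ∀ X : D, Div s (Λ.obj X))
  (hlin : ∀ X : D, Λ.map (s • 𝟙 X) = s • 𝟙 (Λ.obj X))

omit [HasZeroObject D] [HasShift D ℤ] [∀ n : ℤ, (shiftFunctor D n).Additive] [Pretriangulated D]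
  [∀ n : ℤ, (shiftFunctor D n).Linear R] in
include hlin in
theorem symm_smul {Y K : D} (y : Y ⟶ G.obj K) :
    (adj.homEquiv Y K).symm (s • y) = s • (adj.homEquiv Y K).symm y := by
  have h1 : s • y = (s • 𝟙 Y) ≫ y := by rw [Linear.smul_comp, Category.id_comp]
  rw [Adjunction.homEquiv_counit, Adjunction.homEquiv_counit, h1, Λ.map_comp, hlin, Category.assoc,
    Linear.smul_comp, Category.id_comp]

include adj hdiv hlin in
theorem div_right (K : D) : Div s (G.obj K) := by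
  rw [div_iff]
  intro Y
  have hY : IsIso (s • 𝟙 (Λ.obj Y)) := hdiv Y
  have h1 : Function.Bijective (fun x : Λ.obj Y ⟶ K => s • x) := by
    have h2 : (fun x : Λ.obj Y ⟶ K => s • x) = fun x => (s • 𝟙 (Λ.obj Y)) ≫ x := by
      funext x
      rw [Linear.smul_comp, Category.id_comp]
    rw [h2]
    exact ⟨fun a b hab => (cancel_epi (s • 𝟙 (Λ.obj Y))).1 hab,
      fun y => ⟨inv (s • 𝟙 (Λ.obj Y)) ≫ y, IsIso.hom_inv_id_assoc _ _⟩⟩
  have h3 : (adj.homEquiv Y K).symm ∘ (fun y : Y ⟶ G.obj K => s • y) =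
      (fun x : Λ.obj Y ⟶ K => s • x) ∘ (adj.homEquiv Y K).symm := by
    funext y
    exact symm_smul adj s hlin y
  rw [← Function.Bijective.of_comp_iff' (adj.homEquiv Y K).symm.bijective, h3]
  exact h1.comp (adj.homEquiv Y K).symm.bijective

variable (t : 𝟭 D ⟶ Λ) (ht : ∀ Y : D, Div s Y → IsIso (t.app Y))

/-- the comparison map `G K ⟶ K` -/
def rho (K : D) : G.obj K ⟶ K := t.app (G.obj K) ≫ adj.counit.app K

omit [HasZeroObject D] [HasShift D ℤ] [∀ n : ℤ, (shiftFunctor D n).Additive] [Pretriangulated D]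
  [∀ n : ℤ, (shiftFunctor D n).Linear R] in
include ht in
theorem rho_bijective (K Y : D) (hY : Div s Y) : Function.Bijective (fun y : Y ⟶ G.obj K => y ≫ rho adj t K) := by
  have := ht Y hY
  have h1 : (fun y : Y ⟶ G.obj K => y ≫ rho adj t K) =
      (fun x : Λ.obj Y ⟶ K => t.app Y ≫ x) ∘ (adj.homEquiv Y K).symm := by
    funext y
    change y ≫ t.app _ ≫ adj.counit.app K = t.app Y ≫ (adj.homEquiv Y K).symm y
    rw [Adjunction.homEquiv_counit, ← Category.assoc, ← Category.assoc]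
    congr 1
    exact t.naturality y
  rw [h1]
  refine Function.Bijective.comp ?_ (adj.homEquiv Y K).symm.bijective
  exact ⟨fun a b hab => (cancel_epi (t.app Y)).1 hab, fun y => ⟨inv (t.app Y) ≫ y, IsIso.hom_inv_id_assoc _ _⟩⟩

end Adj

section Compl

variable {K : D} [HasProduct fun _ : ℕ => K] {s : R} (c : Compl K s)

theorem m₃_bijective (Y : D) (hY : Div s Y) : Function.Bijective (fun y : Y ⟶ c.T => y ≫ c.m₃) := by
  constructor
  · intro a b hab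
    dsimp only at hab
    rw [← sub_eq_zero]
    have h1 : (a - b) ≫ c.m₃ = 0 := by rw [Preadditive.sub_comp, hab, sub_self]
    obtain ⟨w, z, hz⟩ : ∃ (w : c.L⟦(-1 : ℤ)⟧ ⟶ c.T) (z : Y ⟶ c.L⟦(-1 : ℤ)⟧), a - b = z ≫ w :=
      ⟨_, Triangle.coyoneda_exact₂ _ (inv_rot_of_distTriang _ c.dist) (a - b) h1⟩
    rw [hz, hY.hom_eq_zero (c.cpl.shift (-1)) z, zero_comp]
  · intro y
    obtain ⟨z, hz⟩ : ∃ z : Y ⟶ c.T, y = z ≫ c.m₃ :=
      Triangle.coyoneda_exact₂ _ c.dist y (hY.hom_eq_zero c.cpl _)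
    exact ⟨z, hz.symm⟩

theorem nonempty_iso_of_bijective (c : Compl K s) (T' : D) (hT' : Div s T') (ρ : T' ⟶ K)
    (h : ∀ Y : D, Div s Y → Function.Bijective (fun y : Y ⟶ T' => y ≫ ρ)) : Nonempty (T' ≅ c.T) := by
  obtain ⟨φ, hφ⟩ := (m₃_bijective c T' hT').2 ρ
  obtain ⟨ψ, hψ⟩ := (h c.T c.div).2 c.m₃
  dsimp only at hφ hψ
  refine ⟨⟨φ, ψ, ?_, ?_⟩⟩
  · apply (h T' hT').1
    change (φ ≫ ψ) ≫ ρ = 𝟙 _ ≫ ρ
    rw [Category.assoc, hψ, hφ, Category.id_comp]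
  · apply (m₃_bijective c c.T c.div).1
    change (ψ ≫ φ) ≫ c.m₃ = 𝟙 _ ≫ c.m₃
    rw [Category.assoc, hφ, hψ, Category.id_comp]

theorem oneSub_eq (K : D) [HasProduct fun _ : ℕ => K] (s : R) : (Pi.lift fun n => Pi.π (fun _ : ℕ => K) n -
    Pi.π (fun _ : ℕ => K) (n + 1) ≫ (s • 𝟙 K)) = oneSub K s := by
  apply Pi.hom_ext
  intro n
  rw [Pi.lift_π, oneSub, Preadditive.sub_comp, Category.id_comp, Linear.smul_comp, sgP_π, Linear.comp_smul,
    Category.comp_id]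

theorem isRlim_T : DCoh.IsRlim (fun _ : ℕ => K) (fun _ => s • 𝟙 K) c.T := by
  refine ⟨c.v₁₃, c.w₁₃, ?_⟩
  rw [oneSub_eq]
  exact c.h₁₃

theorem isRlim_of_iso {T' : D} (e : T' ≅ c.T) : DCoh.IsRlim (fun _ : ℕ => K) (fun _ => s • 𝟙 K) T' := by
  refine ⟨e.hom ≫ c.v₁₃, c.w₁₃ ≫ e.inv⟦(1 : ℤ)⟧', ?_⟩
  rw [oneSub_eq]
  refine isomorphic_distinguished _ c.h₁₃ _ (Triangle.isoMk _ _ e (Iso.refl _) (Iso.refl _) ?_ ?_ ?_)
  · change (e.hom ≫ c.v₁₃) ≫ 𝟙 _ = e.hom ≫ c.v₁₃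
    rw [Category.comp_id]
  · change oneSub K s ≫ 𝟙 _ = 𝟙 _ ≫ oneSub K s
    rw [Category.comp_id, Category.id_comp]
  · change (c.w₁₃ ≫ e.inv⟦(1 : ℤ)⟧') ≫ e.hom⟦(1 : ℤ)⟧' = 𝟙 _ ≫ c.w₁₃
    rw [Category.assoc, ← Functor.map_comp, e.inv_hom_id, CategoryTheory.Functor.map_id, Category.id_comp]
    exact Category.comp_id _

/-- any derived limit of the tower is isomorphic to `T`. -/
theorem iso_of_isRlim {L : D} (hL : DCoh.IsRlim (fun _ : ℕ => K) (fun _ => s • 𝟙 K) L) : Nonempty (L ≅ c.T) := by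
  obtain ⟨a, w, hT⟩ := hL
  rw [oneSub_eq] at hT
  let e := Pretriangulated.isoTriangleOfIso₁₂ _ _ (rot_of_distTriang _ hT) (rot_of_distTriang _ c.h₁₃)
    (Iso.refl (Pw K)) (Iso.refl (Pw K)) (by
      change oneSub K s ≫ 𝟙 _ = 𝟙 _ ≫ oneSub K s
      rw [Category.comp_id, Category.id_comp])
  exact ⟨(shiftFunctor D (1 : ℤ)).preimageIso (Triangle.π₃.mapIso e)⟩

end Compl

end K779.Tri4
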